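import Groth.Agent.Ram24.TotRam

/-!
# Eisenstein extensions are totally ramified and are weak solutions for weakly unramified extensions
-/

universe u

open IsLocalRing Polynomial TensorProduct

namespace Ram24

section Field

variable {A : Type u} [CommRing A] [IsDomain A] [IsDiscreteValuationRing A] {f : A[X]}
  (hf : f.Monic) (hd : 0 < f.natDegree) (hlow : ∀ i < f.natDegree, f.coeff i ∈ maximalIdeal A)
  (h0 : maximalIdeal A = Ideal.span {f.coeff 0})
  {K₁ : Type u} [Field K₁] (g : A →+* K₁) (hg : Function.Injective g) (z : K₁) (hz : f.eval₂ g z = 0)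

include hf hd hlow h0 hg in
theorem eis_lift_injective : Function.Injective (AdjoinRoot.lift g z hz) := by
  obtain ⟨_, _, -⟩ := dvr_of_eisenstein hf hd hlow h0
  have : Module.Finite A (AdjoinRoot f) := hf.finite_adjoinRoot
  rw [RingHom.injective_iff_ker_eq_bot]
  refine Ideal.eq_bot_of_comap_eq_bot (R := A) ?_
  rw [RingHom.comap_ker, show (AdjoinRoot.lift g z hz).comp (algebraMap A _) = g from
    RingHom.ext fun _ => AdjoinRoot.lift_of hz, (RingHom.injective_iff_ker_eq_bot g).mp hg]

include hf hd hlow h0 hg in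
theorem eis_isTotallyRamified
    (hgen : ∀ y : K₁, ∃ a b : AdjoinRoot f,
      AdjoinRoot.lift g z hz b ≠ 0 ∧ y * AdjoinRoot.lift g z hz b = AdjoinRoot.lift g z hz a) :
    EtRam.IsTotallyRamified A g := by
  obtain ⟨_, _, hmax⟩ := dvr_of_eisenstein hf hd hlow h0
  set D := AdjoinRoot f
  have : Module.Finite A D := hf.finite_adjoinRoot
  set ψ : D →+* K₁ := AdjoinRoot.lift g z hz
  have hψinj : Function.Injective ψ := eis_lift_injective hf hd hlow h0 g hg z hz
  have hψA : ∀ a, ψ (algebraMap A D a) = g a := fun _ => AdjoinRoot.lift_of hz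
  have hc0 : algebraMap A D (f.coeff 0) ≠ 0 := fun h => by
    have := congrArg ψ h
    rw [hψA, map_zero, map_eq_zero_iff _ hg] at this
    exact ((IsDiscreteValuationRing.irreducible_iff_uniformizer _).mpr h0).ne_zero this
  have hmap : ∀ a ∈ maximalIdeal A, algebraMap A D a ∈ maximalIdeal D := fun a ha =>
    map_maximalIdeal_le_of_isMaximal hf _ (Ideal.mem_map_of_mem _ ha)
  have hle : ∀ V : ValuationSubring K₁, EtRam.Dominates A g V → ∀ d, ψ d ∈ V :=
    fun V hV => mem_of_isIntegral ψ V fun a => (hψA a).symm ▸ hV.1 a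
  have hlt : ∀ V : ValuationSubring K₁, EtRam.Dominates A g V → ∀ d ∈ maximalIdeal D,
      V.valuation (ψ d) < 1 := fun V hV =>
    valuation_lt_one_of_mem_maximalIdeal ψ V (hle V hV)
      ⟨_, hc0, (hψA _).symm ▸ hV.2 _ (h0 ▸ Ideal.mem_span_singleton_self _)⟩
  refine ⟨⟨rangeVS ψ hgen, fun a => ⟨algebraMap A D a, hψA a⟩, fun a ha => ?_⟩, fun V V' hV hV' => ?_,
    fun V h => ?_⟩
  · have hmem : g a ∈ rangeVS ψ hgen := ⟨algebraMap A D a, hψA a⟩
    refine (ValuationSubring.valuation_lt_one_iff _ ⟨g a, hmem⟩).mp ?_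
    rw [mem_maximalIdeal]
    intro hu
    obtain ⟨⟨w, hw⟩, hwmul⟩ := hu.exists_right_inv
    obtain ⟨d, hd'⟩ := hw
    have h1 : g a * w = 1 := congrArg Subtype.val hwmul
    rw [← hψA, ← hd', ← map_mul, ← map_one ψ] at h1
    exact (mem_maximalIdeal _).mp (hmap a ha) (IsUnit.of_mul_eq_one d (hψinj h1))
  · ext y
    rw [mem_iff_mem_range ψ hgen V (hle V hV) (hlt V hV),
      mem_iff_mem_range ψ hgen V' (hle V' hV') (hlt V' hV')]
  · intro y
    obtain ⟨y, rfl⟩ := residue_surjective (R := V) y
    obtain ⟨d, hd'⟩ := (mem_iff_mem_range ψ hgen V (hle V h) (hlt V h) y).mp y.2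
    obtain ⟨a, ha⟩ := residue_surjective_of_eisenstein hf hd hlow h0 d
    refine ⟨a, ?_⟩
    rw [← hmax] at ha
    have h1 := hlt V h _ ha
    rw [map_sub, hψA, hd'] at h1
    have h2 : (y - RingHom.codRestrict g V h.1 a : V) ∈ maximalIdeal V :=
      (ValuationSubring.valuation_lt_one_iff _ _).mpr h1
    rw [← residue_eq_zero_iff, map_sub, sub_eq_zero] at h2
    exact h2.symm

include hf hd hlow h0 in
theorem eis_map_maximalIdeal :
    ∀ [IsLocalRing (AdjoinRoot f)], (maximalIdeal A).map (algebraMap A (AdjoinRoot f)) =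
      Ideal.span {AdjoinRoot.root f} ^ f.natDegree := by
  intro _
  obtain ⟨_, _, hmax⟩ := dvr_of_eisenstein hf hd hlow h0
  set r := AdjoinRoot.root f
  set c := algebraMap A (AdjoinRoot f) (f.coeff 0)
  have hrel : r ^ f.natDegree = - ∑ i ∈ Finset.range f.natDegree,
      algebraMap A (AdjoinRoot f) (f.coeff i) * r ^ i := by
    have h : aeval r f = 0 := by rw [AdjoinRoot.aeval_eq, AdjoinRoot.mk_self]
    rw [aeval_eq_sum_range, Finset.sum_range_succ, hf.coeff_natDegree, one_smul] at h
    rw [eq_neg_of_add_eq_zero_right h]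
    congr 1
    exact Finset.sum_congr rfl fun i _ => Algebra.smul_def _ _
  rw [h0, Ideal.map_span, Set.image_singleton, Ideal.span_singleton_pow]
  -- the sum is `c` times a unit
  have hmem : ∀ i ∈ Finset.range f.natDegree, i ≠ 0 →
      ∃ s, algebraMap A (AdjoinRoot f) (f.coeff i) * r ^ i = c * (r * s) := by
    intro i hi hi0
    have := hlow i (Finset.mem_range.mp hi)
    rw [h0, Ideal.mem_span_singleton] at this
    obtain ⟨b, hb⟩ := this
    exact ⟨algebraMap A _ b * r ^ (i - 1), by
      rw [hb, map_mul, ← mul_pow_sub_one hi0]; ring⟩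
  have hdvd : ∃ s, ∑ i ∈ (Finset.range f.natDegree).erase 0,
      algebraMap A (AdjoinRoot f) (f.coeff i) * r ^ i = c * (r * s) := by
    suffices c * r ∣ ∑ i ∈ (Finset.range f.natDegree).erase 0,
        algebraMap A (AdjoinRoot f) (f.coeff i) * r ^ i by
      obtain ⟨s, hs⟩ := this
      exact ⟨s, by rw [hs, mul_assoc]⟩
    refine Finset.dvd_sum fun i hi => ?_
    obtain ⟨hi0, hi⟩ := Finset.mem_erase.mp hi
    obtain ⟨s, hs⟩ := hmem i hi hi0
    exact ⟨s, by rw [hs, mul_assoc]⟩
  obtain ⟨s, hs⟩ := hdvd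
  rw [← Finset.add_sum_erase _ _ (Finset.mem_range.mpr hd), pow_zero, mul_one, hs] at hrel
  refine Ideal.span_singleton_eq_span_singleton.mpr ?_
  have hu : IsUnit (-(1 + r * s)) := by
    refine IsUnit.neg ?_
    by_contra hnu
    have h1 : (1 + r * s) ∈ maximalIdeal (AdjoinRoot f) := (mem_maximalIdeal _).mpr hnu
    have h2 : r * s ∈ maximalIdeal (AdjoinRoot f) :=
      Ideal.mul_mem_right _ _ (hmax ▸ Ideal.mem_span_singleton_self r)
    exact (maximalIdeal.isMaximal (AdjoinRoot f)).ne_top ((Ideal.eq_top_iff_one _).mpr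
      (by simpa using sub_mem h1 h2))
  exact ⟨hu.unit, by rw [IsUnit.unit_spec, hrel]; ring⟩

end Field

section Extension

variable {A : Type u} [CommRing A] [IsDomain A] [IsDiscreteValuationRing A] {f : A[X]}
  (hf : f.Monic) (hd : 0 < f.natDegree) (hlow : ∀ i < f.natDegree, f.coeff i ∈ maximalIdeal A)
  (h0 : maximalIdeal A = Ideal.span {f.coeff 0})
  (K : Type u) [Field K] [Algebra A K] [IsFractionRing A K]
  (B L : Type u) [CommRing B] [IsDomain B] [IsDiscreteValuationRing B] [Algebra A B]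
  [IsLocalHom (algebraMap A B)]
  [Field L] [Algebra B L] [IsFractionRing B L] [Algebra K L] [Algebra A L]
  [IsScalarTower A K L] [IsScalarTower A B L] (hw : EtRam.IsWeaklyUnramified A B)

include hf hd hlow h0 hw in
theorem eis_map :
    (f.map (algebraMap A B)).Monic ∧ 0 < (f.map (algebraMap A B)).natDegree ∧
    (∀ i < (f.map (algebraMap A B)).natDegree, (f.map (algebraMap A B)).coeff i ∈ maximalIdeal B) ∧
    maximalIdeal B = Ideal.span {(f.map (algebraMap A B)).coeff 0} := by
  have hdeg : (f.map (algebraMap A B)).natDegree = f.natDegree := hf.natDegree_map _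
  refine ⟨hf.map _, hdeg ▸ hd, fun i hi => ?_, ?_⟩
  · rw [coeff_map]
    exact map_nonunit (algebraMap A B) _ (hlow i (hdeg ▸ hi))
  · rw [coeff_map, ← hw, h0, Ideal.map_span, Set.image_singleton]

include hf hd hlow h0 hw in
theorem eis_isField_tensor : IsField (L ⊗[K] AdjoinRoot (f.map (algebraMap A K))) := by
  refine isField_tensor_adjoinRoot ((hf.irreducible_iff_irreducible_map_fraction_map).mp
    (irreducible_of_eisenstein hf hd hlow h0)) ?_
  obtain ⟨hf', hd', hlow', h0'⟩ := eis_map hf hd hlow h0 B hw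
  rw [Polynomial.map_map, ← IsScalarTower.algebraMap_eq, IsScalarTower.algebraMap_eq A B L,
    ← Polynomial.map_map]
  exact (hf'.irreducible_iff_irreducible_map_fraction_map).mp
    (irreducible_of_eisenstein hf' hd' hlow' h0')

include hf hd hlow h0 hw in
theorem eis_isWeakSolution (K₁ : Type u) [Field K₁] [Algebra K K₁] (z : K₁)
    (hzK : aeval z (f.map (algebraMap A K)) = 0) (hgenK : Algebra.adjoin K {z} = ⊤) :
    EtRam.IsWeakSolution B K L K₁ := by
  intro N _ _ _ _ _ _ hgen W hW
  obtain ⟨hf', hd', hlow', h0'⟩ := eis_map hf hd hlow h0 B hw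
  let β : B →+* N := (algebraMap L N).comp (algebraMap B L)
  have hβ : Function.Injective β := (algebraMap L N).injective.comp (IsFractionRing.injective B L)
  let zN : N := algebraMap K₁ N (z)
  have hcomm : ∀ a : A, algebraMap K₁ N (algebraMap K K₁ (algebraMap A K a))
      = β (algebraMap A B a) := by
    intro a
    show _ = algebraMap L N (algebraMap B L (algebraMap A B a))
    rw [← IsScalarTower.algebraMap_apply A B L, IsScalarTower.algebraMap_apply A K L,
      ← IsScalarTower.algebraMap_apply K L N, ← IsScalarTower.algebraMap_apply K K₁ N]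
  have hz : (f.map (algebraMap A B)).eval₂ β zN = 0 := by
    rw [eval₂_map]
    have h1 : algebraMap K₁ N (f.eval₂ ((algebraMap K K₁).comp (algebraMap A K)) z) = algebraMap K₁ N 0 :=
      congrArg _ (by rwa [← eval₂_map, ← aeval_def])
    rw [hom_eval₂, map_zero] at h1
    convert! h1 using 2
    exact RingHom.ext fun a => (hcomm a).symm
  obtain ⟨_, _, hmax⟩ := dvr_of_eisenstein hf' hd' hlow' h0'
  set D := AdjoinRoot (f.map (algebraMap A B))
  have : Module.Finite B D := hf'.finite_adjoinRoot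
  let ψ : D →+* N := AdjoinRoot.lift β zN hz
  have hψB : ∀ b, ψ (algebraMap B D b) = β b := fun _ => AdjoinRoot.lift_of hz
  have hψinj : Function.Injective ψ := eis_lift_injective hf' hd' hlow' h0' β hβ zN hz
  refine isWeaklyUnramified_inclOfComap ψ (algebraMap K₁ N) W
    (exists_frac_of_closure ψ hψinj (Set.range (algebraMap L N) ∪ {zN}) ?_ ?_)
    (mem_of_isIntegral ψ W fun b => (hψB b).symm ▸ hW.1 b)
    ⟨algebraMap B D ((f.map (algebraMap A B)).coeff 0), ?_, ?_⟩
    (AdjoinRoot.root _) hmax (z) (AdjoinRoot.lift_root hz).symm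
  · rintro y (⟨l, rfl⟩ | rfl)
    · obtain ⟨a, b, hb, rfl⟩ := IsFractionRing.div_surjective (A := B) l
      have hb0 : β b ≠ 0 := (map_ne_zero_iff _ hβ).mpr (nonZeroDivisors.ne_zero hb)
      refine ⟨algebraMap B D a, algebraMap B D b, by rwa [hψB], ?_⟩
      rw [hψB, hψB, map_div₀]
      exact div_mul_cancel₀ _ hb0
    · exact ⟨AdjoinRoot.root _, 1, by simp, by simp [ψ, D, AdjoinRoot.lift_root hz]⟩
  · refine subfield_eq_top (K := K) hgen _ (fun l => Subfield.subset_closure (Or.inl ⟨l, rfl⟩)) fun x => ?_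
    have hx : x ∈ Algebra.adjoin K ({z} : Set K₁) := hgenK ▸ trivial
    induction hx using Algebra.adjoin_induction with
    | mem y hy => rw [Set.mem_singleton_iff.mp hy]; exact Subfield.subset_closure (Or.inr rfl)
    | algebraMap k =>
      refine Subfield.subset_closure (Or.inl ⟨algebraMap K L k, ?_⟩)
      rw [← IsScalarTower.algebraMap_apply K K₁ N, ← IsScalarTower.algebraMap_apply K L N]
    | add a b _ _ ha hb => rw [map_add]; exact add_mem ha hb
    | mul a b _ _ ha hb => rw [map_mul]; exact mul_mem ha hb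
  · intro h
    have := congrArg ψ h
    rw [hψB, map_zero, map_eq_zero_iff _ hβ] at this
    exact ((IsDiscreteValuationRing.irreducible_iff_uniformizer _).mpr h0').ne_zero this
  · rw [hψB]
    exact hW.2 _ (h0'.symm ▸ Ideal.mem_span_singleton_self _)

end Extension

end Ram24
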