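import Groth.Agent.Ram24.RootCriteria

/-!
# Roots of polynomials with reduction `X ^ p - X`
-/

universe u

open IsLocalRing Polynomial

namespace Ram24

section Scale

variable {A K : Type u} [CommRing A] [Field K] [Algebra A K]

/-- Scaling the roots multiplies the value by a power. -/
theorem aeval_scaleRoots_eq {S : Type u} [CommRing S] [Algebra A S] {P : A[X]} {p : ℕ}
    (hd : P.natDegree = p) (r : A) (x : S) :
    aeval (algebraMap A S r * x) (P.scaleRoots r) = algebraMap A S r ^ p * aeval x P := by
  simp only [aeval_eq_sum_range, natDegree_scaleRoots, hd, Finset.mul_sum, coeff_scaleRoots,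
    Algebra.smul_def, map_mul, map_pow, mul_pow]
  refine Finset.sum_congr rfl fun i hi => ?_
  rw [Finset.mem_range] at hi
  obtain ⟨j, rfl⟩ : ∃ j, p = i + j := ⟨p - i, by omega⟩
  rw [Nat.add_sub_cancel_left, pow_add]
  ring

end Scale

variable {A K L : Type u} [CommRing A] [IsDomain A] [IsDiscreteValuationRing A] [Field K]
  [Algebra A K] [IsFractionRing A K] [Field L] [Algebra K L] [Algebra A L] [IsScalarTower A K L]
  {p : ℕ} [Fact p.Prime] [CharP (ResidueField A) p] {P : A[X]} (hP : P.Monic)
  (hPd : P.natDegree = p) (hPr : P.map (residue A) = X ^ p - X)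

include hP hPd in
theorem integral_of_aeval_eq {ξ : K} {z : L} (hz : aeval z P = algebraMap K L ξ) : IsIntegral K z := by
  refine ⟨P.map (algebraMap A K) - C ξ, (hP.map _).sub_of_left ?_, ?_⟩
  · rw [degree_eq_natDegree (hP.map _).ne_zero, hP.natDegree_map, hPd]
    exact lt_of_le_of_lt degree_C_le (by exact_mod_cast (Fact.out : p.Prime).pos)
  · rw [eval₂_sub, eval₂_C, eval₂_map, ← IsScalarTower.algebraMap_eq, ← aeval_def, hz, sub_self]

include hP hPd in
theorem generator_facts {ξ : K} {z : L} (hz : aeval z P = algebraMap K L ξ)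
    (hgen : IntermediateField.adjoin K {z} = ⊤) :
    FiniteDimensional K L ∧ Algebra.adjoin K {z} = ⊤ ∧ Module.finrank K L ≤ p := by
  have hint := integral_of_aeval_eq hP hPd hz
  have hadj : Algebra.adjoin K ({z} : Set L) = ⊤ := by
    rw [← IntermediateField.adjoin_simple_toSubalgebra_of_isAlgebraic hint.isAlgebraic, hgen,
      IntermediateField.top_toSubalgebra]
  have hdl : (P.map (algebraMap A K) - C ξ).natDegree ≤ p :=
    (natDegree_sub_le _ _).trans (max_le ((hP.natDegree_map _).trans hPd).le (by simp))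
  have hne : P.map (algebraMap A K) - C ξ ≠ 0 := fun h => by
    have := congrArg (coeff · p) h
    rw [coeff_sub, coeff_C_ne_zero (Fact.out : p.Prime).ne_zero, sub_zero, coeff_map, ← hPd,
      hP.coeff_natDegree, map_one, coeff_zero] at this
    exact one_ne_zero this
  have hroot : aeval z (P.map (algebraMap A K) - C ξ) = 0 := by
    rw [map_sub, aeval_map_algebraMap, aeval_C, hz, sub_self]
  have hfin : FiniteDimensional K L := by
    have := IntermediateField.adjoin.finiteDimensional hint
    rw [hgen] at this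
    exact IntermediateField.topEquiv.toLinearEquiv.finiteDimensional
  refine ⟨hfin, hadj, ?_⟩
  rw [← IntermediateField.finrank_top', ← hgen, IntermediateField.adjoin.finrank hint]
  exact (natDegree_le_of_dvd (minpoly.dvd K z hroot) hne).trans hdl

include hP hPd hPr in
/-- Integral right hand side: unramified. -/
theorem unramified_of_integral {ξ : K} {z : L} (hz : aeval z P = algebraMap K L ξ)
    (hgen : IntermediateField.adjoin K {z} = ⊤) (a : A) (ha : algebraMap A K a = ξ) :
    EtRam.IsUnramifiedExt A (algebraMap A L) := by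
  obtain ⟨_, hadj, -⟩ := generator_facts hP hPd hz hgen
  refine isUnramifiedExt_of_separable_reduction (K := K) (g := P - C a) (hP.sub_of_left ?_) ?_ z ?_ hadj
  · rw [degree_eq_natDegree hP.ne_zero, hPd]
    exact lt_of_le_of_lt degree_C_le (by exact_mod_cast (Fact.out : p.Prime).pos)
  · rw [Polynomial.map_sub, map_C, hPr, separable_def, derivative_sub, derivative_C, sub_zero,
      derivative_sub, derivative_X_pow, derivative_X, CharP.cast_eq_zero, map_zero, zero_mul, zero_sub]
    exact ⟨0, -1, by ring⟩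
  · rw [map_sub, aeval_C, hz, ← ha, ← IsScalarTower.algebraMap_apply, sub_self]

omit [Fact p.Prime] [CharP (ResidueField A) p] [IsFractionRing A K] in
theorem valuation_aeval_eq_pow (hP : P.Monic) (hPd : P.natDegree = p) (V : ValuationSubring L)
    (hA : ∀ a, algebraMap A L a ∈ V) {z : L} (hz : 1 < V.valuation z) :
    V.valuation (aeval z P) = V.valuation z ^ p := by
  rw [aeval_eq_sum_range, hPd]
  rw [V.valuation.map_sum_eq_of_lt (j := p) (Finset.self_mem_range_succ p) fun i hi => ?_,
    ← hPd, hP.coeff_natDegree, one_smul, map_pow]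
  rw [Finset.mem_sdiff, Finset.mem_range, Finset.mem_singleton] at hi
  rw [← hPd, hP.coeff_natDegree, one_smul, map_pow, Algebra.smul_def, map_mul, map_pow, hPd]
  exact lt_of_le_of_lt (mul_le_of_le_one_left' ((V.valuation_le_one_iff _).mpr (hA _)))
    (pow_lt_pow_right₀ hz (by omega))

include hP hPd in
/-- Pole order prime to `p`: totally ramified. -/
theorem totallyRamified_of_pole {π : A} (hπ : Irreducible π) {ξ : K} {z : L}
    (hz : aeval z P = algebraMap K L ξ) (hgen : IntermediateField.adjoin K {z} = ⊤) {n : ℕ}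
    (a : Aˣ) (hn : 0 < n) (hpn : ¬ p ∣ n) (ha : ξ * algebraMap A K π ^ n = algebraMap A K a) :
    EtRam.IsTotallyRamified A (algebraMap A L) ∧ Module.finrank K L = p := by
  have hp : p.Prime := Fact.out
  obtain ⟨_, hadj, hdeg⟩ := generator_facts hP hPd hz hgen
  have hcop : Nat.Coprime n p := (hp.coprime_iff_not_dvd.mpr hpn).symm
  obtain ⟨m, -, hm⟩ := Nat.exists_mul_mod_eq_one_of_coprime hcop hp.one_lt
  -- `n * m ≡ 1`, so `i := m * (p - 1)` satisfies `n * i + 1 ≡ 0`
  obtain ⟨i, j, hij⟩ : ∃ i j : ℕ, p * j = n * i + 1 := by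
    have h1 : n * m = p * (n * m / p) + 1 := by
      conv_lhs => rw [← Nat.div_add_mod (n * m) p]
      rw [hm]
    obtain ⟨q, hq⟩ : ∃ q, p = q + 2 := ⟨p - 2, by have := hp.two_le; omega⟩
    refine ⟨m * (q + 1), (n * m / p) * (q + 1) + 1, ?_⟩
    generalize n * m / p = d at h1 ⊢
    rw [← mul_assoc, h1]
    subst hq
    ring
  refine isTotallyRamified_of_root_value (K := K) hp.pos hdeg hπ (z ^ i * algebraMap A L π ^ j)
    fun V hV => ?_
  set Pi := V.valuation (algebraMap A L π)
  have hπlt : Pi < 1 := hV.2 π ((mem_maximalIdeal _).mpr hπ.not_isUnit)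
  have hPi0 : Pi ≠ 0 := by
    refine V.valuation.ne_zero_iff.mpr ?_
    rw [IsScalarTower.algebraMap_apply A K L]
    exact (map_ne_zero_iff _ (algebraMap K L).injective).mpr
      ((map_ne_zero_iff _ (IsFractionRing.injective A K)).mpr hπ.ne_zero)
  have hξ : V.valuation (algebraMap K L ξ) * Pi ^ n = 1 := by
    rw [← map_pow, ← map_mul]
    rw [show algebraMap K L ξ * algebraMap A L π ^ n = algebraMap A L a by
      rw [IsScalarTower.algebraMap_apply A K L a, ← ha, map_mul, map_pow,
        ← IsScalarTower.algebraMap_apply]]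
    exact ValuationSubring.valuation_unit V ((a.isUnit.map ((algebraMap A L).codRestrict V hV.1)).unit)
  have hξ1 : 1 < V.valuation (algebraMap K L ξ) := by
    by_contra h
    refine absurd hξ (ne_of_lt ?_)
    exact lt_of_le_of_lt (mul_le_of_le_one_left' (not_lt.mp h)) (pow_lt_one₀ zero_le hπlt hn.ne')
  have hz1 : 1 < V.valuation z := by
    by_contra h
    have hzV : z ∈ V := (V.valuation_le_one_iff z).mp (not_lt.mp h)
    refine absurd hξ1 (not_lt.mpr ((V.valuation_le_one_iff _).mpr ?_))
    rw [← hz, aeval_eq_sum_range]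
    exact sum_mem fun k _ => by rw [Algebra.smul_def]; exact mul_mem (hV.1 _) (pow_mem hzV k)
  have hzp : V.valuation z ^ p * Pi ^ n = 1 := by
    rw [← valuation_aeval_eq_pow (A := A) hP hPd V hV.1 hz1, hz, hξ]
  rw [map_mul, map_pow, map_pow, mul_pow, ← pow_mul, ← pow_mul, mul_comm i p, pow_mul,
    mul_comm j p, hij, pow_succ, pow_mul, ← mul_assoc, ← mul_pow, hzp, one_pow, one_mul]

include hP hPd hPr in
theorem scaleRoots_residue {r : A} (hr : r ∈ maximalIdeal A) :
    (P.scaleRoots r).map (residue A) = X ^ p := by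
  ext i
  rw [coeff_map, coeff_scaleRoots, hPd, coeff_X_pow]
  by_cases hi : i = p
  · rw [if_pos hi, hi, Nat.sub_self, pow_zero, mul_one, ← hPd, hP.coeff_natDegree, map_one]
  · rw [if_neg hi]
    rcases lt_or_gt_of_ne hi with h | h
    · rw [map_mul, map_pow, (residue_eq_zero_iff r).mpr hr, zero_pow (by omega), mul_zero]
    · rw [coeff_eq_zero_of_natDegree_lt (by omega), zero_mul, map_zero]

include hP hPd hPr in
/-- Pole order divisible by `p`, leading coefficient not a `p`-th power modulo the maximal ideal. -/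
theorem inert_of_pole {π : A} (hπ : Irreducible π) {ξ : K} {z : L}
    (hz : aeval z P = algebraMap K L ξ) (hgen : IntermediateField.adjoin K {z} = ⊤) {n : ℕ} (a : A)
    (hn : 0 < n) (hpn : p ∣ n) (hnp : ∀ r : A, residue A a ≠ residue A r ^ p)
    (ha : ξ * algebraMap A K π ^ n = algebraMap A K a) :
    IsInertPurelyInseparable A (algebraMap A L) p ∧ Module.finrank K L = p := by
  have hp : p.Prime := Fact.out
  obtain ⟨_, hadj, -⟩ := generator_facts hP hPd hz hgen
  obtain ⟨m, rfl⟩ := hpn
  have hm : 0 < m := Nat.pos_of_ne_zero fun h => by simp [h] at hn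
  have hπ0 : algebraMap A L π ≠ 0 := by
    rw [IsScalarTower.algebraMap_apply A K L]
    exact (map_ne_zero_iff _ (algebraMap K L).injective).mpr
      ((map_ne_zero_iff _ (IsFractionRing.injective A K)).mpr hπ.ne_zero)
  have hm' : π ^ m ∈ maximalIdeal A :=
    Ideal.pow_mem_of_mem _ ((mem_maximalIdeal _).mpr hπ.not_isUnit) m hm
  refine isInertPurelyInseparable_of_root hp (g := P.scaleRoots (π ^ m) - C a)
    (((monic_scaleRoots_iff _).mpr hP).sub_of_left ?_) (residue A a) ?_ (fun r h => ?_)
    (algebraMap A L (π ^ m) * z) ?_ ?_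
  · rw [degree_eq_natDegree (((monic_scaleRoots_iff _).mpr hP)).ne_zero, natDegree_scaleRoots, hPd]
    exact lt_of_le_of_lt degree_C_le (by exact_mod_cast hp.pos)
  · rw [Polynomial.map_sub, map_C, scaleRoots_residue hP hPd hPr hm']
  · obtain ⟨r, rfl⟩ := residue_surjective r
    exact hnp r h.symm
  · rw [map_sub, aeval_C, aeval_scaleRoots_eq hPd, hz, map_pow, ← pow_mul, Nat.mul_comm m p,
      IsScalarTower.algebraMap_apply A K L a, ← ha, map_mul, map_pow, IsScalarTower.algebraMap_apply A K L π]
    ring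
  · rw [eq_top_iff, ← hadj]
    refine Algebra.adjoin_le (Set.singleton_subset_iff.mpr ?_)
    set S := Algebra.adjoin K ({algebraMap A L (π ^ m) * z} : Set L)
    have hc : algebraMap A L (π ^ m) = algebraMap K L (algebraMap A K (π ^ m)) :=
      IsScalarTower.algebraMap_apply A K L _
    have hz' : z = algebraMap K L (algebraMap A K (π ^ m))⁻¹ * (algebraMap A L (π ^ m) * z) := by
      rw [hc, ← mul_assoc, ← map_mul, inv_mul_cancel₀, map_one, one_mul]
      exact (map_ne_zero_iff _ (IsFractionRing.injective A K)).mpr (pow_ne_zero _ hπ.ne_zero)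
    rw [SetLike.mem_coe, hz']
    exact mul_mem (S.algebraMap_mem _) (Algebra.self_mem_adjoin_singleton _ _)

include hP hPd hPr in
/-- A residual `p`-th power lowers the pole order. -/
theorem pole_step {π : A} (hπ : Irreducible π) {ξ : K} (a r c : A) (m : ℕ)
    (hm : 0 < m) (hr : residue A a = residue A r ^ p)
    (ha : ξ * algebraMap A K π ^ (p * m) = algebraMap A K a) :
    ∃ η : K, 1 + algebraMap A K (π ^ (m + 1) * c) * η ≠ 0 ∧ ∃ b : A,
      (ξ + aeval η P + algebraMap A K (π ^ (m + 1) * c) ^ p * ξ * aeval η P) *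
        algebraMap A K π ^ (p * m - 1) = algebraMap A K b := by
  have hp : p.Prime := Fact.out
  have hπ0 : algebraMap A K π ≠ 0 := (map_ne_zero_iff _ (IsFractionRing.injective A K)).mpr hπ.ne_zero
  have hπm := (mem_maximalIdeal _).mpr hπ.not_isUnit
  set η : K := algebraMap A K (-r) / algebraMap A K π ^ m
  refine ⟨η, ?_, ?_⟩
  · rw [show algebraMap A K (π ^ (m + 1) * c) * η = algebraMap A K (π * c * -r) by
      rw [mul_div_assoc', div_eq_iff (pow_ne_zero _ hπ0), ← map_pow, ← map_mul, ← map_mul]
      ring_nf, ← map_one (algebraMap A K), ← map_add]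
    refine (map_ne_zero_iff _ (IsFractionRing.injective A K)).mpr fun h => ?_
    have h1 : (1 : A) ∈ maximalIdeal A := by
      rw [show (1 : A) = -(π * c * -r) from eq_neg_of_add_eq_zero_left h]
      exact neg_mem (Ideal.mul_mem_right _ _ (Ideal.mul_mem_right _ _ hπm))
    exact (maximalIdeal.isMaximal A).ne_top ((Ideal.eq_top_iff_one _).mpr h1)
  · set S := (P.scaleRoots (π ^ m)).eval (-r)
    have hS : algebraMap A K S = algebraMap A K π ^ (p * m) * aeval η P := by
      have h1 := aeval_scaleRoots_eq (A := A) hPd (π ^ m) η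
      rw [show algebraMap A K (π ^ m) * η = algebraMap A K (-r) by
        rw [map_pow, mul_div_cancel₀ _ (pow_ne_zero _ hπ0)], aeval_algebraMap_apply,
        map_pow, ← pow_mul, Nat.mul_comm m p] at h1
      rw [← h1]
      rfl
    have hbmem : a + S + π ^ p * c ^ p * a * S ∈ maximalIdeal A := by
      refine add_mem ?_ (Ideal.mul_mem_right _ _ (Ideal.mul_mem_right _ _ (Ideal.mul_mem_right _ _
        (Ideal.pow_mem_of_mem _ hπm _ hp.pos))))
      rw [← residue_eq_zero_iff, map_add, hr, show residue A S = residue A (-r) ^ p by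
        show residue A ((P.scaleRoots (π ^ m)).eval (-r)) = _
        rw [← eval₂_at_apply, ← eval_map, scaleRoots_residue hP hPd hPr
          (Ideal.pow_mem_of_mem _ hπm m hm), eval_pow, eval_X], map_neg, ← frobenius_def,
        ← frobenius_def, map_neg, add_neg_cancel]
    rw [(IsDiscreteValuationRing.irreducible_iff_uniformizer π).mp hπ, Ideal.mem_span_singleton] at hbmem
    obtain ⟨b, hb⟩ := hbmem
    refine ⟨b, mul_left_cancel₀ hπ0 ?_⟩
    obtain ⟨k, hk⟩ : ∃ k, p * m = k + 1 := ⟨p * m - 1, by have := Nat.mul_pos hp.pos hm; omega⟩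
    have hb' := congrArg (algebraMap A K) hb
    simp only [map_add, map_mul, map_pow, hS, ← ha] at hb'
    rw [map_mul, map_pow, mul_pow, ← pow_mul, show (m + 1) * p = p * m + p by ring,
      pow_add, hk, Nat.add_sub_cancel, ← hb', hk, pow_succ]
    ring

end Ram24
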