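import Groth.Agent.Ram24.Overring
import Groth.Agent.VarDim1.Semilocal

/-!
# Valuation subrings of a finite extension dominating a discrete valuation ring
-/

universe u

open IsLocalRing Polynomial

namespace Ram24

variable {B L M : Type u} [CommRing B] [IsDomain B] [IsDiscreteValuationRing B] [Field L] [Field M]
  [Algebra B L] [IsFractionRing B L] [Algebra L M] [FiniteDimensional L M]

/-- A valuation subring of a finite extension dominating a DVR is a DVR. -/
theorem dvr_of_dominates (W : ValuationSubring M)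
    (hW : EtRam.Dominates B ((algebraMap L M).comp (algebraMap B L)) W) :
    IsDiscreteValuationRing W := by
  classical
  set g := (algebraMap L M).comp (algebraMap B L)
  obtain ⟨ϖ, hϖ⟩ := IsDiscreteValuationRing.exists_irreducible B
  have hP : W.valuation (g ϖ) < 1 := hW.2 ϖ ((mem_maximalIdeal _).mpr hϖ.not_isUnit)
  have hg : Function.Injective g := (algebraMap L M).injective.comp (IsFractionRing.injective B L)
  have hP0 : W.valuation (g ϖ) ≠ 0 :=
    (W.valuation.ne_zero_iff).mpr ((map_ne_zero_iff _ hg).mpr hϖ.ne_zero)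
  set P := W.valuation (g ϖ)
  have hP0' : (0 : W.ValueGroup) < P := zero_lt_iff.mpr hP0
  -- values of elements of `L`
  have hB : ∀ b : B, b ≠ 0 → ∃ k : ℕ, W.valuation (g b) = P ^ k := by
    intro b hb
    obtain ⟨k, v, rfl⟩ := IsDiscreteValuationRing.eq_unit_mul_pow_irreducible hb hϖ
    refine ⟨k, ?_⟩
    have hv : W.valuation (g v) = 1 := by
      refine le_antisymm ((W.valuation_le_one_iff _).mpr (hW.1 v)) ?_
      have h1 : W.valuation (g v) * W.valuation (g (v⁻¹ : Bˣ)) = 1 := by
        rw [← map_mul, ← map_mul, v.mul_inv, map_one, map_one]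
      calc (1 : W.ValueGroup) = W.valuation (g v) * W.valuation (g (v⁻¹ : Bˣ)) := h1.symm
        _ ≤ W.valuation (g v) * 1 := by
            gcongr
            exact (W.valuation_le_one_iff _).mpr (hW.1 _)
        _ = W.valuation (g v) := mul_one _
    rw [map_mul, map_pow, map_mul, map_pow, hv, one_mul]
  have hL : ∀ l : L, l ≠ 0 → ∃ k : ℤ, W.valuation (algebraMap L M l) = P ^ k := by
    intro l hl
    obtain ⟨a, b, hb, rfl⟩ := IsFractionRing.div_surjective (A := B) l
    have hb0 := nonZeroDivisors.ne_zero hb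
    have ha0 : a ≠ 0 := fun h => hl (by rw [h, map_zero, zero_div])
    obtain ⟨i, hi⟩ := hB a ha0
    obtain ⟨j, hj⟩ := hB b hb0
    refine ⟨(i : ℤ) - j, ?_⟩
    rw [map_div₀, map_div₀]
    show W.valuation (g a) / W.valuation (g b) = _
    rw [hi, hj, zpow_sub₀ hP0, zpow_natCast, zpow_natCast]
  set D := (Module.finrank L M).factorial
  -- values of elements of `M`
  have hM : ∀ x : M, x ≠ 0 → ∃ k : ℤ, W.valuation x ^ D = P ^ k := by
    intro x hx
    have hint : IsIntegral L x := Algebra.IsIntegral.isIntegral x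
    set μ := minpoly L x
    let T := fun i => algebraMap L M (μ.coeff i) * x ^ i
    have hne : μ.support.Nonempty := support_nonempty.mpr (minpoly.ne_zero hint)
    obtain ⟨j, hj, hmax⟩ := μ.support.exists_max_image (fun i => W.valuation (T i)) hne
    have hTj : T j ≠ 0 := mul_ne_zero
      ((map_ne_zero_iff _ (algebraMap L M).injective).mpr (mem_support_iff.mp hj)) (pow_ne_zero _ hx)
    obtain ⟨i, hi, hij, heq⟩ : ∃ i ∈ μ.support, i ≠ j ∧ W.valuation (T i) = W.valuation (T j) := by
      by_contra hcon
      push Not at hcon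
      have hsum : ∑ i ∈ μ.support, T i = 0 := by
        have := minpoly.aeval L x
        rwa [aeval_eq_sum_range, ← Finset.sum_subset (s₁ := μ.support) (s₂ := Finset.range (μ.natDegree + 1))
          (fun i hi => Finset.mem_range.mpr (Nat.lt_succ_of_le (le_natDegree_of_mem_supp i hi)))
          (fun i _ hi => by rw [notMem_support_iff.mp hi, zero_smul]),
          Finset.sum_congr rfl (fun i _ => Algebra.smul_def (μ.coeff i) (x ^ i))] at this
      have hlt := W.valuation.map_sum_eq_of_lt hj fun i hi => by
        rw [Finset.mem_sdiff, Finset.mem_singleton] at hi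
        exact lt_of_le_of_ne (hmax i hi.1) (hcon i hi.1 hi.2)
      rw [hsum, map_zero] at hlt
      exact W.valuation.ne_zero_iff.mpr hTj hlt.symm
    wlog hlt : i < j generalizing i j
    · have hTi : T i ≠ 0 := mul_ne_zero
        ((map_ne_zero_iff _ (algebraMap L M).injective).mpr (mem_support_iff.mp hi)) (pow_ne_zero _ hx)
      exact this i hi (fun k hk => heq ▸ hmax k hk) hTi j hj hij.symm heq.symm
        (lt_of_le_of_ne (not_lt.mp hlt) hij.symm)
    have hci := mem_support_iff.mp hi
    have hcj := mem_support_iff.mp hj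
    obtain ⟨k, hk⟩ := hL (μ.coeff i / μ.coeff j) (div_ne_zero hci hcj)
    have hvx : W.valuation x ≠ 0 := W.valuation.ne_zero_iff.mpr hx
    have hd : W.valuation x ^ (j - i) = P ^ k := by
      simp only [T, map_mul, map_pow] at heq
      rw [map_div₀, map_div₀] at hk
      rw [← hk, eq_div_iff (W.valuation.ne_zero_iff.mpr
        ((map_ne_zero_iff _ (algebraMap L M).injective).mpr hcj))]
      refine mul_right_cancel₀ (pow_ne_zero i hvx) ?_
      rw [heq, mul_right_comm, ← pow_add, Nat.sub_add_cancel hlt.le, mul_comm]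
    have hle : j - i ≤ Module.finrank L M :=
      (Nat.sub_le _ _).trans ((le_natDegree_of_mem_supp j hj).trans (minpoly.natDegree_le x))
    obtain ⟨q, hq⟩ : (j - i) ∣ D := Nat.dvd_factorial (by omega) hle
    exact ⟨k * q, by rw [hq, pow_mul, hd, zpow_mul, zpow_natCast]⟩
  have hinjP : ∀ a b : ℤ, P ^ a = P ^ b → a = b := fun a b h =>
    (zpow_right_strictAnti₀ hP0' hP).injective h
  -- natural exponents on `W`
  have hW' : ∀ x : W, x ≠ 0 → ∃ k : ℕ, W.valuation (x : M) ^ D = P ^ k ∧ (k = 0 ↔ IsUnit x) := by
    intro x hx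
    obtain ⟨k, hk⟩ := hM x (fun h => hx (Subtype.ext h))
    have hk0 : 0 ≤ k := by
      by_contra hneg
      push Not at hneg
      have h1 : (1 : W.ValueGroup) < P ^ k := (one_lt_zpow_iff_right_of_lt_one₀ hP0' hP).mpr hneg
      rw [← hk] at h1
      exact absurd (pow_le_one₀ zero_le (W.valuation_le_one x)) (not_le.mpr h1)
    obtain ⟨m, rfl⟩ := Int.eq_ofNat_of_zero_le hk0
    rw [zpow_natCast] at hk
    refine ⟨m, hk, fun h => ?_, fun h => ?_⟩
    · rw [h, pow_zero] at hk
      exact (W.valuation_eq_one_iff x).mpr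
        ((pow_eq_one_iff.mp hk).resolve_right (Nat.factorial_ne_zero _))
    · rw [(W.valuation_eq_one_iff x).mp h, one_pow, eq_comm] at hk
      have := hinjP m 0 (by rwa [zpow_natCast, zpow_zero])
      omega
  choose n hn using hW'
  let ϖW : W := ⟨g ϖ, hW.1 ϖ⟩
  have hϖ0 : ϖW ≠ 0 := fun h => (map_ne_zero_iff _ hg).mpr hϖ.ne_zero (congrArg Subtype.val h)
  have hϖu : ¬ IsUnit ϖW := fun h => hP.ne ((W.valuation_eq_one_iff ϖW).mp h)
  have hex : ∃ k, ∃ (x : W) (hx : x ≠ 0), n x hx = k ∧ k ≠ 0 :=
    ⟨_, ϖW, hϖ0, rfl, fun h => hϖu ((hn ϖW hϖ0).2.mp h)⟩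
  obtain ⟨π, hπ0, hπn, hk0⟩ := Nat.find_spec hex
  set k₀ := Nat.find hex
  have hπu : ¬ IsUnit π := fun h => hk0 (hπn ▸ (hn π hπ0).2.mpr h)
  have hnle : ∀ x hx, n x hx ≠ 0 → k₀ ≤ n x hx := fun x hx h => Nat.find_le ⟨x, hx, rfl, h⟩
  have hmul : ∀ x y hx hy hxy, n (x * y) hxy = n x hx + n y hy := by
    intro x y hx hy hxy
    have h1 := (hn (x * y) hxy).1
    rw [show ((x * y : W) : M) = (x : M) * y from rfl, map_mul, mul_pow, (hn x hx).1, (hn y hy).1,
      ← pow_add] at h1
    have h2 := hinjP (n (x * y) hxy : ℤ) ((n x hx + n y hy : ℕ) : ℤ)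
      (by rw [zpow_natCast, zpow_natCast]; exact h1.symm)
    exact_mod_cast h2
  have hirr : Irreducible π := by
    refine ⟨hπu, fun a b hab => ?_⟩
    by_contra hcon
    push Not at hcon
    have ha0 : a ≠ 0 := fun h => hπ0 (by rw [hab, h, zero_mul])
    have hb0 : b ≠ 0 := fun h => hπ0 (by rw [hab, h, mul_zero])
    subst hab
    have h1 := hmul a b ha0 hb0 hπ0
    have h2 := hnle a ha0 fun h => hcon.1 ((hn a ha0).2.mp h)
    have h3 := hnle b hb0 fun h => hcon.2 ((hn b hb0).2.mp h)
    omega
  refine IsDiscreteValuationRing.ofHasUnitMulPowIrreducibleFactorization ⟨π, hirr, fun {x} hx => ?_⟩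
  induction hm : n x hx using Nat.strong_induction_on generalizing x with
  | _ m ih =>
    by_cases hu : IsUnit x
    · exact ⟨0, by rw [pow_zero]; exact (associated_one_iff_isUnit.mpr hu).symm⟩
    have hk : k₀ ≤ n x hx := hnle x hx fun h => hu ((hn x hx).2.mp h)
    have hDpos : D ≠ 0 := Nat.factorial_ne_zero _
    have hle : W.valuation (x : M) ≤ W.valuation (π : M) := by
      refine (pow_le_pow_iff_left₀ zero_le zero_le hDpos).mp ?_
      rw [(hn x hx).1, (hn π hπ0).1, hπn]
      exact pow_le_pow_of_le_one zero_le hP.le hk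
    obtain ⟨y, hy⟩ := (W.valuation_le_iff _ _).mp hle
    have hxy : x = π * y := Subtype.ext (by rw [show ((π * y : W) : M) = (π : M) * y from rfl, mul_comm, hy])
    have hy0 : y ≠ 0 := fun h => hx (by rw [hxy, h, mul_zero])
    subst hxy
    have hlt : n y hy0 < m := by
      rw [← hm, hmul π y hπ0 hy0 hx, hπn]; omega
    obtain ⟨i, hi⟩ := ih _ hlt (x := y) hy0 rfl
    exact ⟨i + 1, by rw [pow_succ']; exact hi.mul_left π⟩

omit [FiniteDimensional L M] in
/-- Elements integral over the base lie in every dominating valuation subring. -/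
theorem integralClosure_mem [Algebra B M] [IsScalarTower B L M] (W : ValuationSubring M)
    (hW : EtRam.Dominates B ((algebraMap L M).comp (algebraMap B L)) W) {x : M} (hx : IsIntegral B x) :
    x ∈ W := by
  have : Algebra.IsIntegral B (integralClosure B M) := inferInstance
  exact mem_of_isIntegral (B := B) (integralClosure B M).val.toRingHom W
    (fun b => by
      have := hW.1 b
      rw [RingHom.comp_apply, ← IsScalarTower.algebraMap_apply] at this
      exact this) ⟨x, hx⟩

/-- There are only finitely many dominating valuation subrings. -/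
theorem finite_dominating [Algebra B M] [IsScalarTower B L M] [Module.Finite B (integralClosure B M)] :
    {W : ValuationSubring M |
      EtRam.Dominates B ((algebraMap L M).comp (algebraMap B L)) W}.Finite := by
  classical
  set B' := integralClosure B M
  have hinj : Function.Injective (algebraMap B M) := by
    rw [IsScalarTower.algebraMap_eq B L M]
    exact (algebraMap L M).injective.comp (IsFractionRing.injective B L)
  have hinj' : Function.Injective (algebraMap B B') := fun a b h => hinj (congrArg Subtype.val h :)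
  have : IsFractionRing B' M := integralClosure.isFractionRing_of_finite_extension L M
  have : IsNoetherianRing B' := IsNoetherianRing.of_finite B B'
  have : Ring.DimensionLEOne B' := Ring.DimensionLEOne.isIntegralClosure B B'
  have : Ring.KrullDimLE 1 B' := inferInstance
  have : Finite (MaximalSpectrum B') := by
    have h0 : ((maximalIdeal B).map (algebraMap B B')) ≠ ⊥ :=
      (Ideal.map_eq_bot_iff_of_injective hinj').not.mpr (IsDiscreteValuationRing.not_a_field B)
    have hfin := Ideal.finite_minimalPrimes_of_isNoetherianRing B' ((maximalIdeal B).map (algebraMap B B'))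
    have := hfin.to_subtype
    refine Finite.of_injective (fun m : MaximalSpectrum B' =>
      (⟨m.asIdeal, ?_⟩ : ((maximalIdeal B).map (algebraMap B B')).minimalPrimes)) ?_
    · have hle : (maximalIdeal B).map (algebraMap B B') ≤ m.asIdeal := by
        have := m.isMaximal
        have h := Ideal.isMaximal_comap_of_isIntegral_of_isMaximal (R := B) m.asIdeal
        rw [Ideal.map_le_iff_le_comap]
        exact (IsLocalRing.eq_maximalIdeal h).ge
      refine ⟨⟨m.isMaximal.isPrime, hle⟩, fun q hq hqm => ?_⟩
      have := hq.1.isMaximal (ne_bot_of_le_ne_bot h0 hq.2)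
      exact (this.eq_of_le m.isMaximal.ne_top hqm).ge
    · intro m m' h
      exact MaximalSpectrum.ext (congrArg Subtype.val h)
  have hnf : ¬ IsField B' := fun h =>
    IsDiscreteValuationRing.not_isField B (isField_of_isIntegral_of_isField hinj' h)
  refine (Groth.Agent.VarDim1.finite_valuationSubrings (B := B') (K := M) hnf).subset ?_
  intro W hW
  refine ⟨fun x => integralClosure_mem W hW x.2, fun htop => ?_⟩
  obtain ⟨ϖ, hϖ⟩ := IsDiscreteValuationRing.exists_irreducible B
  have h1 := hW.2 ϖ ((mem_maximalIdeal _).mpr hϖ.not_isUnit)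
  rw [RingHom.comp_apply, ← IsScalarTower.algebraMap_apply] at h1
  have hne : algebraMap B M ϖ ≠ 0 := (map_ne_zero_iff _ hinj).mpr hϖ.ne_zero
  have h2 : W.valuation (algebraMap B M ϖ)⁻¹ ≤ 1 :=
    (W.valuation_le_one_iff _).mpr (htop ▸ ValuationSubring.mem_top _)
  rw [map_inv₀, inv_le_one₀ (zero_lt_iff.mpr (W.valuation.ne_zero_iff.mpr hne))] at h2
  exact absurd h2 (not_le.mpr h1)

end Ram24
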