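import Groth.Agent.Ram24.Approx
import Groth.Agent.Ram24.Dominated

/-!
# Inclusions of valuation subrings along field extensions
-/

universe u

open IsLocalRing Polynomial

namespace Ram24

variable {L M : Type u} [Field L] [Field M] [Algebra L M]
  (U : ValuationSubring L) (U' : ValuationSubring M) (hc : ∀ x : L, algebraMap L M x ∈ U' ↔ x ∈ U)

/-- The inclusion of `U = U' ∩ L` into `U'`. -/
def inclOf : U →+* U' where
  toFun x := ⟨algebraMap L M (x : L), (hc x).mpr x.2⟩
  map_one' := Subtype.ext (map_one _)
  map_mul' _ _ := Subtype.ext (map_mul _ _ _)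
  map_zero' := Subtype.ext (map_zero _)
  map_add' _ _ := Subtype.ext (map_add _ _ _)

@[simp] theorem coe_inclOf (x : U) : ((inclOf U U' hc x : U') : M) = algebraMap L M (x : L) := rfl

theorem inclOf_injective : Function.Injective (inclOf U U' hc) := fun _ _ h =>
  Subtype.ext ((algebraMap L M).injective (congrArg Subtype.val h :))

instance isLocalHom_inclOf : IsLocalHom (inclOf U U' hc) := by
  constructor
  intro x hx
  obtain ⟨u, hu⟩ := hx
  have hmul : algebraMap L M (x : L) * (((u⁻¹ : U'ˣ) : U') : M) = 1 := by
    have h1 := congrArg Subtype.val u.mul_inv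
    rw [hu] at h1
    exact h1
  have hx0 : (x : L) ≠ 0 := fun h => by
    rw [h, map_zero, zero_mul] at hmul; exact zero_ne_one hmul
  have hmem : (x : L)⁻¹ ∈ U := by
    rw [← hc, map_inv₀, ← eq_inv_of_mul_eq_one_right hmul]
    exact (((u⁻¹ : U'ˣ) : U')).2
  exact ⟨⟨x, ⟨_, hmem⟩, Subtype.ext (mul_inv_cancel₀ hx0), Subtype.ext (inv_mul_cancel₀ hx0)⟩, rfl⟩

/-- The map on residue fields. -/
noncomputable def resMap : ResidueField U →+* ResidueField U' := ResidueField.map (inclOf U U' hc)

theorem resMap_residue (x : U) : resMap U U' hc (residue U x) = residue U' (inclOf U U' hc x) :=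
  ResidueField.map_residue _ _

include hc in
theorem dominates_of_hc : EtRam.Dominates U ((algebraMap L M).comp (algebraMap U L)) U' := by
  refine ⟨fun a => (hc _).mpr a.2, fun a ha => ?_⟩
  exact (ValuationSubring.valuation_lt_one_iff U' (inclOf U U' hc a)).mp
    (map_nonunit (inclOf U U' hc) a ha)

include hc in
theorem dvr_of_hc [IsDiscreteValuationRing U] [FiniteDimensional L M] : IsDiscreteValuationRing U' :=
  dvr_of_dominates (B := U) (L := L) U' (dominates_of_hc U U' hc)

variable [IsDiscreteValuationRing U] [IsDiscreteValuationRing U']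

theorem exists_assoc {π : U} (hπ : Irreducible π) {π' : U'} (hπ' : Irreducible π') :
    ∃ e : ℕ, 0 < e ∧ Associated (inclOf U U' hc π) (π' ^ e) := by
  have hne : inclOf U U' hc π ≠ 0 := (map_ne_zero_iff _ (inclOf_injective U U' hc)).mpr hπ.ne_zero
  obtain ⟨e, he⟩ := IsDiscreteValuationRing.associated_pow_irreducible hne hπ'
  refine ⟨e, Nat.pos_of_ne_zero fun h0 => ?_, he⟩
  rw [h0, pow_zero, associated_one_iff_isUnit] at he
  exact hπ.not_isUnit (isUnit_of_map_unit _ _ he)

theorem ramificationIdx_eq {π : U} (hπ : Irreducible π) {π' : U'} (hπ' : Irreducible π') {e : ℕ}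
    (he : Associated (inclOf U U' hc π) (π' ^ e)) :
    letI : Algebra U U' := (inclOf U U' hc).toAlgebra
    Ideal.ramificationIdx' (maximalIdeal U) (maximalIdeal U') = e := by
  let _ : Algebra U U' := (inclOf U U' hc).toAlgebra
  have hm : maximalIdeal U' = Ideal.span {π'} :=
    (IsDiscreteValuationRing.irreducible_iff_uniformizer π').mp hπ'
  have hmap : (maximalIdeal U).map (algebraMap U U') = Ideal.span {π' ^ e} := by
    rw [(IsDiscreteValuationRing.irreducible_iff_uniformizer π).mp hπ, Ideal.map_span,
      Set.image_singleton, Ideal.span_singleton_eq_span_singleton]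
    exact he
  apply Ideal.ramificationIdx'_spec
  · rw [hmap, hm, Ideal.span_singleton_pow]
  · rw [hmap, hm, Ideal.span_singleton_pow, Ideal.span_singleton_le_span_singleton]
    intro h
    exact absurd ((pow_dvd_pow_iff hπ'.ne_zero hπ'.not_isUnit).mp h) (by omega)

theorem resMap_toAlgebra_eq :
    letI : Algebra U U' := (inclOf U U' hc).toAlgebra
    letI : IsLocalHom (algebraMap U U') := isLocalHom_inclOf U U' hc
    (resMap U U' hc).toAlgebra = (inferInstance : Algebra (ResidueField U) (ResidueField U')) :=
  Algebra.algebra_ext _ _ fun r => by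
    obtain ⟨x, rfl⟩ := residue_surjective r
    rfl

/-- `e f ≤ n`. -/
theorem finite_and_mul_finrank_le [FiniteDimensional L M] {π : U} (hπ : Irreducible π) {π' : U'}
    (hπ' : Irreducible π') {e : ℕ} (he : Associated (inclOf U U' hc π) (π' ^ e)) :
    letI : Algebra (ResidueField U) (ResidueField U') := (resMap U U' hc).toAlgebra
    Module.Finite (ResidueField U) (ResidueField U') ∧
      e * Module.finrank (ResidueField U) (ResidueField U') ≤ Module.finrank L M := by
  let _ : Algebra U U' := (inclOf U U' hc).toAlgebra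
  let _ : Algebra U M := ((algebraMap L M).comp (algebraMap U L)).toAlgebra
  have : IsScalarTower U L M := .of_algebraMap_eq fun _ => rfl
  have : IsScalarTower U U' M := .of_algebraMap_eq fun _ => rfl
  have : IsLocalHom (algebraMap U U') := isLocalHom_inclOf U U' hc
  have h := Dvr24.finite_and_mul_le (A := U) (B := U') (K := L) (L := M) (inclOf_injective U U' hc)
  rw [ramificationIdx_eq U U' hc hπ hπ' he] at h
  convert h using 0
  rw [resMap_toAlgebra_eq U U' hc]

/-- Approximable elements. -/
def Approximable (x : U') : Prop :=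
  ∀ k : ℕ, ∃ b : U, x - inclOf U U' hc b ∈ (maximalIdeal U).map (inclOf U U' hc) ^ k

/-- `e f ≥ p` in the absence of defect. -/
theorem le_mul_finrank (p : ℕ) [Fact p.Prime] [CharP L p] [IsPurelyInseparable L M]
    (hdeg : Module.finrank L M = p) (hnd : ∃ x, ¬ Approximable U U' hc x)
    {π : U} (hπ : Irreducible π) {π' : U'} (hπ' : Irreducible π') {e : ℕ}
    (he : Associated (inclOf U U' hc π) (π' ^ e)) :
    letI : Algebra (ResidueField U) (ResidueField U') := (resMap U U' hc).toAlgebra
    p ≤ e * Module.finrank (ResidueField U) (ResidueField U') := by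
  let _ : Algebra U U' := (inclOf U U' hc).toAlgebra
  let _ : Algebra U M := ((algebraMap L M).comp (algebraMap U L)).toAlgebra
  have : IsScalarTower U L M := .of_algebraMap_eq fun _ => rfl
  have : IsScalarTower U U' M := .of_algebraMap_eq fun _ => rfl
  have : IsLocalHom (algebraMap U U') := isLocalHom_inclOf U U' hc
  have h := le_ramificationIdx_mul_finrank (B := U) (C := U') (L := L) (M := M) p hdeg
    (inclOf_injective U U' hc) (fun hall => hnd.elim fun x hx => hx (hall x))
  rw [ramificationIdx_eq U U' hc hπ hπ' he] at h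
  convert h using 0
  rw [resMap_toAlgebra_eq U U' hc]

/-- In a finite extension only the base is approximable. -/
theorem not_approximable_of_finite (hfin : (inclOf U U' hc).Finite) (x : U')
    (hx : ∀ b, inclOf U U' hc b ≠ x) : ¬ Approximable U U' hc x := by
  let _ : Algebra U U' := (inclOf U U' hc).toAlgebra
  have : Module.Finite U U' := hfin
  intro hall
  let S : Submodule U U' := LinearMap.range (Algebra.linearMap U U')
  have h0 := Ideal.iInf_pow_smul_eq_bot_of_isLocalRing (M := _ ⧸ S) (maximalIdeal U)
    (maximalIdeal.isMaximal U).ne_top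
  have hmem : (Submodule.Quotient.mk x : _ ⧸ S) = 0 := by
    rw [← Submodule.mem_bot U, ← h0, Submodule.mem_iInf]
    intro k
    obtain ⟨b, hb⟩ := hall k
    have hb' : x - algebraMap U U' b ∈ (maximalIdeal U) ^ k • (⊤ : Submodule U U') := by
      rw [Ideal.smul_top_eq_map, Submodule.restrictScalars_mem, Ideal.map_pow]
      exact hb
    have himg := Submodule.mem_map_of_mem (f := S.mkQ) hb'
    rw [Submodule.map_smul'', Submodule.mkQ_apply, Submodule.Quotient.mk_sub,
      (Submodule.Quotient.mk_eq_zero S).mpr (show algebraMap U U' b ∈ S from ⟨b, rfl⟩), sub_zero] at himg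
    exact Submodule.smul_mono le_rfl le_top himg
  obtain ⟨b, hb⟩ := (Submodule.Quotient.mk_eq_zero S).mp hmem
  exact hx b hb

end Ram24
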