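import Groth.Agent.Ram24.EisRam
import Groth.Agent.Ram24.Incl

/-!
# Totally ramified separable extensions are Eisenstein
-/

universe u

open IsLocalRing Polynomial

namespace Ram24

variable {A K K₁ : Type u} [CommRing A] [IsDomain A] [IsDiscreteValuationRing A] [Field K]
  [Algebra A K] [IsFractionRing A K] [Field K₁] [Algebra K K₁] [Algebra A K₁] [IsScalarTower A K K₁]
  [FiniteDimensional K K₁]

/-- If only one valuation subring dominates, it consists of integral elements. -/
theorem isIntegral_of_mem_of_unique (V : ValuationSubring K₁)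
    (huniq : ∀ V' : ValuationSubring K₁,
      EtRam.Dominates A ((algebraMap K K₁).comp (algebraMap A K)) V' → V' = V) {x : K₁} (hx : x ∈ V) :
    IsIntegral A x := by
  set R' := Subring.closure (Set.range (algebraMap A K₁)) with hR'
  have key : x ∈ (integralClosure R' K₁).toSubring := by
    rw [← iInf_valuationSubring_superset]
    simp only [Subring.mem_iInf, Subtype.forall]
    intro W hW
    have hAW : ∀ a, algebraMap A K₁ a ∈ W := fun a =>
      hW ⟨a, rfl⟩
    let ρ : A →+* W := (algebraMap A K₁).codRestrict W hAW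
    by_cases hmax : (maximalIdeal W).comap ρ = maximalIdeal A
    · have hdom : EtRam.Dominates A ((algebraMap K K₁).comp (algebraMap A K)) W := by
        rw [← IsScalarTower.algebraMap_eq]
        exact ⟨hAW, fun a ha => (ValuationSubring.valuation_lt_one_iff W (ρ a)).mp (hmax.ge ha)⟩
      exact (huniq W hdom).symm ▸ hx
    · have hbot : (maximalIdeal W).comap ρ = ⊥ := by
        by_contra hne
        exact hmax (IsLocalRing.eq_maximalIdeal
          ((Ideal.comap_isPrime ρ (maximalIdeal W)).isMaximal hne))
      have hK : ∀ k : K, algebraMap K K₁ k ∈ W := by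
        intro k
        obtain ⟨a, b, hb, rfl⟩ := IsFractionRing.div_surjective (A := A) k
        rw [map_div₀, ← IsScalarTower.algebraMap_apply, ← IsScalarTower.algebraMap_apply, div_eq_mul_inv]
        refine mul_mem (hAW a) ?_
        have hu : IsUnit (ρ b) := notMem_maximalIdeal.mp fun h =>
          nonZeroDivisors.ne_zero hb ((Submodule.mem_bot A).mp (hbot.le h))
        obtain ⟨⟨v, hv⟩, hbv⟩ := hu.exists_right_inv
        have hinv : v = (algebraMap A K₁ b)⁻¹ := eq_inv_of_mul_eq_one_right (congrArg Subtype.val hbv :)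
        exact hinv ▸ hv
      exact mem_of_isIntegral (B := K) (RingHom.id K₁) W hK x
  let ρ : A →+* R' := (algebraMap A K₁).codRestrict R' fun a => Subring.subset_closure ⟨a, rfl⟩
  let _ : Algebra A R' := ρ.toAlgebra
  have : IsScalarTower A R' K₁ := .of_algebraMap_eq fun _ => rfl
  have hle : R' ≤ (algebraMap A K₁).range := Subring.closure_le.mpr fun y hy => hy
  have : Algebra.IsIntegral A R' := ⟨fun y => by
    obtain ⟨a, ha⟩ := hle y.2
    rw [show y = algebraMap A R' a from Subtype.ext ha.symm]
    exact isIntegral_algebraMap⟩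
  exact isIntegral_trans (R := A) (A := R') x key

variable (A) in
theorem exists_eisenstein [Algebra.IsSeparable K K₁]
    (ht : EtRam.IsTotallyRamified A ((algebraMap K K₁).comp (algebraMap A K))) :
    ∃ (f : A[X]) (z : K₁), f.Monic ∧ 0 < f.natDegree ∧
      (∀ i < f.natDegree, f.coeff i ∈ maximalIdeal A) ∧ maximalIdeal A = Ideal.span {f.coeff 0} ∧
      aeval z (f.map (algebraMap A K)) = 0 ∧ Algebra.adjoin K {z} = ⊤ ∧
      f.natDegree = Module.finrank K K₁ := by
  classical
  obtain ⟨⟨V, hV⟩, huniq, hres⟩ := ht
  have hdom := hV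
  rw [← IsScalarTower.algebraMap_eq] at hdom
  have := dvr_of_dominates (B := A) (L := K) V hV
  let jA : A →+* V := ((algebraMap K K₁).comp (algebraMap A K)).codRestrict V hV.1
  let _ : Algebra A V := jA.toAlgebra
  have : IsScalarTower A V K₁ := .of_algebraMap_eq fun a => IsScalarTower.algebraMap_apply A K K₁ a
  have hinj : Function.Injective (algebraMap A V) := fun x y h =>
    IsFractionRing.injective A K ((algebraMap K K₁).injective (congrArg Subtype.val h :))
  have hinjK : Function.Injective (algebraMap A K₁) := by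
    rw [IsScalarTower.algebraMap_eq A K K₁]
    exact (algebraMap K K₁).injective.comp (IsFractionRing.injective A K)
  have hloc : IsLocalHom (algebraMap A V) := ⟨fun a ha => by
    by_contra hna
    exact ((ValuationSubring.valuation_lt_one_iff V (jA a)).mpr
      (hV.2 a ((mem_maximalIdeal _).mpr hna))) ha⟩
  -- `V` is finite over `A`
  have hint : ∀ x ∈ V, IsIntegral A x :=
    fun x hx => isIntegral_of_mem_of_unique V (fun V' hV' => huniq V' V hV' hV) hx
  have : Module.Finite A (integralClosure A K₁) :=
    IsIntegralClosure.finite A K K₁ (integralClosure A K₁)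
  let toD : V →ₗ[A] integralClosure A K₁ :=
    { toFun := fun v => ⟨v, hint v v.2⟩
      map_add' := fun _ _ => rfl
      map_smul' := fun a v => Subtype.ext (by
        show ((a • v : V) : K₁) = a • (v : K₁)
        rw [Algebra.smul_def, Algebra.smul_def, IsScalarTower.algebraMap_apply A V K₁]; rfl) }
  have : Module.Finite A V := Module.Finite.of_injective toD fun x y h =>
    Subtype.ext (congrArg Subtype.val h :)
  obtain ⟨π, hπ⟩ := IsDiscreteValuationRing.exists_irreducible A
  obtain ⟨ϖ, hϖ⟩ := IsDiscreteValuationRing.exists_irreducible V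
  obtain ⟨e, he0, he, hram⟩ := Dvr24.exists_map_maximalIdeal_eq hinj hϖ
  have hϖm := (IsDiscreteValuationRing.irreducible_iff_uniformizer ϖ).mp hϖ
  have hres' : ∀ v : V, ∃ a : A, v - algebraMap A V a ∈ maximalIdeal V := by
    intro v
    obtain ⟨a, ha⟩ := hres V hV (residue V v)
    exact ⟨a, by rw [← residue_eq_zero_iff, map_sub, sub_eq_zero]; exact ha.symm⟩
  -- powers of the uniformizer span `V`
  set S : Submodule A V := Submodule.span A (Set.range fun i : Fin e => ϖ ^ (i : ℕ))
  have key : ∀ i ≤ e, ∀ v : V, ∃ s ∈ S, v - s ∈ Ideal.span {ϖ ^ i} := by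
    intro i
    induction i with
    | zero => exact fun _ v => ⟨0, zero_mem _, by simp⟩
    | succ i ih =>
      intro hi v
      obtain ⟨s, hs, hv⟩ := ih (by omega) v
      obtain ⟨y, hy⟩ := Ideal.mem_span_singleton.mp hv
      obtain ⟨a, ha⟩ := hres' y
      rw [hϖm, Ideal.mem_span_singleton] at ha
      obtain ⟨w, hw⟩ := ha
      refine ⟨s + a • ϖ ^ i, add_mem hs (Submodule.smul_mem _ _ (Submodule.subset_span ⟨⟨i, by omega⟩, rfl⟩)),
        Ideal.mem_span_singleton.mpr ⟨w, ?_⟩⟩
      rw [Algebra.smul_def, pow_succ]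
      linear_combination hy + (ϖ ^ i) * hw
  have hS : S = ⊤ := by
    refine top_le_iff.mp (Submodule.le_of_le_smul_of_le_jacobson_bot (I := maximalIdeal A)
      Module.Finite.fg_top (IsLocalRing.maximalIdeal_le_jacobson _) fun v _ => ?_)
    obtain ⟨s, hs, hv⟩ := key e le_rfl v
    refine Submodule.mem_sup.mpr ⟨s, hs, v - s, ?_, add_sub_cancel s v⟩
    rw [Ideal.smul_top_eq_map, Submodule.restrictScalars_mem, he]
    exact hv
  -- powers of the uniformizer span the field
  have : IsFractionRing V K₁ := inferInstance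
  set z : K₁ := (ϖ : K₁)
  have hzint : IsIntegral A z := hint z ϖ.2
  have hVmem : ∀ v : V, (v : K₁) ∈ Algebra.adjoin K ({z} : Set K₁) := by
    intro v
    have hv : v ∈ S := hS ▸ Submodule.mem_top
    induction hv using Submodule.span_induction with
    | mem x hx => obtain ⟨i, rfl⟩ := hx; exact pow_mem (Algebra.self_mem_adjoin_singleton K z) _
    | zero => exact zero_mem _
    | add x y _ _ hx hy => exact add_mem hx hy
    | smul a x _ hx =>
      rw [show ((a • x : V) : K₁) = algebraMap K K₁ (algebraMap A K a) * (x : K₁) by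
        rw [Algebra.smul_def]; rfl]
      exact mul_mem (Subalgebra.algebraMap_mem _ _) hx
  have hgen : Algebra.adjoin K ({z} : Set K₁) = ⊤ := by
    rw [eq_top_iff]
    intro x _
    obtain ⟨a, b, hb, rfl⟩ := IsFractionRing.div_surjective (A := V) x
    rw [div_eq_mul_inv]
    refine mul_mem (hVmem a) ?_
    exact Subalgebra.inv_mem_of_algebraic _ (x := ⟨_, hVmem b⟩) (Algebra.IsAlgebraic.isAlgebraic _)
  have hintK : IsIntegral K z := Algebra.IsIntegral.isIntegral z
  have hdeg : (minpoly K z).natDegree = Module.finrank K K₁ := by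
    have h1 : IntermediateField.adjoin K ({z} : Set K₁) = ⊤ := by
      rw [eq_top_iff]
      intro x _
      exact IntermediateField.algebra_adjoin_le_adjoin K {z} (hgen ▸ Algebra.mem_top)
    rw [← IntermediateField.adjoin.finrank hintK, h1, IntermediateField.finrank_top']
  have hmap : minpoly K z = (minpoly A z).map (algebraMap A K) :=
    minpoly.isIntegrallyClosed_eq_field_fractions K K₁ hzint
  set f := minpoly A z
  have hfm : f.Monic := minpoly.monic hzint
  have hfd : f.natDegree = Module.finrank K K₁ := by
    rw [← hdeg, hmap, hfm.natDegree_map]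
  have hfe : f.natDegree ≤ e := by
    have hspan : Submodule.span K (Set.range fun i : Fin e => z ^ (i : ℕ)) = ⊤ := by
      rw [eq_top_iff]
      intro x _
      have hx : x ∈ Algebra.adjoin K ({z} : Set K₁) := hgen ▸ trivial
      have hz : ∀ v : V, (v : K₁) ∈ Submodule.span K (Set.range fun i : Fin e => z ^ (i : ℕ)) := by
        intro v
        have hv : v ∈ S := hS ▸ Submodule.mem_top
        induction hv using Submodule.span_induction with
        | mem y hy => obtain ⟨i, rfl⟩ := hy; exact Submodule.subset_span ⟨i, rfl⟩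
        | zero => exact zero_mem _
        | add y w _ _ hy hw => exact add_mem hy hw
        | smul a y _ hy =>
          rw [show ((a • y : V) : K₁) = algebraMap A K a • (y : K₁) by
            rw [Algebra.smul_def, Algebra.smul_def]; rfl]
          exact Submodule.smul_mem _ _ hy
      clear * - hx hz
      rw [← Subalgebra.mem_toSubmodule, Algebra.adjoin_eq_span] at hx
      refine Submodule.span_le.mpr ?_ hx
      intro y hy
      obtain ⟨k, rfl⟩ : ∃ k : ℕ, z ^ k = y := Submonoid.mem_closure_singleton.mp hy
      exact hz (ϖ ^ k)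
    rw [hfd]
    refine (finrank_range_le_card (R := K) fun i : Fin e => z ^ (i : ℕ)).trans' ?_ |>.trans (by simp)
    rw [Set.finrank, hspan, finrank_top]
  have hfe' : f.natDegree = e := by
    obtain ⟨-, hle⟩ := Dvr24.finite_and_mul_le (A := A) (B := V) (K := K) (L := K₁) hinj
    rw [hram] at hle
    have := (Nat.le_mul_of_pos_right e Module.finrank_pos).trans hle
    omega
  -- the coefficients
  have haeval : aeval ϖ f = 0 := by
    have h := minpoly.aeval A z
    rw [show z = algebraMap V K₁ ϖ from rfl, aeval_algebraMap_apply] at h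
    exact IsFractionRing.injective V K₁ (h.trans (map_zero _).symm)
  rw [aeval_eq_sum_range, Finset.sum_range_succ, hfm.coeff_natDegree, one_smul, hfe'] at haeval
  have hdvd : ∀ a ∈ maximalIdeal A, ϖ ^ e ∣ algebraMap A V a := fun a ha => by
    have := Ideal.mem_map_of_mem (algebraMap A V) ha
    rwa [he, Ideal.mem_span_singleton] at this
  have hlow : ∀ i < e, f.coeff i ∈ maximalIdeal A := by
    intro i
    induction i using Nat.strong_induction_on with
    | _ i ih =>
      intro hi
      rw [← Finset.add_sum_erase _ _ (Finset.mem_range.mpr hi)] at haeval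
      have hrest : ϖ ^ (i + 1) ∣ ∑ j ∈ (Finset.range e).erase i, f.coeff j • ϖ ^ j := by
        refine Finset.dvd_sum fun j hj => ?_
        obtain ⟨hji, hj⟩ := Finset.mem_erase.mp hj
        rw [Algebra.smul_def]
        rcases lt_or_gt_of_ne hji with h | h
        · exact ((pow_dvd_pow ϖ (by omega)).trans (hdvd _ (ih j h (by omega)))).mul_right _
        · exact ((pow_dvd_pow ϖ (by omega)).mul_left _)
      have h1 : ϖ ^ (i + 1) ∣ f.coeff i • ϖ ^ i := by
        have h2 : f.coeff i • ϖ ^ i = -(∑ j ∈ (Finset.range e).erase i, f.coeff j • ϖ ^ j) - ϖ ^ e := by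
          linear_combination haeval
        rw [h2]
        exact dvd_sub hrest.neg_right (pow_dvd_pow ϖ (by omega))
      rw [Algebra.smul_def, mul_comm, pow_succ, mul_dvd_mul_iff_left (pow_ne_zero _ hϖ.ne_zero)] at h1
      rw [mem_maximalIdeal]
      exact fun hu => hϖ.not_isUnit (isUnit_of_dvd_unit h1 (hu.map _))
  have hzero : maximalIdeal A = Ideal.span {f.coeff 0} := by
    rw [← Finset.add_sum_erase _ _ (Finset.mem_range.mpr he0)] at haeval
    have hrest : ϖ ^ (e + 1) ∣ ∑ j ∈ (Finset.range e).erase 0, f.coeff j • ϖ ^ j := by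
      refine Finset.dvd_sum fun j hj => ?_
      obtain ⟨hj0, hj⟩ := Finset.mem_erase.mp hj
      rw [Algebra.smul_def, pow_succ]
      exact mul_dvd_mul (hdvd _ (hlow j (Finset.mem_range.mp hj))) (dvd_pow_self ϖ hj0)
    have hπm := (IsDiscreteValuationRing.irreducible_iff_uniformizer π).mp hπ
    have h0 := hlow 0 he0
    rw [hπm, Ideal.mem_span_singleton] at h0
    obtain ⟨u, hu⟩ := h0
    have huu : IsUnit u := by
      by_contra hnu
      obtain ⟨s, hs⟩ := hrest
      obtain ⟨s', hs'⟩ := hdvd π (hπm ▸ Ideal.mem_span_singleton_self π)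
      have : ϖ ∣ algebraMap A V u := (dvd_pow_self ϖ he0.ne').trans (hdvd u hnu)
      obtain ⟨s'', hs''⟩ := this
      have h3 : ϖ ^ e * (1 + ϖ * (s + s' * s'')) = 0 := by
        rw [pow_zero, Algebra.smul_def, mul_one, hu, map_mul, hs', hs'', hs] at haeval
        linear_combination haeval
      have h4 := (mul_eq_zero.mp h3).resolve_left (pow_ne_zero _ hϖ.ne_zero)
      exact hϖ.not_isUnit (IsUnit.of_mul_eq_one (-(s + s' * s'')) (by linear_combination -h4))
    rw [hπm, hu, Ideal.span_singleton_mul_right_unit huu]
  refine ⟨f, z, hfm, by omega, fun i hi => hlow i (by omega), hzero, ?_, hgen, hfd⟩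
  rw [← hmap]
  exact minpoly.aeval K z

end Ram24
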