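import Mathlib

/-!
# Discrete valuation rings obtained by adjoining a root
-/

universe u

open IsLocalRing Polynomial

namespace Ram24

variable {A : Type u} [CommRing A] [IsDomain A] [IsDiscreteValuationRing A]

theorem isDomain_adjoinRoot {f : A[X]} (hirr : Irreducible f) : IsDomain (AdjoinRoot f) := by
  have := (Ideal.span_singleton_prime hirr.ne_zero).mpr hirr.prime
  exact inferInstanceAs (IsDomain (A[X] ⧸ Ideal.span {f}))

theorem algebraMap_adjoinRoot_injective {f : A[X]} (hf : f.Monic) (hd : 0 < f.natDegree) :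
    Function.Injective (algebraMap A (AdjoinRoot f)) :=
  AdjoinRoot.of.injective_of_degree_ne_zero (natDegree_pos_iff_degree_pos.mp hd).ne'

theorem map_maximalIdeal_le_of_isMaximal {f : A[X]} (hf : f.Monic) (M : Ideal (AdjoinRoot f))
    [M.IsMaximal] : (maximalIdeal A).map (algebraMap A (AdjoinRoot f)) ≤ M := by
  have : Module.Finite A (AdjoinRoot f) := hf.finite_adjoinRoot
  have h := Ideal.isMaximal_comap_of_isIntegral_of_isMaximal (R := A) M
  rw [Ideal.map_le_iff_le_comap]
  exact (IsLocalRing.eq_maximalIdeal h).ge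

/-- A domain, finite over `A`, all of whose maximal ideals equal one principal ideal. -/
theorem dvr_of_unique {D : Type*} [CommRing D] [IsDomain D] [IsNoetherianRing D] (ϖ : D)
    (hϖ : ϖ ≠ 0) (huniq : ∀ M : Ideal D, M.IsMaximal → M = Ideal.span {ϖ}) :
    IsDiscreteValuationRing D ∧ ∀ [IsLocalRing D], maximalIdeal D = Ideal.span {ϖ} := by
  obtain ⟨M, hM⟩ := Ideal.exists_maximal D
  have : IsLocalRing D := .of_unique_max_ideal ⟨M, hM, fun N hN => (huniq N hN).trans (huniq M hM).symm⟩
  have heq : maximalIdeal D = Ideal.span {ϖ} := huniq _ (maximalIdeal.isMaximal D)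
  have hnf : ¬IsField D := fun h => hϖ (by
    rw [IsLocalRing.isField_iff_maximalIdeal_eq, heq, Ideal.span_singleton_eq_bot] at h
    exact h)
  refine ⟨((IsDiscreteValuationRing.TFAE D hnf).out 0 4).mpr ?_, fun {_} => huniq _ (maximalIdeal.isMaximal D)⟩
  exact ⟨⟨ϖ, heq⟩⟩

section Eisenstein

variable {f : A[X]} (hf : f.Monic) (hd : 0 < f.natDegree)
  (hlow : ∀ i < f.natDegree, f.coeff i ∈ maximalIdeal A)
  (h0 : maximalIdeal A = Ideal.span {f.coeff 0})

include hf hd hlow h0

theorem irreducible_of_eisenstein : Irreducible f := by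
  have hE : f.IsEisensteinAt (maximalIdeal A) := by
    have hlead : f.leadingCoeff ∉ maximalIdeal A := by
      rw [hf.leadingCoeff]
      exact (maximalIdeal A).ne_top_iff_one.mp (maximalIdeal.isMaximal A).ne_top
    refine ⟨hlead, fun {n} hn => hlow n hn, ?_⟩
    have hirr : Irreducible (f.coeff 0) :=
      (IsDiscreteValuationRing.irreducible_iff_uniformizer _).mpr h0
    rw [h0, Ideal.span_singleton_pow, Ideal.mem_span_singleton]
    intro h
    have := (pow_dvd_pow_iff (n := 2) (m := 1) hirr.ne_zero hirr.not_isUnit).mp (by rwa [pow_one])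
    omega
  exact hE.irreducible (maximalIdeal.isMaximal A).isPrime hf.isPrimitive hd

theorem isMaximal_eq_span_root (M : Ideal (AdjoinRoot f)) [M.IsMaximal] :
    M = Ideal.span {AdjoinRoot.root f} := by
  have hle := map_maximalIdeal_le_of_isMaximal hf M
  have hc : algebraMap A (AdjoinRoot f) (f.coeff 0) ∈ Ideal.span {AdjoinRoot.root f} := by
    have : AdjoinRoot.root f * AdjoinRoot.mk f f.divX + AdjoinRoot.of f (f.coeff 0) = 0 := by
      rw [← AdjoinRoot.mk_X, ← map_mul, ← AdjoinRoot.mk_C, ← map_add, X_mul_divX_add,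
        AdjoinRoot.mk_self]
    rw [AdjoinRoot.algebraMap_eq, eq_neg_of_add_eq_zero_right this]
    exact neg_mem (Ideal.mul_mem_right _ _ (Ideal.mem_span_singleton_self _))
  have hroot : AdjoinRoot.root f ∈ M := by
    refine (inferInstance : M.IsMaximal).isPrime.mem_of_pow_mem f.natDegree ?_
    rw [← Ideal.Quotient.eq_zero_iff_mem, map_pow]
    have h1 : (Ideal.Quotient.mk M) (f.eval₂ (AdjoinRoot.of f) (AdjoinRoot.root f)) = 0 := by
      rw [AdjoinRoot.eval₂_root, map_zero]
    rw [hom_eval₂] at h1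
    let g : ResidueField A →+* AdjoinRoot f ⧸ M :=
      Ideal.Quotient.lift _ ((Ideal.Quotient.mk M).comp (AdjoinRoot.of f)) fun a ha =>
        Ideal.Quotient.eq_zero_iff_mem.mpr (hle (Ideal.mem_map_of_mem _ ha))
    have hmap : f.map (residue A) = X ^ f.natDegree := by
      ext i
      rw [coeff_map, coeff_X_pow]
      rcases lt_trichotomy i f.natDegree with h | h | h
      · rw [if_neg h.ne, residue_eq_zero_iff]; exact hlow i h
      · rw [if_pos h, h, hf.coeff_natDegree, map_one]
      · rw [if_neg h.ne', coeff_eq_zero_of_natDegree_lt h, map_zero]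
    have h2 : (f.map (residue A)).eval₂ g (Ideal.Quotient.mk M (AdjoinRoot.root f)) = 0 := by
      rw [eval₂_map]; exact h1
    rwa [hmap, eval₂_X_pow] at h2
  refine le_antisymm (fun x hx => ?_) ((Ideal.span_singleton_le_iff_mem _).mpr hroot)
  obtain ⟨q, rfl⟩ := AdjoinRoot.mk_surjective x
  rw [← X_mul_divX_add q, map_add, map_mul, AdjoinRoot.mk_X, AdjoinRoot.mk_C] at hx ⊢
  have hr : AdjoinRoot.root f * AdjoinRoot.mk f q.divX ∈ Ideal.span {AdjoinRoot.root f} :=
    Ideal.mul_mem_right _ _ (Ideal.mem_span_singleton_self _)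
  refine add_mem hr ?_
  have ha : AdjoinRoot.of f (q.coeff 0) ∈ M :=
    (M.add_mem_iff_right (M.mul_mem_right _ hroot)).mp hx
  by_cases hq : q.coeff 0 ∈ maximalIdeal A
  · rw [h0, Ideal.mem_span_singleton] at hq
    obtain ⟨c, hc'⟩ := hq
    rw [hc', map_mul]
    exact Ideal.mul_mem_right _ _ hc
  · exact absurd (M.eq_top_of_isUnit_mem ha ((notMem_maximalIdeal.mp hq).map _))
      (inferInstance : M.IsMaximal).ne_top

theorem dvr_of_eisenstein :
    ∃ (_ : IsDomain (AdjoinRoot f)) (_ : IsDiscreteValuationRing (AdjoinRoot f)),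
      maximalIdeal (AdjoinRoot f) = Ideal.span {AdjoinRoot.root f} := by
  have : IsDomain (AdjoinRoot f) := isDomain_adjoinRoot (irreducible_of_eisenstein hf hd hlow h0)
  have : Module.Finite A (AdjoinRoot f) := hf.finite_adjoinRoot
  have : IsNoetherianRing (AdjoinRoot f) := IsNoetherianRing.of_finite A _
  have hroot : AdjoinRoot.root f ≠ 0 := fun h => by
    obtain ⟨M, hM⟩ := Ideal.exists_maximal (AdjoinRoot f)
    have h1 : algebraMap A (AdjoinRoot f) (f.coeff 0) ∈ M :=
      map_maximalIdeal_le_of_isMaximal hf M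
        (Ideal.mem_map_of_mem _ (h0 ▸ Ideal.mem_span_singleton_self _))
    rw [isMaximal_eq_span_root hf hd hlow h0 M, h, Ideal.span_singleton_eq_bot.mpr rfl,
      Submodule.mem_bot, map_eq_zero_iff _ (algebraMap_adjoinRoot_injective hf hd)] at h1
    exact ((IsDiscreteValuationRing.irreducible_iff_uniformizer _).mpr h0).ne_zero h1
  obtain ⟨hD, hmax⟩ := dvr_of_unique _ hroot
    fun M hM => @isMaximal_eq_span_root A _ _ _ f hf hd hlow h0 M hM
  exact ⟨inferInstance, hD, hmax⟩

theorem residue_surjective_of_eisenstein (x : AdjoinRoot f) :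
    ∃ a : A, x - algebraMap A (AdjoinRoot f) a ∈ Ideal.span {AdjoinRoot.root f} := by
  obtain ⟨q, rfl⟩ := AdjoinRoot.mk_surjective x
  refine ⟨q.coeff 0, ?_⟩
  have key : AdjoinRoot.mk f q =
      AdjoinRoot.root f * AdjoinRoot.mk f q.divX + AdjoinRoot.of f (q.coeff 0) := by
    rw [← AdjoinRoot.mk_X, ← map_mul, ← AdjoinRoot.mk_C, ← map_add, X_mul_divX_add]
  rw [key, AdjoinRoot.algebraMap_eq, add_sub_cancel_right]
  exact Ideal.mul_mem_right _ _ (Ideal.mem_span_singleton_self _)

end Eisenstein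

/-- Adjoining a root of a monic polynomial with irreducible reduction. -/
theorem dvr_of_irreducible_residue {f : A[X]} (hf : f.Monic)
    (hirr : Irreducible (f.map (residue A))) {ϖ : A} (hϖ : maximalIdeal A = Ideal.span {ϖ}) :
    Irreducible f ∧ ∃ (_ : IsDomain (AdjoinRoot f)) (_ : IsDiscreteValuationRing (AdjoinRoot f)),
      maximalIdeal (AdjoinRoot f) = Ideal.span {algebraMap A (AdjoinRoot f) ϖ} := by
  have hirrf : Irreducible f := hf.irreducible_of_irreducible_map (residue A) f hirr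
  have hd : 0 < f.natDegree := (hf.natDegree_map (residue A)) ▸ hirr.natDegree_pos
  have : IsDomain (AdjoinRoot f) := isDomain_adjoinRoot hirrf
  have : Module.Finite A (AdjoinRoot f) := hf.finite_adjoinRoot
  have : IsNoetherianRing (AdjoinRoot f) := IsNoetherianRing.of_finite A _
  have hϖ0 : ϖ ≠ 0 := ((IsDiscreteValuationRing.irreducible_iff_uniformizer _).mpr hϖ).ne_zero
  set J : Ideal (AdjoinRoot f) := Ideal.span {algebraMap A (AdjoinRoot f) ϖ} with hJ
  have hJM : ∀ M : Ideal (AdjoinRoot f), M.IsMaximal → J ≤ M := fun M hM => by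
    rw [hJ, Ideal.span_singleton_le_iff_mem]
    exact map_maximalIdeal_le_of_isMaximal hf M
      (Ideal.mem_map_of_mem _ (hϖ ▸ Ideal.mem_span_singleton_self ϖ))
  have hJne : J ≠ ⊤ := by
    obtain ⟨M, hM⟩ := Ideal.exists_maximal (AdjoinRoot f)
    exact fun h => hM.ne_top (top_le_iff.mp (h ▸ hJM M hM))
  have : Nontrivial (AdjoinRoot f ⧸ J) := Ideal.Quotient.nontrivial_iff.mpr hJne
  have := Fact.mk hirr
  let g : ResidueField A →+* AdjoinRoot f ⧸ J :=
    Ideal.Quotient.lift _ ((Ideal.Quotient.mk J).comp (AdjoinRoot.of f)) fun a ha => by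
      rw [hϖ, Ideal.mem_span_singleton] at ha
      obtain ⟨c, rfl⟩ := ha
      rw [map_mul, show ((Ideal.Quotient.mk J).comp (AdjoinRoot.of f)) ϖ = 0 from
        Ideal.Quotient.eq_zero_iff_mem.mpr (Ideal.mem_span_singleton_self _), zero_mul]
  let ρ : AdjoinRoot (f.map (residue A)) →+* AdjoinRoot f ⧸ J :=
    AdjoinRoot.lift g (Ideal.Quotient.mk J (AdjoinRoot.root f)) (by
      have h1 : (Ideal.Quotient.mk J) (f.eval₂ (AdjoinRoot.of f) (AdjoinRoot.root f)) = 0 := by
        rw [AdjoinRoot.eval₂_root, map_zero]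
      rw [hom_eval₂] at h1
      rw [eval₂_map]; exact h1)
  have hρ : Function.Surjective ρ := by
    intro y
    obtain ⟨y, rfl⟩ := Ideal.Quotient.mk_surjective y
    obtain ⟨q, rfl⟩ := AdjoinRoot.mk_surjective y
    refine ⟨AdjoinRoot.mk _ (q.map (residue A)), ?_⟩
    rw [AdjoinRoot.lift_mk, eval₂_map, show g.comp (residue A) = (Ideal.Quotient.mk J).comp (AdjoinRoot.of f) from rfl,
      ← hom_eval₂, ← AdjoinRoot.algebraMap_eq, ← aeval_def, AdjoinRoot.aeval_eq]
  have hfield : IsField (AdjoinRoot f ⧸ J) :=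
    MulEquiv.isField (Field.toIsField _) (RingEquiv.ofBijective ρ ⟨ρ.injective, hρ⟩).symm.toMulEquiv
  have hJmax : J.IsMaximal := Ideal.Quotient.maximal_of_isField _ hfield
  obtain ⟨hD, hmax⟩ := dvr_of_unique (algebraMap A (AdjoinRoot f) ϖ)
    ((map_ne_zero_iff _ (algebraMap_adjoinRoot_injective hf hd)).mpr hϖ0)
    fun M hM => (hJmax.eq_of_le hM.ne_top (hJM M hM)).symm
  exact ⟨hirrf, inferInstance, hD, hmax⟩

end Ram24
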