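import Mathlib
import Groth.Prelude.Def_Found

/-!
# Finiteness of integral closures over Nagata domains
-/

universe u

namespace Ram24

theorem finite_integralClosure_of_isNagata (B L M : Type u) [CommRing B] [IsDomain B]
    (hB : CAlg.IsNagata B) [Field L] [Field M] [Algebra B L] [IsFractionRing B L] [Algebra L M]
    [Algebra B M] [IsScalarTower B L M] [FiniteDimensional L M] :
    Module.Finite B (integralClosure B M) := by
  have hp : (⊥ : Ideal B).IsPrime := Ideal.isPrime_bot
  let Q := B ⧸ (⊥ : Ideal B)
  let e : Q ≃+* B := RingEquiv.quotientBot B
  have hinjB : Function.Injective (algebraMap B M) := by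
    rw [IsScalarTower.algebraMap_eq B L M]
    exact (algebraMap L M).injective.comp (IsFractionRing.injective B L)
  let _ : Algebra Q M := ((algebraMap B M).comp e.toRingHom).toAlgebra
  have hinjQ : Function.Injective (algebraMap Q M) := hinjB.comp e.injective
  let eF : FractionRing Q ≃+* L := IsFractionRing.ringEquivOfRingEquiv e
  let _ : Algebra (FractionRing Q) M := ((algebraMap L M).comp eF.toRingHom).toAlgebra
  have : IsScalarTower Q (FractionRing Q) M := .of_algebraMap_eq fun x => by
    show algebraMap B M (e x) = algebraMap L M (eF (algebraMap Q (FractionRing Q) x))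
    rw [IsScalarTower.algebraMap_apply B L M]
    congr 1
    exact (IsFractionRing.ringEquivOfRingEquiv_algebraMap e x).symm
  have : FiniteDimensional (FractionRing Q) M :=
    Module.Finite.of_equiv_equiv eF.symm (RingEquiv.refl M) (by
      ext x
      show algebraMap L M (eF (eF.symm x)) = algebraMap L M x
      rw [RingEquiv.apply_symm_apply])
  have hfin : Module.Finite Q (integralClosure Q M) := hB.2 ⊥ M this
  have : IsScalarTower B Q M := .of_algebraMap_eq fun b => rfl
  have : Module.Finite B (integralClosure Q M) := Module.Finite.trans Q _
  have : IsNoetherianRing B := hB.1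
  let f : integralClosure B M →ₗ[B] integralClosure Q M :=
    { toFun := fun x => ⟨x.1, IsIntegral.tower_top x.2⟩
      map_add' := fun _ _ => rfl
      map_smul' := fun _ _ => rfl }
  exact Module.Finite.of_injective f fun x y h => Subtype.ext (congrArg Subtype.val h :)

end Ram24
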