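import Groth.Agent.Ram24.Incl

/-!
# Valuation rings over a ring with reduced fibre over a principal ideal
-/

universe u

open IsLocalRing

namespace Ram24

/-- A valuation ring whose elements are fractions of a ring `R` in which some unit of the
valuation ring kills every nonunit modulo `P`, has uniformizer `P` and residues from `R`. -/
theorem uniformizer_of_fibre {R : Type*} [CommRing R] {M : Type u} [Field M]
    (W : ValuationSubring M) [IsDiscreteValuationRing W] (σ : R →+* W) (P : R)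
    (hP0 : σ P ≠ 0) (hPnu : ¬ IsUnit (σ P)) (x' : R) (hx'u : IsUnit (σ x'))
    (hker : ∀ r, ¬ IsUnit (σ r) → P ∣ x' * r)
    (hfrac : ∀ w : M, ∃ a b : R, ((σ b : W) : M) ≠ 0 ∧ w * (σ b : W) = (σ a : W)) :
    Irreducible (σ P) ∧
      ∀ w : W, IsUnit w → ∃ r s, IsUnit (σ s) ∧ w * σ s = σ r := by
  obtain ⟨ϖ, hϖ⟩ := IsDiscreteValuationRing.exists_irreducible W
  obtain ⟨E, hE⟩ := IsDiscreteValuationRing.associated_pow_irreducible hP0 hϖ
  have hE0 : 0 < E := Nat.pos_of_ne_zero fun h0 => by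
    rw [h0, pow_zero, associated_one_iff_isUnit] at hE; exact hPnu hE
  have hval : ∀ r : R, σ r ≠ 0 →
      ∃ k r' s', IsUnit (σ r') ∧ IsUnit (σ s') ∧ σ r * σ s' = σ P ^ k * σ r' := by
    intro r hr
    obtain ⟨n, hn⟩ := IsDiscreteValuationRing.associated_pow_irreducible hr hϖ
    induction n using Nat.strong_induction_on generalizing r with
    | _ n ih =>
      by_cases hu : IsUnit (σ r)
      · exact ⟨0, r, 1, hu, by simp, by simp⟩
      obtain ⟨r', hr'⟩ := hker r hu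
      have heq : σ r * σ x' = σ P * σ r' := by
        rw [mul_comm (σ r), ← map_mul, hr', map_mul]
      have hr'0 : σ r' ≠ 0 := fun h => by
        rw [h, mul_zero] at heq
        exact hr ((mul_eq_zero.mp heq).resolve_right hx'u.ne_zero)
      obtain ⟨n', hn'⟩ := IsDiscreteValuationRing.associated_pow_irreducible hr'0 hϖ
      have hnn : n = E + n' := by
        have h1 : Associated (ϖ ^ n) (ϖ ^ (E + n')) := by
          rw [pow_add]
          refine hn.symm.trans (((associated_mul_unit_right _ _ hx'u).trans ?_).trans (hE.mul_mul hn'))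
          rw [heq]
        exact le_antisymm ((pow_dvd_pow_iff hϖ.ne_zero hϖ.not_isUnit).mp h1.dvd)
          ((pow_dvd_pow_iff hϖ.ne_zero hϖ.not_isUnit).mp h1.symm.dvd)
      obtain ⟨k, r'', s'', h1, h2, h3⟩ := ih n' (by omega) r' hr'0 hn'
      refine ⟨k + 1, r'', x' * s'', h1, by rw [map_mul]; exact hx'u.mul h2, ?_⟩
      rw [map_mul, ← mul_assoc, heq, mul_assoc, h3, pow_succ]; ring
  have hw' : ∀ w : W, w ≠ 0 → ∃ (k j : ℕ) (r s : R),
      IsUnit (σ r) ∧ IsUnit (σ s) ∧ w * σ P ^ j * σ s = σ P ^ k * σ r := by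
    intro w hw0
    obtain ⟨r, s, hs, hab⟩ := hfrac (w : M)
    have hsr : w * σ s = σ r := Subtype.ext hab
    have hs0 : σ s ≠ 0 := fun h => hs (by rw [h]; rfl)
    have hr0 : σ r ≠ 0 := hsr ▸ mul_ne_zero hw0 hs0
    obtain ⟨j, r₁, s₁, hr₁, hs₁, he₁⟩ := hval s hs0
    obtain ⟨k, r₂, s₂, hr₂, hs₂, he₂⟩ := hval r hr0
    refine ⟨k, j, r₂ * s₁, r₁ * s₂, by rw [map_mul]; exact hr₂.mul hs₁,
      by rw [map_mul]; exact hr₁.mul hs₂, ?_⟩
    rw [map_mul, map_mul]
    calc w * σ P ^ j * (σ r₁ * σ s₂) = w * (σ P ^ j * σ r₁) * σ s₂ := by ring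
      _ = (w * σ s) * σ s₁ * σ s₂ := by rw [← he₁]; ring
      _ = σ r * σ s₂ * σ s₁ := by rw [hsr]; ring
      _ = σ P ^ k * (σ r₂ * σ s₁) := by rw [he₂]; ring
  have hexp : ∀ (w : W) (i j k : ℕ) (a b : W), IsUnit a → IsUnit b → Associated w (ϖ ^ i) →
      w * σ P ^ j * a = σ P ^ k * b → i + E * j = E * k := by
    intro w i j k a b ha hb hwi heq
    have h1 : Associated (ϖ ^ (i + E * j)) (ϖ ^ (E * k)) := by
      rw [pow_add, pow_mul, pow_mul]
      refine ((hwi.mul_mul hE.pow_pow).symm.trans (associated_mul_unit_right _ _ ha)).trans ?_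
      rw [heq]
      exact (associated_mul_unit_left _ _ hb).trans hE.pow_pow
    exact le_antisymm ((pow_dvd_pow_iff hϖ.ne_zero hϖ.not_isUnit).mp h1.dvd)
      ((pow_dvd_pow_iff hϖ.ne_zero hϖ.not_isUnit).mp h1.symm.dvd)
  refine ⟨?_, fun w hwu => ?_⟩
  · obtain ⟨k, j, r, s, hr, hs, heq⟩ := hw' ϖ hϖ.ne_zero
    have h1 := hexp ϖ 1 j k _ _ hs hr (by rw [pow_one]) heq
    have hE1 : E ∣ 1 := by
      have h2 : E ∣ 1 + E * j := h1 ▸ dvd_mul_right E k
      exact (Nat.dvd_add_left (dvd_mul_right E j)).mp h2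
    rw [Nat.dvd_one.mp hE1, pow_one] at hE
    exact hE.irreducible_iff.mpr hϖ
  · obtain ⟨k, j, r, s, hr, hs, heq⟩ := hw' w hwu.ne_zero
    have h1 := hexp w 0 j k _ _ hs hr (by rw [pow_zero]; exact associated_one_iff_isUnit.mpr hwu) heq
    rw [zero_add] at h1
    have hjk := Nat.eq_of_mul_eq_mul_left hE0 h1
    subst hjk
    exact ⟨r, s, hs, mul_left_cancel₀ (pow_ne_zero j hP0) (by rw [← heq]; ring)⟩

end Ram24
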