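import Groth.Agent.Ram24.ReducedFibre
import Groth.Agent.Ram24.EisRam
import Groth.Agent.VarDim1.Semilocal

/-!
# Ramification of the field generated by one root
-/

universe u

open IsLocalRing Polynomial

namespace Ram24

variable {A K L : Type u} [CommRing A] [IsDomain A] [IsDiscreteValuationRing A] [Field K]
  [Algebra A K] [IsFractionRing A K] [Field L] [Algebra K L] [Algebra A L] [IsScalarTower A K L]

/-- Weakly unramified with purely inseparable residue extension of degree `p`, and one valuation
ring. -/
def IsInertPurelyInseparable (A : Type u) [CommRing A] [IsLocalRing A] {L : Type u} [Field L]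
    (g : A →+* L) (p : ℕ) : Prop :=
  (∃ V : ValuationSubring L, EtRam.Dominates A g V) ∧
    (∀ V V' : ValuationSubring L, EtRam.Dominates A g V → EtRam.Dominates A g V' → V = V') ∧
    ∀ (V : ValuationSubring L) (h : EtRam.Dominates A g V),
      letI : Algebra A V := (RingHom.codRestrict g V h.1).toAlgebra
      ∀ [IsLocalHom (algebraMap A V)],
        EtRam.IsWeaklyUnramified A V ∧
          IsPurelyInseparable (ResidueField A) (ResidueField V) ∧
          Module.finrank (ResidueField A) (ResidueField V) = p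

variable (A K) in
omit [IsDiscreteValuationRing A] in
theorem frac_of_adjoin_eq_top {D : Type u} [CommRing D] [Algebra A D] (ψ : D →+* L)
    (hψA : ∀ a, ψ (algebraMap A D a) = algebraMap A L a) (hψ : Function.Injective ψ) [IsDomain D]
    (y : L) (hy : ∃ d, ψ d = y) (hgen : Algebra.adjoin K {y} = ⊤) (w : L) :
    ∃ a b : D, ψ b ≠ 0 ∧ w * ψ b = ψ a := by
  refine exists_frac_of_closure ψ hψ (Set.range (algebraMap K L) ∪ {y}) ?_ ?_ w
  · rintro z (⟨k, rfl⟩ | rfl)
    · obtain ⟨a, b, hb, rfl⟩ := IsFractionRing.div_surjective (A := A) k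
      have hb0 : algebraMap A L b ≠ 0 := by
        rw [IsScalarTower.algebraMap_apply A K L]
        exact (map_ne_zero_iff _ (algebraMap K L).injective).mpr
          ((map_ne_zero_iff _ (IsFractionRing.injective A K)).mpr (nonZeroDivisors.ne_zero hb))
      refine ⟨algebraMap A D a, algebraMap A D b, by rwa [hψA], ?_⟩
      rw [hψA, hψA, map_div₀, ← IsScalarTower.algebraMap_apply, ← IsScalarTower.algebraMap_apply,
        div_mul_cancel₀ _ hb0]
    · obtain ⟨d, hd⟩ := hy
      exact ⟨d, 1, by simp, by rw [hd, map_one, mul_one]⟩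
  · rw [eq_top_iff]
    rintro z -
    have hz : z ∈ Algebra.adjoin K ({y} : Set L) := hgen ▸ trivial
    induction hz using Algebra.adjoin_induction with
    | mem x hx => exact Subfield.subset_closure (Or.inr hx)
    | algebraMap k => exact Subfield.subset_closure (Or.inl ⟨k, rfl⟩)
    | add a b _ _ ha hb => exact add_mem ha hb
    | mul a b _ _ ha hb => exact mul_mem ha hb

variable (A K) in
theorem exists_dominates [FiniteDimensional K L] :
    ∃ V : ValuationSubring L, EtRam.Dominates A ((algebraMap K L).comp (algebraMap A K)) V := by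
  rw [← IsScalarTower.algebraMap_eq]
  obtain ⟨V, hV⟩ := LocalSubring.exists_le_valuationSubring (LocalSubring.range (algebraMap A L))
  obtain ⟨hle, hloc⟩ := hV
  have hmem : ∀ a, algebraMap A L a ∈ V := fun a => hle ⟨a, rfl⟩
  refine ⟨V, hmem, fun a ha => ?_⟩
  refine (ValuationSubring.valuation_lt_one_iff V ⟨_, hmem a⟩).mp ?_
  have hinj : Function.Injective (algebraMap A L) := by
    rw [IsScalarTower.algebraMap_eq A K L]
    exact (algebraMap K L).injective.comp (IsFractionRing.injective A K)
  rw [mem_maximalIdeal, mem_nonunits_iff]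
  intro hu
  have h1 : IsUnit ((algebraMap A L).rangeRestrict a) := hloc.map_nonunit _ hu
  obtain ⟨⟨_, b, rfl⟩, hb⟩ := h1.exists_right_inv
  exact (mem_maximalIdeal _).mp ha (IsUnit.of_mul_eq_one b (hinj (by
    rw [map_mul, map_one]; exact congrArg Subtype.val hb)))

variable [FiniteDimensional K L]

/-- A root of a polynomial with separable reduction gives an unramified extension. -/
theorem isUnramifiedExt_of_separable_reduction {g : A[X]} (hg : g.Monic)
    (hsep : (g.map (residue A)).Separable) (y : L) (hy : aeval y g = 0)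
    (hgen : Algebra.adjoin K {y} = ⊤) : EtRam.IsUnramifiedExt A (algebraMap A L) := by
  intro V hV _
  let _ : Algebra A V := (RingHom.codRestrict (algebraMap A L) V hV.1).toAlgebra
  have hdom : EtRam.Dominates A ((algebraMap K L).comp (algebraMap A K)) V := by
    rw [← IsScalarTower.algebraMap_eq]; exact hV
  have := dvr_of_dominates (B := A) (L := K) V hdom
  have : IsScalarTower A V L := .of_algebraMap_eq fun _ => rfl
  have hyint : IsIntegral A y := ⟨g, hg, by rw [← aeval_def]; exact hy⟩
  let yV : V := ⟨y, integralClosure_mem (L := K) V hdom hyint⟩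
  let σ : A[X] →ₐ[A] V := aeval yV
  have hσ : ∀ q, ((σ q : V) : L) = aeval y q := fun q => (aeval_algebraMap_apply L yV q).symm
  have hσg : σ g = 0 := Subtype.ext ((hσ g).trans hy)
  let σq : AdjoinRoot g →+* V := AdjoinRoot.lift (algebraMap A V) yV (by rw [← aeval_def]; exact hσg)
  have hσq : ∀ q, σq (AdjoinRoot.mk g q) = σ q := fun q => AdjoinRoot.lift_mk _ q
  obtain ⟨π, hπ⟩ := IsDiscreteValuationRing.exists_irreducible A
  have hπm := (IsDiscreteValuationRing.irreducible_iff_uniformizer π).mp hπ
  -- the closed fibre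
  let T := (ResidueField A)[X] ⧸ Ideal.span {g.map (residue A)}
  have hg0 : g.map (residue A) ≠ 0 := (hg.map _).ne_zero
  have hred : IsReduced T :=
    (Ideal.isRadical_iff_quotient_reduced _).mp
      (isRadical_iff_span_singleton.mp (hsep.squarefree.isRadical))
  have : Module.Finite (ResidueField A) T := (hg.map _).finite_quotient
  have : IsArtinianRing T := IsArtinianRing.of_finite (ResidueField A) T
  let ρA : ResidueField A →+* ResidueField V := ResidueField.map (algebraMap A V)
  let ρ₀ : (ResidueField A)[X] →+* ResidueField V := eval₂RingHom ρA (residue V yV)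
  have hρ₀ : ∀ q : A[X], ρ₀ (q.map (residue A)) = residue V (σ q) := fun q => by
    show (q.map (residue A)).eval₂ ρA (residue V yV) = residue V (aeval yV q)
    rw [eval₂_map, aeval_def, hom_eval₂]
    rfl
  let ρ : T →+* ResidueField V := Ideal.Quotient.lift _ ρ₀ fun q hq => by
    obtain ⟨r, rfl⟩ := Ideal.mem_span_singleton.mp hq
    rw [map_mul, hρ₀, hσg, map_zero, zero_mul]
  have hmax : (RingHom.ker ρ).IsMaximal := by
    have := RingHom.ker_isPrime ρ
    infer_instance
  let m : MaximalSpectrum T := ⟨RingHom.ker ρ, hmax⟩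
  let eT := IsArtinianRing.equivPi T
  obtain ⟨x, hxρ, hxker⟩ : ∃ x : T, ρ x ≠ 0 ∧ ∀ z, ρ z = 0 → x * z = 0 := by
    classical
    refine ⟨eT.symm (Pi.single m 1), fun h => ?_, fun z hz => eT.injective (funext fun i => ?_)⟩
    · have h1 : eT (eT.symm (Pi.single m 1)) m = 1 := by
        rw [AlgEquiv.apply_symm_apply, Pi.single_eq_same]
      rw [IsArtinianRing.equivPi_apply,
        show Ideal.Quotient.mk m.asIdeal (eT.symm (Pi.single m 1)) = 0 from
          Ideal.Quotient.eq_zero_iff_mem.mpr h] at h1
      exact zero_ne_one h1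
    · rw [map_mul, map_zero, Pi.mul_apply, AlgEquiv.apply_symm_apply, Pi.zero_apply]
      by_cases hi : i = m
      · rw [hi, IsArtinianRing.equivPi_apply, show Ideal.Quotient.mk m.asIdeal z = 0 from
          Ideal.Quotient.eq_zero_iff_mem.mpr hz, mul_zero]
      · rw [Pi.single_eq_of_ne hi, zero_mul]
  obtain ⟨x₁, rfl⟩ := Ideal.Quotient.mk_surjective x
  obtain ⟨x₂, rfl⟩ := Polynomial.map_surjective (residue A) residue_surjective x₁
  have hx2 : IsUnit (σq (AdjoinRoot.mk g x₂)) := by
    rw [hσq]
    exact notMem_maximalIdeal.mp fun h => hxρ (by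
      show ρ₀ (x₂.map (residue A)) = 0
      rw [hρ₀, residue_eq_zero_iff]; exact h)
  have hπ0 : algebraMap A V π ≠ 0 := fun h => hπ.ne_zero ((IsFractionRing.injective A K)
    (((algebraMap K L).injective (((IsScalarTower.algebraMap_apply A K L π).symm.trans
      (congrArg Subtype.val h :)).trans (map_zero _).symm)).trans (map_zero _).symm))
  have hσπ : σq (algebraMap A (AdjoinRoot g) π) = algebraMap A V π := AdjoinRoot.lift_of _
  obtain ⟨hP, hres⟩ := uniformizer_of_fibre V σq (algebraMap A _ π) (by rw [hσπ]; exact hπ0)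
    (by rw [hσπ]; exact fun h => hπ.not_isUnit (isUnit_of_map_unit _ _ h))
    (AdjoinRoot.mk g x₂) hx2 (fun r hr => by
      obtain ⟨q, rfl⟩ := AdjoinRoot.mk_surjective r
      rw [hσq] at hr
      have h1 := hxker (Ideal.Quotient.mk _ (q.map (residue A))) (by
        show ρ₀ (q.map (residue A)) = 0
        rw [hρ₀, residue_eq_zero_iff]; exact hr)
      rw [← map_mul, ← Polynomial.map_mul, Ideal.Quotient.eq_zero_iff_mem, Ideal.mem_span_singleton] at h1
      obtain ⟨s, hs⟩ := h1
      obtain ⟨s', rfl⟩ := Polynomial.map_surjective (residue A) residue_surjective s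
      rw [← Polynomial.map_mul, ← sub_eq_zero, ← Polynomial.map_sub] at hs
      have h2 : ∀ i, π ∣ (x₂ * q - g * s').coeff i := fun i => by
        have := congrArg (coeff · i) hs
        simp only [coeff_map, coeff_zero] at this
        rwa [residue_eq_zero_iff, hπm, Ideal.mem_span_singleton] at this
      obtain ⟨u, hu⟩ := C_dvd_iff_dvd_coeff _ _ |>.mpr h2
      refine ⟨AdjoinRoot.mk g u, ?_⟩
      rw [← map_mul, AdjoinRoot.algebraMap_eq, ← AdjoinRoot.mk_C, ← map_mul, AdjoinRoot.mk_eq_mk]
      exact ⟨s', by linear_combination hu⟩)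
    (fun w => by
      let D := Algebra.adjoin A ({y} : Set L)
      obtain ⟨a, b, hb, hab⟩ := frac_of_adjoin_eq_top A K D.val.toRingHom (fun _ => rfl)
        Subtype.val_injective y ⟨⟨y, Algebra.self_mem_adjoin_singleton A y⟩, rfl⟩ hgen w
      have ha2 : (a : L) ∈ Algebra.adjoin A ({y} : Set L) := a.2
      have hb2 : (b : L) ∈ Algebra.adjoin A ({y} : Set L) := b.2
      rw [Algebra.adjoin_singleton_eq_range_aeval] at ha2 hb2
      obtain ⟨qa, hqa⟩ := ha2
      obtain ⟨qb, hqb⟩ := hb2
      refine ⟨AdjoinRoot.mk g qa, AdjoinRoot.mk g qb, ?_, ?_⟩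
      · rw [hσq, hσ]; exact hqb ▸ hb
      · rw [hσq, hσq, hσ, hσ, show aeval y qa = (a : L) from hqa, show aeval y qb = (b : L) from hqb]
        exact hab)
  refine ⟨?_, ?_⟩
  · show (maximalIdeal A).map (algebraMap A V) = maximalIdeal V
    rw [hπm, Ideal.map_span, Set.image_singleton, ← hσπ,
      (IsDiscreteValuationRing.irreducible_iff_uniformizer _).mp hP]
  · have hsepy : IsSeparable (ResidueField A) (residue V yV) := by
      refine hsep.of_dvd (minpoly.dvd _ _ ?_)
      have := hρ₀ g
      rw [hσg, map_zero] at this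
      exact this
    have hroot : residue V yV ∈ separableClosure (ResidueField A) (ResidueField V) :=
      mem_separableClosure_iff.mpr hsepy
    refine ⟨fun z => mem_separableClosure_iff.mp ?_⟩
    obtain ⟨w, rfl⟩ := residue_surjective z
    have hpol : ∀ q, residue V (σ q) ∈ separableClosure (ResidueField A) (ResidueField V) := by
      intro q
      rw [← hρ₀]
      show aeval (residue V yV) (q.map (residue A)) ∈ _
      rw [aeval_eq_sum_range]
      exact sum_mem fun i _ => by
        rw [Algebra.smul_def]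
        exact mul_mem (IntermediateField.algebraMap_mem _ _) (pow_mem hroot i)
    by_cases hwu : IsUnit w
    · obtain ⟨r, s, hs, he⟩ := hres w hwu
      obtain ⟨r, rfl⟩ := AdjoinRoot.mk_surjective r
      obtain ⟨s, rfl⟩ := AdjoinRoot.mk_surjective s
      rw [hσq] at hs he
      rw [hσq] at he
      have hs0 : residue V (σ s) ≠ 0 := fun h => (mem_maximalIdeal _).mp ((residue_eq_zero_iff _).mp h) hs
      rw [show residue V w = residue V (σ r) / residue V (σ s) by
        rw [eq_div_iff hs0, ← map_mul, he]]
      exact div_mem (hpol r) (hpol s)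
    · rw [show residue V w = 0 from (residue_eq_zero_iff _).mpr hwu]
      exact zero_mem _

omit [IsDiscreteValuationRing A] [FiniteDimensional K L] in
/-- Values of elements of `K` are integral powers. -/
theorem exists_valuation_eq_zpow [IsDiscreteValuationRing A] (V : ValuationSubring L)
    (hV : EtRam.Dominates A (algebraMap A L) V) {π : A} (hπ : Irreducible π) (k : K) (hk : k ≠ 0) :
    ∃ j : ℤ, V.valuation (algebraMap K L k) = V.valuation (algebraMap A L π) ^ j ∧
      (0 ≤ j → ∃ a : A, algebraMap A K a = k) := by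
  have hπ0 : algebraMap A K π ≠ 0 := (map_ne_zero_iff _ (IsFractionRing.injective A K)).mpr hπ.ne_zero
  have hP0 : V.valuation (algebraMap A L π) ≠ 0 := by
    rw [IsScalarTower.algebraMap_apply A K L]
    exact V.valuation.ne_zero_iff.mpr ((map_ne_zero_iff _ (algebraMap K L).injective).mpr hπ0)
  have hA : ∀ a : A, a ≠ 0 → ∃ (i : ℕ) (v : Aˣ), a = v * π ^ i ∧
      V.valuation (algebraMap A L a) = V.valuation (algebraMap A L π) ^ i := by
    intro a ha
    obtain ⟨i, v, rfl⟩ := IsDiscreteValuationRing.eq_unit_mul_pow_irreducible ha hπ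
    refine ⟨i, v, rfl, ?_⟩
    have hv : V.valuation (algebraMap A L v) = 1 :=
      ValuationSubring.valuation_unit V ((v.isUnit.map ((algebraMap A L).codRestrict V hV.1)).unit)
    rw [map_mul, map_mul, map_pow, map_pow, hv, one_mul]
  obtain ⟨a, b, hb, rfl⟩ := IsFractionRing.div_surjective (A := A) k
  have ha0 : a ≠ 0 := fun h => hk (by rw [h, map_zero, zero_div])
  obtain ⟨i, v, rfl, hi⟩ := hA a ha0
  obtain ⟨i', v', rfl, hi'⟩ := hA b (nonZeroDivisors.ne_zero hb)
  refine ⟨(i : ℤ) - i', ?_, fun h0 => ?_⟩
  · rw [map_div₀, map_div₀, ← IsScalarTower.algebraMap_apply, ← IsScalarTower.algebraMap_apply,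
      hi, hi', zpow_sub₀ hP0, zpow_natCast, zpow_natCast]
  · refine ⟨v * (v'⁻¹ : Aˣ) * π ^ (i - i'), ?_⟩
    rw [eq_div_iff ((map_ne_zero_iff _ (IsFractionRing.injective A K)).mpr (nonZeroDivisors.ne_zero hb)),
      ← map_mul]
    congr 1
    rw [show v * (v'⁻¹ : Aˣ) * π ^ (i - i') * (v' * π ^ i') =
      v * ((v'⁻¹ : Aˣ) * v') * (π ^ (i - i') * π ^ i') by ring, Units.inv_mul, mul_one, ← pow_add,
      Nat.sub_add_cancel (by omega)]

/-- An element with value a `p`-th root of that of a uniformizer makes the extension totally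
ramified. -/
theorem isTotallyRamified_of_root_value {p : ℕ} (hp : 0 < p) (hdeg : Module.finrank K L ≤ p)
    {π : A} (hπ : Irreducible π) (y : L)
    (hy : ∀ V : ValuationSubring L, EtRam.Dominates A (algebraMap A L) V →
      V.valuation y ^ p = V.valuation (algebraMap A L π)) :
    EtRam.IsTotallyRamified A (algebraMap A L) ∧ Module.finrank K L = p := by
  classical
  obtain ⟨V₀, hV₀⟩ : ∃ V : ValuationSubring L, EtRam.Dominates A (algebraMap A L) V := by
    rw [IsScalarTower.algebraMap_eq A K L]; exact exists_dominates A K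
  have key : ∀ V : ValuationSubring L, EtRam.Dominates A (algebraMap A L) V → ∀ c : Fin p → K,
      ((∀ i, c i = 0) ∨ ∃ i, c i ≠ 0 ∧
        (∀ j, c j ≠ 0 → j ≠ i → V.valuation (algebraMap K L (c j) * y ^ (j : ℕ)) <
          V.valuation (algebraMap K L (c i) * y ^ (i : ℕ))) ∧
        V.valuation (∑ j, algebraMap K L (c j) * y ^ (j : ℕ)) =
          V.valuation (algebraMap K L (c i) * y ^ (i : ℕ))) ∧
      (∀ j, c j ≠ 0 → V.valuation (algebraMap K L (c j) * y ^ (j : ℕ)) ≤ 1 →
        ∃ a : A, algebraMap A K a = c j) ∧ V.valuation y < 1 := by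
    intro V hV c
    set P := V.valuation y
    have hπlt : V.valuation (algebraMap A L π) < 1 :=
      hV.2 π ((mem_maximalIdeal _).mpr hπ.not_isUnit)
    have hP1 : P < 1 := by
      by_contra h
      exact absurd hπlt (not_lt.mpr ((one_le_pow₀ (not_lt.mp h)).trans_eq (hy V hV)))
    have hP0 : P ≠ 0 := fun h => by
      have h1 := hy V hV
      rw [show V.valuation y = 0 from h, zero_pow hp.ne'] at h1
      exact V.valuation.ne_zero_iff.mpr (by
        rw [IsScalarTower.algebraMap_apply A K L]
        exact (map_ne_zero_iff _ (algebraMap K L).injective).mpr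
          ((map_ne_zero_iff _ (IsFractionRing.injective A K)).mpr hπ.ne_zero)) h1.symm
    have hinj : ∀ a b : ℤ, P ^ a = P ^ b → a = b := fun a b h =>
      (zpow_right_strictAnti₀ (zero_lt_iff.mpr hP0) hP1).injective h
    have hval : ∀ j : Fin p, c j ≠ 0 → ∃ n : ℤ,
        V.valuation (algebraMap K L (c j) * y ^ (j : ℕ)) = P ^ (p * n + j) ∧
        (0 ≤ n → ∃ a : A, algebraMap A K a = c j) := by
      intro j hj
      obtain ⟨n, hn, hn'⟩ := exists_valuation_eq_zpow V hV hπ (c j) hj
      refine ⟨n, ?_, hn'⟩
      rw [map_mul, map_pow, hn, ← hy V hV, ← zpow_natCast, ← zpow_natCast, ← zpow_mul,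
        ← zpow_add₀ hP0]
    refine ⟨?_, fun j hj hle => ?_, hP1⟩
    · by_cases hall : ∀ i, c i = 0
      · exact Or.inl hall
      push Not at hall
      obtain ⟨i₀, hi₀⟩ := hall
      obtain ⟨i, hi, hmax⟩ := (Finset.univ.filter fun j => c j ≠ 0).exists_max_image
        (fun j => V.valuation (algebraMap K L (c j) * y ^ (j : ℕ))) ⟨i₀, by simpa using hi₀⟩
      rw [Finset.mem_filter] at hi
      refine Or.inr ⟨i, hi.2, fun j hj hji => lt_of_le_of_ne (hmax j (by simpa using hj)) fun heq => ?_, ?_⟩
      · obtain ⟨n, hn, -⟩ := hval j hj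
        obtain ⟨n', hn', -⟩ := hval i hi.2
        rw [hn, hn'] at heq
        have h1 := hinj _ _ heq
        have h2 := Nat.ModEq.eq_of_lt_of_lt (show (j : ℕ) ≡ i [MOD p] from by
          rw [← Int.natCast_modEq_iff, Int.modEq_iff_dvd]
          exact ⟨n - n', by linarith⟩) j.2 i.2
        exact hji (Fin.ext h2)
      · refine V.valuation.map_sum_eq_of_lt (Finset.mem_univ i) fun j hj => ?_
        rw [Finset.mem_sdiff, Finset.mem_singleton] at hj
        by_cases hj0 : c j = 0
        · rw [hj0, map_zero, zero_mul, map_zero]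
          exact zero_lt_iff.mpr (V.valuation.ne_zero_iff.mpr (mul_ne_zero
            ((map_ne_zero_iff _ (algebraMap K L).injective).mpr hi.2)
            (pow_ne_zero _ (V.valuation.ne_zero_iff.mp hP0))))
        · refine lt_of_le_of_ne (hmax j (by simpa using hj0)) fun heq => ?_
          obtain ⟨n, hn, -⟩ := hval j hj0
          obtain ⟨n', hn', -⟩ := hval i hi.2
          rw [hn, hn'] at heq
          have h1 := hinj _ _ heq
          have h2 := Nat.ModEq.eq_of_lt_of_lt (show (j : ℕ) ≡ i [MOD p] from by
            rw [← Int.natCast_modEq_iff, Int.modEq_iff_dvd]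
            exact ⟨n - n', by linarith⟩) j.2 i.2
          exact hj.2 (Fin.ext h2)
    · obtain ⟨n, hn, hn'⟩ := hval j hj
      refine hn' ?_
      rw [hn] at hle
      by_contra hneg
      push Not at hneg
      have : (p : ℤ) * n + j < 0 := by
        have := j.2
        nlinarith
      exact absurd hle (not_le.mpr ((one_lt_zpow_iff_right_of_lt_one₀ (zero_lt_iff.mpr hP0) hP1).mpr this))
  have hli : LinearIndependent K fun i : Fin p => y ^ (i : ℕ) := by
    rw [Fintype.linearIndependent_iff]
    intro c hc
    rcases (key V₀ hV₀ c).1 with h | ⟨i, hi, -, hs⟩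
    · exact h
    · exfalso
      rw [show ∑ j, algebraMap K L (c j) * y ^ (j : ℕ) = 0 by
        rw [← hc]; exact Finset.sum_congr rfl fun j _ => (Algebra.smul_def _ _).symm, map_zero] at hs
      refine mul_ne_zero ((map_ne_zero_iff _ (algebraMap K L).injective).mpr hi) (pow_ne_zero _ ?_)
        (V₀.valuation.zero_iff.mp hs.symm)
      intro h0
      have h1 := hy V₀ hV₀
      rw [h0, map_zero, zero_pow hp.ne', eq_comm, map_eq_zero] at h1
      exact hπ.ne_zero (IsFractionRing.injective A K ((algebraMap K L).injective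
        ((((IsScalarTower.algebraMap_apply A K L π).symm.trans h1).trans (map_zero _).symm)) |>.trans
          (map_zero _).symm))
  have hfin : Module.finrank K L = p :=
    le_antisymm hdeg (by simpa using hli.fintype_card_le_finrank)
  let b := basisOfLinearIndependentOfCardEqFinrank' _ hli (by simp [hfin])
  have hb : ∀ x : L, x = ∑ j, algebraMap K L (b.repr x j) * y ^ (j : ℕ) := fun x => by
    conv_lhs => rw [← b.sum_repr x]
    refine Finset.sum_congr rfl fun j _ => ?_
    rw [Algebra.smul_def, show b j = y ^ (j : ℕ) from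
      congrFun (coe_basisOfLinearIndependentOfCardEqFinrank' _ hli _) j]
  have hmem : ∀ V : ValuationSubring L, EtRam.Dominates A (algebraMap A L) V → ∀ x ∈ V,
      ∀ j, ∃ a : A, algebraMap A K a = b.repr x j := by
    intro V hV x hx j
    obtain ⟨h1, h2, -⟩ := key V hV (fun i => b.repr x i)
    by_cases hj : b.repr x j = 0
    · exact ⟨0, by rw [map_zero, hj]⟩
    refine h2 j hj ?_
    rcases h1 with h | ⟨i, -, hlt, hs⟩
    · exact absurd (h j) hj
    · rw [← hb x] at hs
      have hx1 : V.valuation x ≤ 1 := (V.valuation_le_one_iff x).mpr hx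
      by_cases hji : j = i
      · subst hji; exact hs ▸ hx1
      · exact ((hlt j hj hji).le.trans hs.ge).trans hx1
  refine ⟨⟨⟨V₀, hV₀⟩, fun V V' hV hV' => ?_, fun V hV => ?_⟩, hfin⟩
  · have hsub : ∀ V V' : ValuationSubring L, EtRam.Dominates A (algebraMap A L) V →
        EtRam.Dominates A (algebraMap A L) V' → ∀ x ∈ V, x ∈ V' := by
      intro V V' hV hV' x hx
      choose a ha using hmem V hV x hx
      rw [hb x]
      refine sum_mem fun j _ => mul_mem ?_ (pow_mem ?_ _)
      · rw [← ha j, ← IsScalarTower.algebraMap_apply]; exact hV'.1 _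
      · exact (V'.valuation_le_one_iff y).mp (key V' hV' 0).2.2.le
    exact SetLike.ext fun x => ⟨hsub V V' hV hV' x, hsub V' V hV' hV x⟩
  · intro r
    obtain ⟨x, rfl⟩ := residue_surjective r
    choose a ha using hmem V hV (x : L) x.2
    have hP1 := (key V hV 0).2.2
    refine ⟨a ⟨0, hp⟩, ?_⟩
    show residue V (RingHom.codRestrict (algebraMap A L) V hV.1 (a ⟨0, hp⟩)) = residue V x
    rw [← sub_eq_zero, ← map_sub, residue_eq_zero_iff]
    refine (ValuationSubring.valuation_lt_one_iff V _).mpr ?_
    show V.valuation (algebraMap A L (a ⟨0, hp⟩) - (x : L)) < 1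
    rw [Valuation.map_sub_swap, hb (x : L), ← Finset.add_sum_erase _ _ (Finset.mem_univ (⟨0, hp⟩ : Fin p)),
      show ((⟨0, hp⟩ : Fin p) : ℕ) = 0 from rfl, pow_zero, mul_one, ← ha ⟨0, hp⟩,
      ← IsScalarTower.algebraMap_apply, add_sub_cancel_left]
    refine V.valuation.map_sum_lt one_ne_zero fun j hj => ?_
    rw [map_mul, map_pow, ← ha j, ← IsScalarTower.algebraMap_apply]
    refine lt_of_le_of_lt (mul_le_of_le_one_left' ((V.valuation_le_one_iff _).mpr (hV.1 _))) ?_
    exact pow_lt_one₀ zero_le hP1 fun h0 => (Finset.mem_erase.mp hj).1 (Fin.ext h0)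

/-- A root of a polynomial with reduction `X ^ p - a`, `a` not a `p`-th power. -/
theorem isInertPurelyInseparable_of_root {p : ℕ} (hp : p.Prime) [CharP (ResidueField A) p]
    {g : A[X]} (hg : g.Monic) (a : ResidueField A) (hgr : g.map (residue A) = X ^ p - C a)
    (ha : ∀ r, r ^ p ≠ a) (y : L) (hy : aeval y g = 0) (hgen : Algebra.adjoin K {y} = ⊤) :
    IsInertPurelyInseparable A (algebraMap A L) p ∧ Module.finrank K L = p := by
  obtain ⟨π, hπ⟩ := IsDiscreteValuationRing.exists_irreducible A
  have hπm := (IsDiscreteValuationRing.irreducible_iff_uniformizer π).mp hπ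
  have hirr : Irreducible (g.map (residue A)) := hgr ▸ X_pow_sub_C_irreducible_of_prime hp ha
  obtain ⟨hgirr, hdomD, hdvrD, hmax⟩ := dvr_of_irreducible_residue hg hirr hπm
  set D := AdjoinRoot g
  have : Module.Finite A D := hg.finite_adjoinRoot
  have hd : g.natDegree = p := by
    rw [← hg.natDegree_map (residue A), hgr, natDegree_X_pow_sub_C]
  have hdeg : Module.finrank K L = p := by
    have hgK : Irreducible (g.map (algebraMap A K)) :=
      (hg.irreducible_iff_irreducible_map_fraction_map).mp hgirr
    have hy' : aeval y (g.map (algebraMap A K)) = 0 := by rw [aeval_map_algebraMap]; exact hy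
    have hmin := minpoly.eq_of_irreducible_of_monic hgK hy' (hg.map _)
    have hint : IsIntegral K y := Algebra.IsIntegral.isIntegral y
    have htop : IntermediateField.adjoin K ({y} : Set L) = ⊤ := eq_top_iff.mpr fun x _ =>
      IntermediateField.algebra_adjoin_le_adjoin K {y} (hgen ▸ Algebra.mem_top)
    rw [← IntermediateField.finrank_top', ← htop, IntermediateField.adjoin.finrank hint, ← hmin,
      hg.natDegree_map, hd]
  have hinjL : Function.Injective (algebraMap A L) := by
    rw [IsScalarTower.algebraMap_eq A K L]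
    exact (algebraMap K L).injective.comp (IsFractionRing.injective A K)
  have hz : g.eval₂ (algebraMap A L) y = 0 := hy
  let ψ : D →+* L := AdjoinRoot.lift (algebraMap A L) y hz
  have hψA : ∀ x, ψ (algebraMap A D x) = algebraMap A L x := fun _ => AdjoinRoot.lift_of hz
  have hψinj : Function.Injective ψ := by
    rw [RingHom.injective_iff_ker_eq_bot]
    refine Ideal.eq_bot_of_comap_eq_bot (R := A) ?_
    rw [RingHom.comap_ker, show ψ.comp (algebraMap A D) = algebraMap A L from RingHom.ext hψA,
      (RingHom.injective_iff_ker_eq_bot _).mp hinjL]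
  have hfrac := frac_of_adjoin_eq_top A K ψ hψA hψinj y ⟨AdjoinRoot.root g, AdjoinRoot.lift_root hz⟩ hgen
  have hπD : algebraMap A D π ≠ 0 := fun h => hπ.ne_zero (hinjL (by rw [← hψA, h, map_zero, map_zero]))
  have hle : ∀ V : ValuationSubring L, EtRam.Dominates A (algebraMap A L) V → ∀ d, ψ d ∈ V :=
    fun V hV => mem_of_isIntegral ψ V fun x => (hψA x).symm ▸ hV.1 x
  have hlt : ∀ V : ValuationSubring L, EtRam.Dominates A (algebraMap A L) V → ∀ d ∈ maximalIdeal D,
      V.valuation (ψ d) < 1 := fun V hV =>
    valuation_lt_one_of_mem_maximalIdeal ψ V (hle V hV)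
      ⟨_, hπD, (hψA π).symm ▸ hV.2 π ((mem_maximalIdeal _).mpr hπ.not_isUnit)⟩
  refine ⟨⟨?_, fun V V' hV hV' => ?_, fun V hV => ?_⟩, hdeg⟩
  · rw [IsScalarTower.algebraMap_eq A K L]; exact exists_dominates A K
  · ext x
    rw [mem_iff_mem_range ψ hfrac V (hle V hV) (hlt V hV),
      mem_iff_mem_range ψ hfrac V' (hle V' hV') (hlt V' hV')]
  · intro _
    let _ : Algebra A V := (RingHom.codRestrict (algebraMap A L) V hV.1).toAlgebra
    let φ : D →+* V := ψ.codRestrict V (hle V hV)
    have hφbij : Function.Bijective φ := by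
      refine ⟨fun x x' h => hψinj (congrArg Subtype.val h :), fun v => ?_⟩
      obtain ⟨d, hd⟩ := (mem_iff_mem_range ψ hfrac V (hle V hV) (hlt V hV) _).mp v.2
      exact ⟨d, Subtype.ext hd⟩
    have hφA : ∀ x, φ (algebraMap A D x) = algebraMap A V x := fun x => Subtype.ext (hψA x)
    have hmapm : (maximalIdeal D).map φ = maximalIdeal V := by
      have hi : (maximalIdeal D).map φ ≤ maximalIdeal V := Ideal.map_le_iff_le_comap.mpr fun d hd =>
        Ideal.mem_comap.mpr ((ValuationSubring.valuation_lt_one_iff V _).mpr (hlt V hV d hd))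
      refine le_antisymm hi fun v hv => ?_
      obtain ⟨d, rfl⟩ := hφbij.2 v
      exact Ideal.mem_map_of_mem φ ((mem_maximalIdeal _).mpr fun hu => (mem_maximalIdeal _).mp hv (hu.map φ))
    set yb : ResidueField V := residue V (φ (AdjoinRoot.root g))
    have hres : ∀ d, residue V (φ d) ∈ Algebra.adjoin (ResidueField A) ({yb} : Set (ResidueField V)) := by
      intro d
      obtain ⟨q, rfl⟩ := AdjoinRoot.mk_surjective d
      have h1 : residue V (φ (AdjoinRoot.mk g q)) = aeval yb (q.map (residue A)) := by
        rw [← AdjoinRoot.aeval_eq, aeval_def, hom_eval₂, hom_eval₂, aeval_def, eval₂_map]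
        congr 1
        exact RingHom.ext fun x => congrArg (residue V) (hφA x)
      rw [h1]
      exact aeval_mem_adjoin_singleton _ _
    have hroot : aeval yb (X ^ p - C a) = 0 := by
      have h1 : residue V (φ (aeval (AdjoinRoot.root g) g)) = aeval yb (g.map (residue A)) := by
        rw [aeval_def, hom_eval₂, hom_eval₂, aeval_def, eval₂_map]
        congr 1
        exact RingHom.ext fun x => congrArg (residue V) (hφA x)
      rw [← hgr, ← h1, AdjoinRoot.aeval_eq, AdjoinRoot.mk_self, map_zero, map_zero]
    have hgenr : Algebra.adjoin (ResidueField A) ({yb} : Set (ResidueField V)) = ⊤ :=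
      eq_top_iff.mpr fun r _ => by
        obtain ⟨v, rfl⟩ := residue_surjective r
        obtain ⟨d, rfl⟩ := hφbij.2 v
        exact hres d
    have hirr' : Irreducible (X ^ p - C a) := X_pow_sub_C_irreducible_of_prime hp ha
    have hmin := minpoly.eq_of_irreducible_of_monic hirr' hroot (monic_X_pow_sub_C a hp.ne_zero)
    have hint : IsIntegral (ResidueField A) yb := ⟨_, monic_X_pow_sub_C a hp.ne_zero, hroot⟩
    have htop : IntermediateField.adjoin (ResidueField A) ({yb} : Set (ResidueField V)) = ⊤ :=
      eq_top_iff.mpr fun x _ =>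
        IntermediateField.algebra_adjoin_le_adjoin _ {yb} (hgenr ▸ Algebra.mem_top)
    have : Fact p.Prime := ⟨hp⟩
    have : CharP (ResidueField V) p :=
      charP_of_injective_algebraMap (algebraMap (ResidueField A) (ResidueField V)).injective p
    have : ExpChar (ResidueField A) p := .prime hp
    refine ⟨?_, ?_, ?_⟩
    · show (maximalIdeal A).map (algebraMap A V) = maximalIdeal V
      rw [← hmapm, hmax, hπm, Ideal.map_span, Ideal.map_span, Set.image_singleton,
        Set.image_singleton, hφA]
    · refine (isPurelyInseparable_iff_pow_mem (ResidueField A) p).mpr fun r => ⟨1, ?_⟩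
      rw [pow_one]
      have hr : r ∈ Algebra.adjoin (ResidueField A) ({yb} : Set (ResidueField V)) := hgenr ▸ trivial
      induction hr using Algebra.adjoin_induction with
      | mem x hx =>
        refine ⟨a, ?_⟩
        rw [Set.mem_singleton_iff.mp hx]
        rw [map_sub, map_pow, aeval_X, aeval_C, sub_eq_zero] at hroot
        exact hroot.symm
      | algebraMap k => exact ⟨k ^ p, map_pow _ _ _⟩
      | add u v _ _ hu hv => rw [add_pow_char]; exact add_mem hu hv
      | mul u v _ _ hu hv => rw [mul_pow]; exact mul_mem hu hv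
    · rw [← IntermediateField.finrank_top', ← htop, IntermediateField.adjoin.finrank hint, ← hmin,
        natDegree_X_pow_sub_C]

end Ram24
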