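import Groth.Agent.Ram24.Incl
import Groth.Agent.Sep12.Basic

/-!
# Every finite extension is a solution for a weakly unramified extension with separable residue field
-/

universe u

open IsLocalRing Polynomial TensorProduct

namespace Ram24

theorem finiteDimensional_of_adjoin_eq_top {K L K₁ M : Type u} [Field K] [Field L] [Field K₁] [Field M]
    [Algebra K L] [Algebra K K₁] [Algebra K M] [Algebra L M] [Algebra K₁ M] [IsScalarTower K L M]
    [IsScalarTower K K₁ M] [FiniteDimensional K K₁]
    (hgen : Algebra.adjoin L (Set.range (algebraMap K₁ M)) = ⊤) : FiniteDimensional L M := by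
  let φ : L ⊗[K] K₁ →ₐ[L] M := Algebra.TensorProduct.lift (Algebra.ofId L M)
    (IsScalarTower.toAlgHom K K₁ M) fun _ _ => Commute.all _ _
  refine Module.Finite.of_surjective φ.toLinearMap (show Function.Surjective φ from ?_)
  rw [← AlgHom.range_eq_top, ← top_le_iff, ← hgen]
  refine Algebra.adjoin_le ?_
  rintro _ ⟨x, rfl⟩
  exact ⟨1 ⊗ₜ x, by simp [φ]⟩

section

variable {A B K L : Type u} [CommRing A] [IsDomain A] [IsDiscreteValuationRing A]
  [CommRing B] [IsDomain B] [IsDiscreteValuationRing B] [Algebra A B] [IsLocalHom (algebraMap A B)]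
  [Field K] [Field L] [Algebra A K] [IsFractionRing A K] [Algebra B L] [IsFractionRing B L]
  [Algebra K L] [Algebra A L] [IsScalarTower A K L] [IsScalarTower A B L]

variable (A) in
set_option maxHeartbeats 1000000 in
theorem isSolution_of_smooth (hw : EtRam.IsWeaklyUnramified A B)
    [Algebra.IsGeometricallyReduced (ResidueField A) (ResidueField B)]
    (K₁ : Type u) [Field K₁] [Algebra K K₁] [FiniteDimensional K K₁] :
    EtRam.IsSolution B K L K₁ := by
  intro M _ _ _ _ _ _ hgen W hW
  classical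
  have := finiteDimensional_of_adjoin_eq_top (K := K) hgen
  have := dvr_of_dominates (B := B) (L := L) W hW
  set V₁ := W.comap (algebraMap K₁ M)
  have hcomp : (algebraMap K₁ M).comp ((algebraMap K K₁).comp (algebraMap A K)) =
      ((algebraMap L M).comp (algebraMap B L)).comp (algebraMap A B) := RingHom.ext fun x => by
    simp only [RingHom.comp_apply, ← IsScalarTower.algebraMap_apply A B L,
      IsScalarTower.algebraMap_apply A K L, ← IsScalarTower.algebraMap_apply K L M,
      ← IsScalarTower.algebraMap_apply K K₁ M]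
  have hdomV : EtRam.Dominates A ((algebraMap K K₁).comp (algebraMap A K)) V₁ := by
    have h : EtRam.Dominates A (((algebraMap L M).comp (algebraMap B L)).comp (algebraMap A B)) W :=
      ⟨fun a => hW.1 _, fun a ha => hW.2 _ (map_nonunit (algebraMap A B) a ha)⟩
    rw [← hcomp] at h
    refine ⟨fun a => h.1 a, fun a ha => ?_⟩
    have h1 := h.2 a ha
    let v : V₁ := ⟨_, h.1 a⟩
    refine (ValuationSubring.valuation_lt_one_iff V₁ v).mp ?_
    rw [mem_maximalIdeal, mem_nonunits_iff, ← isUnit_map_iff (EtRam.inclOfComap W (algebraMap K₁ M)),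
      ← mem_nonunits_iff, ← mem_maximalIdeal, ValuationSubring.valuation_lt_one_iff W]
    exact h1
  have := dvr_of_dominates (B := A) (L := K) V₁ hdomV
  let i₁ : V₁ →+* W := EtRam.inclOfComap W (algebraMap K₁ M)
  let jA : A →+* V₁ := ((algebraMap K K₁).comp (algebraMap A K)).codRestrict V₁ hdomV.1
  let jB : B →+* W := ((algebraMap L M).comp (algebraMap B L)).codRestrict W hW.1
  have hjB : IsLocalHom jB := ⟨fun b hb => by
    by_contra hnb
    exact ((ValuationSubring.valuation_lt_one_iff W (jB b)).mpr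
      (hW.2 b ((mem_maximalIdeal _).mpr hnb))) hb⟩
  have hjA : IsLocalHom jA := ⟨fun a ha => by
    by_contra hna
    exact ((ValuationSubring.valuation_lt_one_iff V₁ (jA a)).mpr
      (hdomV.2 a ((mem_maximalIdeal _).mpr hna))) ha⟩
  let _ : Algebra A V₁ := jA.toAlgebra
  have : IsLocalHom (algebraMap A V₁) := hjA
  let _ : Algebra A K₁ := ((algebraMap K K₁).comp (algebraMap A K)).toAlgebra
  have : IsScalarTower A K K₁ := .of_algebraMap_eq fun _ => rfl
  have : IsScalarTower A V₁ K₁ := .of_algebraMap_eq fun _ => rfl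
  have hinjA : Function.Injective (algebraMap A V₁) := fun x y h =>
    IsFractionRing.injective A K ((algebraMap K K₁).injective (congrArg Subtype.val h :))
  obtain ⟨hfinκ, -⟩ := Dvr24.finite_and_mul_le (A := A) (B := V₁) (K := K) (L := K₁) hinjA
  have hcompW : i₁.comp (algebraMap A V₁) = jB.comp (algebraMap A B) :=
    RingHom.ext fun a => Subtype.ext (RingHom.congr_fun hcomp a)
  -- uniformizers
  obtain ⟨π, hπ⟩ := IsDiscreteValuationRing.exists_irreducible A
  obtain ⟨π₁, hπ₁⟩ := IsDiscreteValuationRing.exists_irreducible V₁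
  obtain ⟨e, he0, he, -⟩ := Dvr24.exists_map_maximalIdeal_eq hinjA hπ₁
  let _ : Algebra A W := (jB.comp (algebraMap A B)).toAlgebra
  let σ : V₁ ⊗[A] B →ₐ[A] W := Algebra.TensorProduct.lift
    { i₁ with commutes' := fun a => RingHom.congr_fun hcompW a }
    { jB with commutes' := fun a => rfl } fun _ _ => Commute.all _ _
  have hσ : ∀ v b, σ (v ⊗ₜ b) = i₁ v * jB b := fun v b => Algebra.TensorProduct.lift_tmul _ _ _ _ _
  -- the closed fibre
  let T₀ := ResidueField V₁ ⊗[ResidueField A] ResidueField B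
  let π' : V₁ ⊗[A] B →+* T₀ := (Algebra.TensorProduct.lift
    ((IsScalarTower.toAlgHom A (ResidueField V₁) T₀).comp (IsScalarTower.toAlgHom A V₁ (ResidueField V₁)))
    (((Algebra.TensorProduct.includeRight (R := ResidueField A) (A := ResidueField V₁)).restrictScalars A).comp
      (IsScalarTower.toAlgHom A B (ResidueField B))) fun _ _ => Commute.all _ _).toRingHom
  have hπ' : ∀ v b, π' (v ⊗ₜ b) = residue V₁ v ⊗ₜ residue B b := fun v b => by
    show Algebra.TensorProduct.lift _ _ _ (v ⊗ₜ b) = _
    rw [Algebra.TensorProduct.lift_tmul]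
    show (residue V₁ v ⊗ₜ[ResidueField A] (1 : ResidueField B)) * (1 ⊗ₜ residue B b) = _
    rw [Algebra.TensorProduct.tmul_mul_tmul, mul_one, one_mul]
  let J : Ideal (V₁ ⊗[A] B) := Ideal.span {π₁ ⊗ₜ 1}
  have hJ₁ : ∀ v ∈ maximalIdeal V₁, (Algebra.TensorProduct.includeLeftRingHom v : V₁ ⊗[A] B) ∈ J := by
    intro v hv
    rw [(IsDiscreteValuationRing.irreducible_iff_uniformizer π₁).mp hπ₁, Ideal.mem_span_singleton] at hv
    obtain ⟨w, rfl⟩ := hv
    rw [map_mul]
    exact Ideal.mul_mem_right _ _ (Ideal.mem_span_singleton_self _)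
  have hJ₂ : ∀ b ∈ maximalIdeal B, (Algebra.TensorProduct.includeRight b : V₁ ⊗[A] B) ∈ J := by
    intro b hb
    rw [← hw, (IsDiscreteValuationRing.irreducible_iff_uniformizer π).mp hπ, Ideal.map_span,
      Set.image_singleton, Ideal.mem_span_singleton] at hb
    obtain ⟨w, rfl⟩ := hb
    rw [map_mul, AlgHom.commutes]
    refine Ideal.mul_mem_right _ _ ?_
    rw [Algebra.TensorProduct.algebraMap_apply]
    exact hJ₁ _ (map_nonunit (algebraMap A V₁) π hπ.not_isUnit)
  let l₁ : ResidueField V₁ →+* (V₁ ⊗[A] B) ⧸ J :=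
    Ideal.Quotient.lift _ ((Ideal.Quotient.mk J).comp Algebra.TensorProduct.includeLeftRingHom)
      fun v hv => Ideal.Quotient.eq_zero_iff_mem.mpr (hJ₁ v hv)
  let l₂ : ResidueField B →+* (V₁ ⊗[A] B) ⧸ J :=
    Ideal.Quotient.lift _ ((Ideal.Quotient.mk J).comp Algebra.TensorProduct.includeRight.toRingHom)
      fun v hv => Ideal.Quotient.eq_zero_iff_mem.mpr (hJ₂ v hv)
  let _ : Algebra (ResidueField A) ((V₁ ⊗[A] B) ⧸ J) :=
    RingHom.toAlgebra' (l₁.comp (algebraMap (ResidueField A) (ResidueField V₁)))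
      fun c x => mul_comm _ x
  let τ : T₀ →ₐ[ResidueField A] (V₁ ⊗[A] B) ⧸ J := Algebra.TensorProduct.lift
    { l₁ with commutes' := fun x => rfl }
    { l₂ with
      commutes' := fun x => by
        obtain ⟨a, rfl⟩ := residue_surjective x
        show Ideal.Quotient.mk J (Algebra.TensorProduct.includeRight (algebraMap A B a)) =
          Ideal.Quotient.mk J (Algebra.TensorProduct.includeLeftRingHom (algebraMap A V₁ a))
        rw [AlgHom.commutes, Algebra.TensorProduct.algebraMap_apply]
        rfl } fun x y => mul_comm (G := (V₁ ⊗[A] B) ⧸ J) _ _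
  have hker : ∀ y, π' y = 0 → y ∈ J := by
    intro y hy
    have h : τ (π' y) = Ideal.Quotient.mk J y := by
      clear hy
      induction y using TensorProduct.induction_on with
      | zero => simp
      | tmul v b =>
        rw [hπ']
        show Ideal.Quotient.mk J (v ⊗ₜ 1) * Ideal.Quotient.mk J (1 ⊗ₜ b) = _
        rw [← map_mul, Algebra.TensorProduct.tmul_mul_tmul, mul_one, one_mul]
      | add x y hx hy => simp [hx, hy]
    rw [hy, map_zero] at h
    exact Ideal.Quotient.eq_zero_iff_mem.mp h.symm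
  have hπ'surj : Function.Surjective π' := by
    intro t
    induction t using TensorProduct.induction_on with
    | zero => exact ⟨0, map_zero _⟩
    | tmul v b =>
      obtain ⟨v, rfl⟩ := residue_surjective v
      obtain ⟨b, rfl⟩ := residue_surjective b
      exact ⟨v ⊗ₜ b, hπ' v b⟩
    | add x y hx hy =>
      obtain ⟨x, rfl⟩ := hx
      obtain ⟨y, rfl⟩ := hy
      exact ⟨x + y, map_add _ _ _⟩
  let g₁ : ResidueField V₁ →+* ResidueField W := ResidueField.map i₁
  let g₂ : ResidueField B →+* ResidueField W := ResidueField.map jB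
  let _ : Algebra (ResidueField V₁) (ResidueField W) := g₁.toAlgebra
  let _ : Algebra (ResidueField A) (ResidueField W) :=
    (g₁.comp (algebraMap (ResidueField A) (ResidueField V₁))).toAlgebra
  have : IsScalarTower (ResidueField A) (ResidueField V₁) (ResidueField W) :=
    .of_algebraMap_eq fun _ => rfl
  let ρ : T₀ →ₐ[ResidueField V₁] ResidueField W := Algebra.TensorProduct.lift
    (Algebra.ofId (ResidueField V₁) (ResidueField W))
    { g₂ with
      commutes' := fun x => by
        obtain ⟨a, rfl⟩ := residue_surjective x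
        show residue W (jB (algebraMap A B a)) = residue W (i₁ (algebraMap A V₁ a))
        rw [← RingHom.comp_apply jB, ← hcompW]; rfl } fun _ _ => Commute.all _ _
  have hρπ : ∀ y, ρ (π' y) = residue W (σ y) := by
    intro y
    induction y using TensorProduct.induction_on with
    | zero => simp
    | tmul v b =>
      rw [hπ', hσ, map_mul, Algebra.TensorProduct.lift_tmul]
      show g₁ (residue V₁ v) * g₂ (residue B b) = _
      rw [ResidueField.map_residue, ResidueField.map_residue]
    | add x y hx hy => simp [hx, hy]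
  have hred : IsReduced T₀ := inferInstance
  have hart : IsArtinianRing T₀ := by
    let c := Algebra.TensorProduct.comm (ResidueField A) (ResidueField B) (ResidueField V₁)
    have : IsArtinianRing (ResidueField B ⊗[ResidueField A] ResidueField V₁) :=
      IsArtinianRing.of_finite (ResidueField B) _
    exact c.toRingEquiv.isArtinianRing
  have hkmax : (RingHom.ker ρ).IsMaximal := by
    have := RingHom.ker_isPrime ρ
    infer_instance
  let m : MaximalSpectrum T₀ := ⟨RingHom.ker ρ, hkmax⟩
  let eT := IsArtinianRing.equivPi T₀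
  obtain ⟨x, hxρ, hxker⟩ : ∃ x : T₀, ρ x ≠ 0 ∧ ∀ y, ρ y = 0 → x * y = 0 := by
    refine ⟨eT.symm (Pi.single m 1), fun h => ?_, fun y hy => eT.injective (funext fun i => ?_)⟩
    · have h1 : eT (eT.symm (Pi.single m 1)) m = 1 := by
        rw [AlgEquiv.apply_symm_apply, Pi.single_eq_same]
      rw [IsArtinianRing.equivPi_apply,
        show Ideal.Quotient.mk m.asIdeal (eT.symm (Pi.single m 1)) = 0 from
          Ideal.Quotient.eq_zero_iff_mem.mpr h] at h1
      exact zero_ne_one h1
    · rw [map_mul, map_zero, Pi.mul_apply, AlgEquiv.apply_symm_apply, Pi.zero_apply]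
      by_cases hi : i = m
      · rw [hi, IsArtinianRing.equivPi_apply, show Ideal.Quotient.mk m.asIdeal y = 0 from
          Ideal.Quotient.eq_zero_iff_mem.mpr hy, mul_zero]
      · rw [Pi.single_eq_of_ne hi, zero_mul]
  obtain ⟨x', rfl⟩ := hπ'surj x
  have hx'u : IsUnit (σ x') := by
    rw [hρπ] at hxρ
    exact notMem_maximalIdeal.mp fun h => hxρ ((residue_eq_zero_iff _).mpr h)
  set P : W := i₁ π₁
  have hPnu : ¬ IsUnit P := fun h => hπ₁.not_isUnit (isUnit_of_map_unit i₁ _ h)
  have hP0 : P ≠ 0 := fun h => hπ₁.ne_zero (Subtype.ext ((algebraMap K₁ M).injective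
    ((congrArg Subtype.val h :).trans (map_zero _).symm)))
  obtain ⟨ϖ, hϖ⟩ := IsDiscreteValuationRing.exists_irreducible W
  obtain ⟨E, hE⟩ := IsDiscreteValuationRing.associated_pow_irreducible hP0 hϖ
  have hE0 : 0 < E := Nat.pos_of_ne_zero fun h0 => by
    rw [h0, pow_zero, associated_one_iff_isUnit] at hE; exact hPnu hE
  -- every value on the image is a power of `P`
  have hval : ∀ r : V₁ ⊗[A] B, σ r ≠ 0 →
      ∃ k r' s', IsUnit (σ r') ∧ IsUnit (σ s') ∧ σ r * σ s' = P ^ k * σ r' := by
    intro r hr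
    obtain ⟨n, hn⟩ := IsDiscreteValuationRing.associated_pow_irreducible hr hϖ
    induction n using Nat.strong_induction_on generalizing r with
    | _ n ih =>
      by_cases hu : IsUnit (σ r)
      · exact ⟨0, r, 1, hu, by simp, by simp⟩
      have hρr : ρ (π' r) = 0 := by
        rw [hρπ, residue_eq_zero_iff]; exact hu
      obtain ⟨r', hr'⟩ := Ideal.mem_span_singleton.mp (hker (x' * r) (by rw [map_mul, hxker _ hρr]))
      have heq : σ r * σ x' = P * σ r' := by
        rw [mul_comm (σ r), ← map_mul, hr', map_mul, hσ, map_one, mul_one]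
      have hr'0 : σ r' ≠ 0 := fun h => by
        rw [h, mul_zero] at heq
        exact hr ((mul_eq_zero.mp heq).resolve_right hx'u.ne_zero)
      obtain ⟨n', hn'⟩ := IsDiscreteValuationRing.associated_pow_irreducible hr'0 hϖ
      have hnn : n = E + n' := by
        have h1 : Associated (ϖ ^ n) (ϖ ^ (E + n')) := by
          rw [pow_add]
          refine hn.symm.trans (((associated_mul_unit_right _ _ hx'u).trans ?_).trans (hE.mul_mul hn'))
          rw [heq]
        exact le_antisymm ((pow_dvd_pow_iff hϖ.ne_zero hϖ.not_isUnit).mp h1.dvd)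
          ((pow_dvd_pow_iff hϖ.ne_zero hϖ.not_isUnit).mp h1.symm.dvd)
      obtain ⟨k, r'', s'', h1, h2, h3⟩ := ih n' (by omega) r' hr'0 hn'
      refine ⟨k + 1, r'', x' * s'', h1, by rw [map_mul]; exact hx'u.mul h2, ?_⟩
      rw [map_mul, ← mul_assoc, heq, mul_assoc, h3, pow_succ]; ring
  -- the image generates the field
  let D : Subring M := (W.subtype.comp σ.toRingHom).range
  have hfrac : ∀ w : W, w ≠ 0 → ∃ (k j : ℕ) (r s : V₁ ⊗[A] B),
      IsUnit (σ r) ∧ IsUnit (σ s) ∧ w * P ^ j * σ s = P ^ k * σ r := by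
    intro w hw0
    obtain ⟨a, b, hb, hab⟩ : ∃ a b : D, D.subtype b ≠ 0 ∧ (w : M) * D.subtype b = D.subtype a := by
      refine exists_frac_of_closure D.subtype Subtype.val_injective
        (Set.range (algebraMap L M) ∪ Set.range (algebraMap K₁ M)) ?_ ?_ (w : M)
      · rintro y (⟨l, rfl⟩ | ⟨l, rfl⟩)
        · obtain ⟨a, b, hb, rfl⟩ := IsFractionRing.div_surjective (A := B) l
          refine ⟨⟨_, ⟨1 ⊗ₜ a, rfl⟩⟩, ⟨_, ⟨1 ⊗ₜ b, rfl⟩⟩, ?_, ?_⟩
          · show ((σ (1 ⊗ₜ b) : W) : M) ≠ 0
            rw [hσ, map_one, one_mul]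
            exact (map_ne_zero_iff _ (algebraMap L M).injective).mpr
              ((map_ne_zero_iff _ (IsFractionRing.injective B L)).mpr (nonZeroDivisors.ne_zero hb))
          · show _ * ((σ (1 ⊗ₜ b) : W) : M) = ((σ (1 ⊗ₜ a) : W) : M)
            rw [hσ, hσ, map_one, one_mul, one_mul, map_div₀]
            exact div_mul_cancel₀ _ ((map_ne_zero_iff _ (algebraMap L M).injective).mpr
              ((map_ne_zero_iff _ (IsFractionRing.injective B L)).mpr (nonZeroDivisors.ne_zero hb)))
        · obtain ⟨a, b, hb, rfl⟩ := IsFractionRing.div_surjective (A := V₁) l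
          refine ⟨⟨_, ⟨a ⊗ₜ 1, rfl⟩⟩, ⟨_, ⟨b ⊗ₜ 1, rfl⟩⟩, ?_, ?_⟩
          · show ((σ (b ⊗ₜ 1) : W) : M) ≠ 0
            rw [hσ, map_one, mul_one]
            exact (map_ne_zero_iff _ (algebraMap K₁ M).injective).mpr
              ((map_ne_zero_iff _ (IsFractionRing.injective V₁ K₁)).mpr (nonZeroDivisors.ne_zero hb))
          · show _ * ((σ (b ⊗ₜ 1) : W) : M) = ((σ (a ⊗ₜ 1) : W) : M)
            rw [hσ, hσ, map_one, mul_one, mul_one, map_div₀]
            exact div_mul_cancel₀ _ ((map_ne_zero_iff _ (algebraMap K₁ M).injective).mpr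
              ((map_ne_zero_iff _ (IsFractionRing.injective V₁ K₁)).mpr (nonZeroDivisors.ne_zero hb)))
      · rw [eq_top_iff]
        rintro y -
        have hy : y ∈ Algebra.adjoin L (Set.range (algebraMap K₁ M)) := hgen ▸ trivial
        induction hy using Algebra.adjoin_induction with
        | mem z hz => exact Subfield.subset_closure (Or.inr hz)
        | algebraMap l => exact Subfield.subset_closure (Or.inl ⟨l, rfl⟩)
        | add u v _ _ hu hv => exact add_mem hu hv
        | mul u v _ _ hu hv => exact mul_mem hu hv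
    obtain ⟨_, s, rfl⟩ := b
    obtain ⟨_, r, rfl⟩ := a
    have hsr : w * σ s = σ r := Subtype.ext hab
    have hs0 : σ s ≠ 0 := fun h => hb (congrArg Subtype.val h)
    have hr0 : σ r ≠ 0 := hsr ▸ mul_ne_zero hw0 hs0
    obtain ⟨j, r₁, s₁, hr₁, hs₁, he₁⟩ := hval s hs0
    obtain ⟨k, r₂, s₂, hr₂, hs₂, he₂⟩ := hval r hr0
    refine ⟨k, j, r₂ * s₁, r₁ * s₂, by rw [map_mul]; exact hr₂.mul hs₁,
      by rw [map_mul]; exact hr₁.mul hs₂, ?_⟩
    rw [map_mul, map_mul]
    calc w * P ^ j * (σ r₁ * σ s₂) = w * (P ^ j * σ r₁) * σ s₂ := by ring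
      _ = (w * σ s) * σ s₁ * σ s₂ := by rw [← he₁]; ring
      _ = σ r * σ s₂ * σ s₁ := by rw [hsr]; ring
      _ = P ^ k * (σ r₂ * σ s₁) := by rw [he₂]; ring
  have hexp : ∀ (w : W) (i j k : ℕ) (a b : W), IsUnit a → IsUnit b → Associated w (ϖ ^ i) →
      w * P ^ j * a = P ^ k * b → i + E * j = E * k := by
    intro w i j k a b ha hb hwi heq
    have h1 : Associated (ϖ ^ (i + E * j)) (ϖ ^ (E * k)) := by
      rw [pow_add, pow_mul, pow_mul]
      refine ((hwi.mul_mul hE.pow_pow).symm.trans (associated_mul_unit_right _ _ ha)).trans ?_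
      rw [heq]
      exact (associated_mul_unit_left _ _ hb).trans hE.pow_pow
    exact le_antisymm ((pow_dvd_pow_iff hϖ.ne_zero hϖ.not_isUnit).mp h1.dvd)
      ((pow_dvd_pow_iff hϖ.ne_zero hϖ.not_isUnit).mp h1.symm.dvd)
  have hP : Irreducible P := by
    obtain ⟨k, j, r, s, hr, hs, heq⟩ := hfrac ϖ hϖ.ne_zero
    have h1 := hexp ϖ 1 j k _ _ hs hr (by rw [pow_one]) heq
    have hE1 : E ∣ 1 := by
      have h2 : E ∣ 1 + E * j := h1 ▸ dvd_mul_right E k
      exact (Nat.dvd_add_left (dvd_mul_right E j)).mp h2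
    rw [Nat.dvd_one.mp hE1, pow_one] at hE
    exact hE.irreducible_iff.mpr hϖ
  have hρsurj : Function.Surjective ρ := by
    intro y
    obtain ⟨w, rfl⟩ := residue_surjective y
    by_cases hwu : IsUnit w
    · obtain ⟨k, j, r, s, hr, hs, heq⟩ := hfrac w hwu.ne_zero
      have h1 := hexp w 0 j k _ _ hs hr (by rw [pow_zero]; exact associated_one_iff_isUnit.mpr hwu) heq
      rw [zero_add] at h1
      have hjk := Nat.eq_of_mul_eq_mul_left hE0 h1
      subst hjk
      have h2 : w * σ s = σ r := mul_left_cancel₀ (pow_ne_zero j hP0) (by rw [← heq]; ring)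
      obtain ⟨t, i, hi, ht⟩ := hkmax.exists_inv (x := π' s) (fun h => by
        have h' : ρ (π' s) = 0 := h
        rw [hρπ, residue_eq_zero_iff] at h'
        exact h' hs)
      refine ⟨t * π' r, ?_⟩
      have h3 := congrArg ρ ht
      rw [map_add, map_mul, map_one, show ρ i = 0 from hi, add_zero, hρπ] at h3
      rw [map_mul, hρπ, ← h2, map_mul]
      linear_combination (residue W w) * h3
    · exact ⟨0, by rw [map_zero, eq_comm, residue_eq_zero_iff]; exact hwu⟩
  refine ⟨?_, ?_⟩
  · show (maximalIdeal V₁).map i₁ = maximalIdeal W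
    rw [(IsDiscreteValuationRing.irreducible_iff_uniformizer π₁).mp hπ₁, Ideal.map_span,
      Set.image_singleton, (IsDiscreteValuationRing.irreducible_iff_uniformizer P).mp hP]
  · rw [← Groth.Agent.Sep12.formallySmooth_iff_isGeometricallyReduced]
    have hsm : Algebra.FormallySmooth (ResidueField A) (ResidueField B) :=
      Groth.Agent.Sep12.formallySmooth_iff_isGeometricallyReduced.mpr inferInstance
    have : Algebra.FormallySmooth (ResidueField V₁) T₀ := inferInstance
    have := Algebra.FormallySmooth.of_equiv (R := ResidueField V₁) (eT.restrictScalars (ResidueField V₁))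
    have := Algebra.FormallySmooth.of_pi (R := ResidueField V₁)
      (fun I : MaximalSpectrum T₀ => T₀ ⧸ I.asIdeal) m
    exact Algebra.FormallySmooth.of_equiv (R := ResidueField V₁) (A := T₀ ⧸ m.asIdeal)
      (Ideal.quotientKerAlgEquivOfSurjective (f := ρ) hρsurj)

end

end Ram24
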