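import Mathlib
import Groth.Prelude.Def_EtRam

/-!
# Valuation subrings dominating a discrete valuation ring with the same fraction field
-/

universe u

open IsLocalRing

namespace Ram24

variable {D : Type*} [CommRing D] [IsDomain D] {N : Type u} [Field N] (ψ : D →+* N)

/-- A valuation subring dominating a valuation ring with the same fraction field is equal to it. -/
theorem mem_iff_mem_range [IsLocalRing D] [ValuationRing D]
    (hfrac : ∀ y : N, ∃ a b : D, ψ b ≠ 0 ∧ y * ψ b = ψ a)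
    (W : ValuationSubring N) (hle : ∀ d, ψ d ∈ W)
    (hlt : ∀ d ∈ maximalIdeal D, W.valuation (ψ d) < 1) (y : N) :
    y ∈ W ↔ y ∈ ψ.range := by
  refine ⟨fun hy => ?_, fun ⟨d, hd⟩ => hd ▸ hle d⟩
  obtain ⟨a, b, hb, hab⟩ := hfrac y
  rcases ValuationRing.dvd_total b a with ⟨c, hc⟩ | ⟨c, hc⟩
  · refine ⟨c, mul_right_cancel₀ hb ?_⟩
    rw [hab, hc, map_mul, mul_comm]
  · by_cases hcu : IsUnit c
    · refine ⟨(hcu.unit⁻¹ : Dˣ), mul_right_cancel₀ hb ?_⟩
      rw [hab, ← map_mul, hc, ← mul_assoc, mul_comm _ a, mul_assoc, IsUnit.val_inv_mul, mul_one]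
    · exfalso
      have ha : ψ a ≠ 0 := fun h0 => hb (by rw [hc, map_mul, h0, zero_mul])
      have h1 : y * ψ c = 1 := by
        rw [hc, map_mul, mul_left_comm] at hab
        exact mul_left_cancel₀ ha (hab.trans (mul_one _).symm)
      have h2 : W.valuation y * W.valuation (ψ c) = 1 := by rw [← map_mul, h1, map_one]
      have h3 : W.valuation y * W.valuation (ψ c) < 1 :=
        (mul_le_mul_left ((W.valuation_le_one_iff y).mpr hy) _).trans_lt
          (by rw [one_mul]; exact hlt c ((mem_maximalIdeal c).mpr hcu))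
      exact (lt_irrefl _ (h2 ▸ h3))

/-- If one nonzero element has positive value, so does the whole maximal ideal. -/
theorem valuation_lt_one_of_mem_maximalIdeal [IsDiscreteValuationRing D]
    (W : ValuationSubring N) (hle : ∀ d, ψ d ∈ W)
    (hne : ∃ d, d ≠ 0 ∧ W.valuation (ψ d) < 1) (d : D) (hd : d ∈ maximalIdeal D) :
    W.valuation (ψ d) < 1 := by
  let ρ : D →+* W := ψ.codRestrict W hle
  let q : Ideal D := (maximalIdeal W).comap ρ
  have hq : q.IsPrime := Ideal.comap_isPrime ρ _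
  have hmem : ∀ e, e ∈ q ↔ W.valuation (ψ e) < 1 := fun e =>
    (ValuationSubring.valuation_lt_one_iff W (ρ e))
  have hq0 : q ≠ ⊥ := by
    obtain ⟨e, he, hlt⟩ := hne
    exact fun h => he ((Submodule.mem_bot D).mp (h ▸ (hmem e).mpr hlt))
  have : q = maximalIdeal D := IsLocalRing.eq_maximalIdeal (hq.isMaximal hq0)
  exact (hmem d).mp (this ▸ hd)

/-- Integral elements over a ring inside a valuation subring are inside. -/
theorem mem_of_isIntegral {B : Type*} [CommRing B] [Algebra B D] [Algebra.IsIntegral B D]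
    (W : ValuationSubring N) (hB : ∀ b : B, ψ (algebraMap B D b) ∈ W) (d : D) : ψ d ∈ W := by
  let _ : Algebra B W := ((ψ.comp (algebraMap B D)).codRestrict W hB).toAlgebra
  let _ : Algebra B N := (ψ.comp (algebraMap B D)).toAlgebra
  have : IsScalarTower B W N := .of_algebraMap_eq fun _ => rfl
  let ψ' : D →ₐ[B] N := { ψ with commutes' := fun _ => rfl }
  have h1 : IsIntegral W (ψ d) := ((Algebra.IsIntegral.isIntegral (R := B) d).map ψ').tower_top
  obtain ⟨w, hw⟩ := IsIntegrallyClosed.algebraMap_eq_of_integral h1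
  exact hw ▸ w.2

/-- Elements that are fractions of elements of `D` form everything as soon as they generate. -/
theorem exists_frac_of_closure (hψ : Function.Injective ψ) (s : Set N)
    (hs : ∀ y ∈ s, ∃ a b : D, ψ b ≠ 0 ∧ y * ψ b = ψ a) (hgen : Subfield.closure s = ⊤) (y : N) :
    ∃ a b : D, ψ b ≠ 0 ∧ y * ψ b = ψ a := by
  let Φ : FractionRing D →+* N := IsFractionRing.lift hψ
  have hy : y ∈ Φ.fieldRange := by
    have : Subfield.closure s ≤ Φ.fieldRange := Subfield.closure_le.mpr fun x hx => by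
      obtain ⟨a, b, hb, hab⟩ := hs x hx
      refine ⟨algebraMap D (FractionRing D) a / algebraMap D (FractionRing D) b, ?_⟩
      rw [map_div₀, IsFractionRing.lift_algebraMap, IsFractionRing.lift_algebraMap,
        div_eq_iff hb, hab]
    exact this (hgen ▸ Subfield.mem_top y)
  obtain ⟨x, rfl⟩ := hy
  obtain ⟨a, b, hb, rfl⟩ := IsFractionRing.div_surjective (A := D) x
  have hb' : ψ b ≠ 0 := (map_ne_zero_iff ψ hψ).mpr (nonZeroDivisors.ne_zero hb)
  exact ⟨a, b, hb', by
    rw [map_div₀, IsFractionRing.lift_algebraMap, IsFractionRing.lift_algebraMap,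
      div_mul_cancel₀ _ hb']⟩

/-- The image of a valuation ring with fraction field `N` as a valuation subring. -/
def rangeVS [ValuationRing D] (hfrac : ∀ y : N, ∃ a b : D, ψ b ≠ 0 ∧ y * ψ b = ψ a) :
    ValuationSubring N :=
  { ψ.range with
    mem_or_inv_mem' := fun y => by
      obtain ⟨a, b, hb, hab⟩ := hfrac y
      rcases ValuationRing.dvd_total b a with ⟨c, hc⟩ | ⟨c, hc⟩
      · exact Or.inl ⟨c, mul_right_cancel₀ hb (by rw [hab, hc, map_mul, mul_comm])⟩
      · by_cases ha : ψ a = 0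
        · refine Or.inl ⟨0, ?_⟩
          rw [map_zero]
          exact ((mul_eq_zero.mp (hab.trans ha)).resolve_right hb).symm
        · refine Or.inr ⟨c, ?_⟩
          rw [hc, map_mul, mul_left_comm] at hab
          exact (inv_eq_of_mul_eq_one_right (mul_left_cancel₀ ha (hab.trans (mul_one _).symm))).symm }

theorem mem_rangeVS [ValuationRing D] (hfrac : ∀ y : N, ∃ a b : D, ψ b ≠ 0 ∧ y * ψ b = ψ a) (y : N) :
    y ∈ rangeVS ψ hfrac ↔ y ∈ ψ.range := Iff.rfl

/-- The basic criterion for the local extension `W ∩ K₁ → W` to be weakly unramified. -/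
theorem isWeaklyUnramified_inclOfComap [IsDiscreteValuationRing D] {K₁ : Type u} [Field K₁]
    (f : K₁ →+* N) (W : ValuationSubring N)
    (hfrac : ∀ y : N, ∃ a b : D, ψ b ≠ 0 ∧ y * ψ b = ψ a) (hle : ∀ d, ψ d ∈ W)
    (hne : ∃ d, d ≠ 0 ∧ W.valuation (ψ d) < 1) (ϖ : D) (hϖ : maximalIdeal D = Ideal.span {ϖ})
    (z : K₁) (hz : f z = ψ ϖ) :
    letI : Algebra (W.comap f) W := (EtRam.inclOfComap W f).toAlgebra
    EtRam.IsWeaklyUnramified (W.comap f) W := by
  let _ : Algebra (W.comap f) W := (EtRam.inclOfComap W f).toAlgebra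
  have hlt := valuation_lt_one_of_mem_maximalIdeal ψ W hle hne
  have hϖm : ϖ ∈ maximalIdeal D := hϖ ▸ Ideal.mem_span_singleton_self ϖ
  refine le_antisymm (Ideal.map_le_iff_le_comap.mpr fun x hx => map_nonunit
    (EtRam.inclOfComap W f) x hx) fun y hy => ?_
  obtain ⟨d, hd⟩ := (mem_iff_mem_range ψ hfrac W hle hlt y).mp y.2
  have hdm : d ∈ maximalIdeal D := by
    by_contra hdm
    obtain ⟨v, hv⟩ := ((notMem_maximalIdeal).mp hdm)
    refine (mem_maximalIdeal _).mp hy ⟨⟨y, ⟨ψ (v⁻¹ : Dˣ), hle _⟩, ?_, ?_⟩, rfl⟩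
    · exact Subtype.ext (show (y : N) * ψ (v⁻¹ : Dˣ) = 1 by rw [← hd, ← map_mul, ← hv, v.mul_inv, map_one])
    · exact Subtype.ext (show ψ (v⁻¹ : Dˣ) * (y : N) = 1 by rw [← hd, ← map_mul, ← hv, v.inv_mul, map_one])
  rw [hϖ, Ideal.mem_span_singleton] at hdm
  obtain ⟨e, rfl⟩ := hdm
  let x : W.comap f := ⟨z, show f z ∈ W from hz ▸ hle ϖ⟩
  have hx : x ∈ maximalIdeal (W.comap f) := by
    rw [mem_maximalIdeal]
    intro hu
    have h1 : W.valuation (f z) = 1 :=
      ValuationSubring.valuation_unit W (hu.map (EtRam.inclOfComap W f)).unit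
    rw [hz] at h1
    exact (hlt ϖ hϖm).ne h1
  have hy' : y = EtRam.inclOfComap W f x * ⟨ψ e, hle e⟩ :=
    Subtype.ext (show (y : N) = f z * ψ e by rw [hz, ← map_mul, hd])
  rw [hy']
  exact Ideal.mul_mem_right _ _ (Ideal.mem_map_of_mem _ hx)

end Ram24
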