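import Groth.Agent.Ram24.Incl

/-!
# Finiteness of an extension of exponent one of a local ring of the normalization
-/

universe u

open IsLocalRing Polynomial

namespace Ram24

variable {B L M₁ : Type u} [CommRing B] [IsDomain B] [IsDiscreteValuationRing B] [Field L] [Field M₁]
  [Algebra B L] [IsFractionRing B L] [Algebra L M₁] [FiniteDimensional L M₁] [Algebra B M₁]
  [IsScalarTower B L M₁]

/-- Elements of a dominating valuation ring are fractions of integral elements. -/
theorem exists_integral_frac [Module.Finite B (integralClosure B M₁)] (W₁ : ValuationSubring M₁)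
    (hW : EtRam.Dominates B ((algebraMap L M₁).comp (algebraMap B L)) W₁) (x : M₁) (hx : x ∈ W₁) :
    ∃ e s : M₁, IsIntegral B e ∧ IsIntegral B s ∧ W₁.valuation s = 1 ∧ x * s = e := by
  set E₁ := integralClosure B M₁
  have : IsFractionRing E₁ M₁ := integralClosure.isFractionRing_of_finite_extension L M₁
  have : IsNoetherianRing E₁ := IsNoetherianRing.of_finite B E₁
  have : Ring.DimensionLEOne E₁ := Ring.DimensionLEOne.isIntegralClosure B E₁
  have : IsIntegrallyClosed E₁ := integralClosure.isIntegrallyClosedOfFiniteExtension L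
  have : IsDedekindDomain E₁ := { }
  have hle : ∀ d : E₁, E₁.val d ∈ W₁ := fun d => integralClosure_mem W₁ hW d.2
  let ρ : E₁ →+* W₁ := E₁.val.toRingHom.codRestrict W₁ hle
  let q : Ideal E₁ := (maximalIdeal W₁).comap ρ
  have hq : q.IsPrime := Ideal.comap_isPrime ρ _
  obtain ⟨ϖ, hϖ⟩ := IsDiscreteValuationRing.exists_irreducible B
  have hinj : Function.Injective (algebraMap B M₁) := by
    rw [IsScalarTower.algebraMap_eq B L M₁]
    exact (algebraMap L M₁).injective.comp (IsFractionRing.injective B L)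
  have hq0 : q ≠ ⊥ := fun h => by
    have hmem : algebraMap B E₁ ϖ ∈ q := by
      refine Ideal.mem_comap.mpr ((ValuationSubring.valuation_lt_one_iff W₁ _).mpr ?_)
      have h1 := hW.2 ϖ ((mem_maximalIdeal _).mpr hϖ.not_isUnit)
      rwa [RingHom.comp_apply, ← IsScalarTower.algebraMap_apply] at h1
    rw [h, Submodule.mem_bot] at hmem
    exact hϖ.ne_zero (hinj ((congrArg Subtype.val hmem).trans (map_zero _).symm))
  let D := Localization.AtPrime q
  have : IsDiscreteValuationRing D :=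
    IsLocalization.AtPrime.isDiscreteValuationRing_of_dedekind_domain E₁ hq0 D
  have hunit : ∀ y : q.primeCompl, W₁.valuation (E₁.val y) = 1 := fun y => by
    refine le_antisymm ((W₁.valuation_le_one_iff _).mpr (hle y)) (not_lt.mp fun hlt => y.2 ?_)
    exact Ideal.mem_comap.mpr ((ValuationSubring.valuation_lt_one_iff W₁ (ρ y)).mpr hlt)
  have hv : ∀ y : q.primeCompl, IsUnit (E₁.val.toRingHom y) := fun y =>
    isUnit_iff_ne_zero.mpr (W₁.valuation.ne_zero_iff.mp ((hunit y).symm ▸ one_ne_zero))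
  let ψ : D →+* M₁ := IsLocalization.lift hv
  have hψ : ∀ e : E₁, ψ (algebraMap E₁ D e) = e := fun e => IsLocalization.lift_eq hv e
  have hfrac : ∀ y : M₁, ∃ a b : D, ψ b ≠ 0 ∧ y * ψ b = ψ a := by
    intro y
    obtain ⟨a, b, hb, rfl⟩ := IsFractionRing.div_surjective (A := E₁) y
    have hb0 : (b : M₁) ≠ 0 := fun h => nonZeroDivisors.ne_zero hb (Subtype.ext h)
    refine ⟨algebraMap E₁ D a, algebraMap E₁ D b, by rwa [hψ], ?_⟩
    rw [hψ, hψ]
    exact div_mul_cancel₀ _ hb0
  have hfracD : ∀ d : D, ∃ e : E₁, ∃ y : q.primeCompl, ψ d * (y : E₁) = e := fun d => by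
    obtain ⟨⟨e, y⟩, hey⟩ := IsLocalization.surj q.primeCompl d
    exact ⟨e, y, by rw [← hψ y, ← map_mul, hey, hψ]⟩
  have hψle : ∀ d, ψ d ∈ W₁ := fun d => by
    obtain ⟨e, y, hey⟩ := hfracD d
    have h1 := congrArg W₁.valuation hey
    rw [map_mul, show W₁.valuation ((y : E₁) : M₁) = 1 from hunit y, mul_one] at h1
    exact (W₁.valuation_le_one_iff _).mp (h1 ▸ (W₁.valuation_le_one_iff _).mpr (hle e))
  have hlt : ∀ d ∈ maximalIdeal D, W₁.valuation (ψ d) < 1 := by
    intro d hd
    obtain ⟨⟨e, y⟩, hey⟩ := IsLocalization.surj q.primeCompl d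
    have he : e ∈ q := by
      rw [← IsLocalization.AtPrime.to_map_mem_maximal_iff D q, ← hey]
      exact Ideal.mul_mem_right _ _ hd
    have h1 := congrArg (fun v => W₁.valuation (ψ v)) hey
    simp only [map_mul, hψ] at h1
    rw [show W₁.valuation ((y : E₁) : M₁) = 1 from hunit y, mul_one] at h1
    rw [h1]
    exact (ValuationSubring.valuation_lt_one_iff W₁ (ρ e)).mp he
  obtain ⟨d, hd⟩ := (mem_iff_mem_range ψ hfrac W₁ hψle hlt x).mp hx
  obtain ⟨e, y, hey⟩ := hfracD d
  exact ⟨e, (y : E₁), e.2, (y : E₁).2, hunit y, hd ▸ hey⟩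

/-- The integral extension of exponent one is finite over a Nagata base. -/
theorem finite_inclOf {M₂ : Type u} [Field M₂] [Algebra M₁ M₂] [Algebra B M₂] [IsScalarTower B M₁ M₂]
    [Module.Finite B (integralClosure B M₁)] [Module.Finite B (integralClosure B M₂)]
    (W₁ : ValuationSubring M₁) (W₂ : ValuationSubring M₂)
    (hW : EtRam.Dominates B ((algebraMap L M₁).comp (algebraMap B L)) W₁)
    (h₂ : ∀ x : M₁, algebraMap M₁ M₂ x ∈ W₂ ↔ x ∈ W₁) (p : ℕ) (hp : p ≠ 0)
    (hpow : ∀ x : M₂, x ^ p ∈ Set.range (algebraMap M₁ M₂)) : (inclOf W₁ W₂ h₂).Finite := by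
  classical
  have hBW : ∀ b, algebraMap B M₂ b ∈ W₂ := fun b => by
    rw [IsScalarTower.algebraMap_apply B M₁ M₂, h₂, IsScalarTower.algebraMap_apply B L M₁]
    exact hW.1 b
  have hle : ∀ d : integralClosure B M₂, (d : M₂) ∈ W₂ := fun d =>
    mem_of_isIntegral (B := B) (integralClosure B M₂).val.toRingHom W₂ hBW d
  obtain ⟨S, hS⟩ := (Module.Finite.fg_top : (⊤ : Submodule B (integralClosure B M₂)).FG)
  let _ : Algebra W₁ W₂ := (inclOf W₁ W₂ h₂).toAlgebra
  let ι : integralClosure B M₂ → W₂ := fun d => ⟨d, hle d⟩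
  refine ⟨S.image ι, eq_top_iff.mpr fun w _ => ?_⟩
  have hall : ∀ d, ι d ∈ Submodule.span W₁ (S.image ι : Set W₂) := by
    intro d
    have hd : d ∈ Submodule.span B (S : Set (integralClosure B M₂)) := hS ▸ Submodule.mem_top
    induction hd using Submodule.span_induction with
    | mem x hx => exact Submodule.subset_span (Finset.mem_coe.mpr (Finset.mem_image_of_mem ι hx))
    | zero => exact (show ι 0 = 0 from Subtype.ext rfl) ▸ zero_mem _
    | add x y _ _ hx hy => exact (show ι (x + y) = ι x + ι y from Subtype.ext rfl) ▸ add_mem hx hy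
    | smul b x _ hx =>
      have hb : algebraMap B M₁ b ∈ W₁ := by
        rw [IsScalarTower.algebraMap_apply B L M₁]; exact hW.1 b
      have heq : ι (b • x) = (⟨_, hb⟩ : W₁) • ι x := Subtype.ext (by
        show ((b • x : integralClosure B M₂) : M₂) = algebraMap M₁ M₂ (algebraMap B M₁ b) * (x : M₂)
        rw [← IsScalarTower.algebraMap_apply, ← Algebra.smul_def]; rfl)
      exact heq ▸ Submodule.smul_mem _ _ hx
  obtain ⟨y, hy⟩ := hpow (w : M₂)
  have hyW : y ∈ W₁ := (h₂ y).mp (hy ▸ pow_mem w.2 p)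
  obtain ⟨e, s, he, hs, hs1, hys⟩ := exists_integral_frac W₁ hW y hyW
  have hs0 : s ≠ 0 := W₁.valuation.ne_zero_iff.mp (hs1 ▸ one_ne_zero)
  have hint : IsIntegral B ((w : M₂) * algebraMap M₁ M₂ s) := by
    refine IsIntegral.of_pow (Nat.pos_of_ne_zero hp) ?_
    obtain ⟨k, rfl⟩ : ∃ k, p = k + 1 := ⟨p - 1, by omega⟩
    have : ((w : M₂) * algebraMap M₁ M₂ s) ^ (k + 1) = algebraMap M₁ M₂ (e * s ^ k) := by
      rw [mul_pow, ← hy, ← map_pow, ← map_mul, ← hys]
      ring_nf
    rw [this]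
    exact (he.mul (hs.pow k)).algebraMap
  have hsinv : s⁻¹ ∈ W₁ := (W₁.valuation_le_one_iff _).mp (by rw [map_inv₀, hs1, inv_one])
  have hw : w = (⟨_, hsinv⟩ : W₁) • ι ⟨_, hint⟩ := Subtype.ext (by
    show (w : M₂) = algebraMap M₁ M₂ s⁻¹ * ((w : M₂) * algebraMap M₁ M₂ s)
    rw [map_inv₀]
    field_simp [(map_ne_zero_iff _ (algebraMap M₁ M₂).injective).mpr hs0])
  rw [hw]
  exact Submodule.smul_mem _ _ (hall _)

end Ram24
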