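import Groth.Agent.Ram24.PureStep
import Groth.Agent.Sep12.Basic

/-!
# Approximating purely inseparable extensions of degree `p` by separable ones
-/

universe u

open IsLocalRing Polynomial TensorProduct

namespace Ram24

/-- Geometric reducedness transports along compatible isomorphisms. -/
theorem isGeometricallyReduced_of_equiv {k A k' A' : Type u} [Field k] [Field A] [Field k'] [Field A']
    [Algebra k A] [Algebra k' A'] (e₀ : k ≃+* k') (e : A ≃+* A')
    (h : ∀ x, e (algebraMap k A x) = algebraMap k' A' (e₀ x))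
    (hgr : Algebra.IsGeometricallyReduced k A) : Algebra.IsGeometricallyReduced k' A' := by
  rw [← Groth.Agent.Sep12.formallySmooth_iff_isGeometricallyReduced] at hgr ⊢
  let _ : Algebra k' k := e₀.symm.toRingHom.toAlgebra
  let _ : Algebra k' A := ((algebraMap k A).comp e₀.symm.toRingHom).toAlgebra
  have : IsScalarTower k' k A := .of_algebraMap_eq fun _ => rfl
  have : Algebra.FormallySmooth k' k :=
    .of_equiv (R := k') (A := k')
      { e₀.symm with commutes' := fun r => rfl }
  have : Algebra.FormallySmooth k' A := .comp k' k A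
  exact .of_equiv (R := k') (A := A)
    { e with
      commutes' := fun r => by
        show e (algebraMap k A (e₀.symm r)) = algebraMap k' A' r
        rw [h, e₀.apply_symm_apply] }

/-- The `p`-th power of a polynomial expression. -/
theorem aeval_pow_char {M₁ N : Type*} [Field M₁] [Field N] [Algebra M₁ N] (p : ℕ) [Fact p.Prime]
    [CharP M₁ p] [CharP N p] (P : M₁[X]) (z : N) :
    aeval z P ^ p = (P.map (frobenius M₁ p)).eval₂ (algebraMap M₁ N) (z ^ p) := by
  rw [eval₂_map, aeval_def, show (algebraMap M₁ N).comp (frobenius M₁ p) =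
    (frobenius N p).comp (algebraMap M₁ N) from RingHom.ext fun x => by simp [frobenius_def]]
  rw [← frobenius_def, hom_eval₂, frobenius_def]

section Valuation

variable {W₁ M₁ N : Type u} [CommRing W₁] [IsDomain W₁] [IsDiscreteValuationRing W₁] [Field M₁]
  [Algebra W₁ M₁] [IsFractionRing W₁ M₁] [Field N]

/-- Membership in the valuation subring of `M₁` given by `W₁`. -/
theorem valuation_lt_one_iff_of_mem_iff (ι : M₁ →+* N) (W : ValuationSubring N)
    (hWι : ∀ x : M₁, ι x ∈ W ↔ x ∈ Set.range (algebraMap W₁ M₁)) (x : W₁) :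
    W.valuation (ι (algebraMap W₁ M₁ x)) < 1 ↔ x ∈ maximalIdeal W₁ := by
  have hle : ∀ y : W₁, W.valuation (ι (algebraMap W₁ M₁ y)) ≤ 1 := fun y =>
    (W.valuation_le_one_iff _).mpr ((hWι _).mpr ⟨y, rfl⟩)
  constructor
  · intro hlt
    rw [mem_maximalIdeal]
    rintro ⟨v, rfl⟩
    have h1 : W.valuation (ι (algebraMap W₁ M₁ v)) * W.valuation (ι (algebraMap W₁ M₁ (v⁻¹ : W₁ˣ))) = 1 := by
      rw [← map_mul, ← map_mul, ← map_mul, v.mul_inv, map_one, map_one, map_one]
    refine absurd h1 (ne_of_lt ?_)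
    calc _ ≤ W.valuation (ι (algebraMap W₁ M₁ v)) * 1 := by gcongr; exact hle _
      _ < 1 := by rwa [mul_one]
  · intro hx
    refine lt_of_le_of_ne (hle x) fun h1 => ?_
    have hx0 : ι (algebraMap W₁ M₁ x) ≠ 0 := W.valuation.ne_zero_iff.mp (h1 ▸ one_ne_zero)
    have hmem : (ι (algebraMap W₁ M₁ x))⁻¹ ∈ W := by
      rw [← W.valuation_le_one_iff, map_inv₀, h1, inv_one]
    rw [← map_inv₀] at hmem
    obtain ⟨y, hy⟩ := (hWι _).mp hmem
    have hne : algebraMap W₁ M₁ x ≠ 0 := fun h => hx0 (by rw [h, map_zero])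
    have : algebraMap W₁ M₁ (x * y) = 1 := by rw [map_mul, hy, mul_inv_cancel₀ hne]
    exact (mem_maximalIdeal _).mp hx
      (IsUnit.of_mul_eq_one y (IsFractionRing.injective W₁ M₁ (this.trans (map_one _).symm)))

/-- High powers of a nonunit absorb any element of the fraction field. -/
theorem exists_pow_mul_mem (t : W₁) (ht : t ∈ maximalIdeal W₁) (x : M₁) :
    ∃ K, ∀ j ≥ K, algebraMap W₁ M₁ t ^ j * x ∈ algebraMap W₁ M₁ '' (maximalIdeal W₁ : Set W₁) := by
  obtain ⟨a, b, hb, rfl⟩ := IsFractionRing.div_surjective (A := W₁) x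
  have hb0 := nonZeroDivisors.ne_zero hb
  obtain ⟨ϖ, hϖ⟩ := IsDiscreteValuationRing.exists_irreducible W₁
  obtain ⟨m, hm⟩ := IsDiscreteValuationRing.associated_pow_irreducible hb0 hϖ
  have hϖt : ϖ ∣ t := by
    rw [(IsDiscreteValuationRing.irreducible_iff_uniformizer ϖ).mp hϖ, Ideal.mem_span_singleton] at ht
    exact ht
  refine ⟨m + 1, fun j hj => ?_⟩
  obtain ⟨c, hc⟩ : b ∣ t ^ m := (hm.dvd).trans (pow_dvd_pow_of_dvd hϖt m)
  refine ⟨t ^ (j - m) * c * a, Ideal.mul_mem_right _ _ (Ideal.mul_mem_right _ _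
    (Ideal.pow_mem_of_mem _ ht _ (by omega))), ?_⟩
  have hb' : algebraMap W₁ M₁ b ≠ 0 := (map_ne_zero_iff _ (IsFractionRing.injective W₁ M₁)).mpr hb0
  obtain ⟨i, rfl⟩ : ∃ i, j = i + m := ⟨j - m, by omega⟩
  have hc' := congrArg (algebraMap W₁ M₁) hc
  rw [map_pow, map_mul] at hc'
  rw [Nat.add_sub_cancel, map_mul, map_mul, map_pow, pow_add, hc', mul_div_assoc', eq_div_iff hb']
  ring

/-- Small perturbations of the argument do not change the leading value of a polynomial. -/
theorem exists_approx (t a : W₁) (ht : t ∈ maximalIdeal W₁) (ht0 : t ≠ 0) (R : M₁[X])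
    (hR : R.eval (algebraMap W₁ M₁ a) ≠ 0) :
    ∃ n₀, ∀ n ≥ n₀, ∀ (N : Type u) [Field N] (ι : M₁ →+* N) (W : ValuationSubring N),
      (∀ x : M₁, ι x ∈ W ↔ x ∈ Set.range (algebraMap W₁ M₁)) → ∀ z ∈ W,
        ∃ ε : N, W.valuation ε < 1 ∧
          R.eval₂ ι (ι (algebraMap W₁ M₁ a) - ι (algebraMap W₁ M₁ t) ^ n * z) =
            ι (R.eval (algebraMap W₁ M₁ a)) * (1 + ε) := by
  classical
  choose K hK using fun i => exists_pow_mul_mem t ht (R.coeff i)
  obtain ⟨K', hK'⟩ := exists_pow_mul_mem t ht (R.eval (algebraMap W₁ M₁ a))⁻¹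
  set T := algebraMap W₁ M₁ t
  set K₀ := R.support.sup K
  have hT0 : T ≠ 0 := (map_ne_zero_iff _ (IsFractionRing.injective W₁ M₁)).mpr ht0
  refine ⟨K₀ + K', fun n hn N _ ι W hWι z hz => ?_⟩
  obtain ⟨j, rfl⟩ : ∃ j, n = K₀ + j := ⟨n - K₀, by omega⟩
  have hTW : ι T ∈ W := (hWι _).mpr ⟨t, rfl⟩
  let A : W := ⟨ι (algebraMap W₁ M₁ a), (hWι _).mpr ⟨a, rfl⟩⟩
  let U : W := ⟨ι T ^ (K₀ + j) * z, mul_mem (pow_mem hTW _) hz⟩
  -- the rescaled polynomial has integral coefficients
  have hcoef : ∀ i, ι (T ^ K₀ * R.coeff i) ∈ W := by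
    intro i
    by_cases hi : i ∈ R.support
    · obtain ⟨y, -, hy⟩ := hK i K₀ (Finset.le_sup hi)
      exact (hWι _).mpr ⟨y, hy⟩
    · rw [notMem_support_iff.mp hi, mul_zero, map_zero]; exact zero_mem _
  let S : W[X] := ∑ i ∈ R.support, monomial i ⟨ι (T ^ K₀ * R.coeff i), hcoef i⟩
  have hS : ∀ w : W, ((S.eval w : W) : N) = ι T ^ K₀ * R.eval₂ ι (w : N) := by
    intro w
    rw [eval_finsetSum, AddSubmonoidClass.coe_finsetSum, eval₂_eq_sum, Polynomial.sum, Finset.mul_sum]
    refine Finset.sum_congr rfl fun i _ => ?_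
    rw [eval_monomial]
    show ι (T ^ K₀ * R.coeff i) * (w : N) ^ i = _
    rw [map_mul, map_pow, mul_assoc]
  obtain ⟨q, hq⟩ := sub_dvd_eval_sub (A - U) A S
  have hRa : ι (R.eval (algebraMap W₁ M₁ a)) = R.eval₂ ι (ι (algebraMap W₁ M₁ a)) :=
    (eval₂_at_apply ι _).symm
  have hq' : ι T ^ K₀ * (R.eval₂ ι (ι (algebraMap W₁ M₁ a) - ι T ^ (K₀ + j) * z) -
      ι (R.eval (algebraMap W₁ M₁ a))) = - (ι T ^ (K₀ + j) * z) * (q : N) := by
    have h1 := congrArg Subtype.val hq
    simp only [AddSubgroupClass.coe_sub, MulMemClass.coe_mul, hS] at h1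
    rw [hRa, mul_sub]
    exact h1.trans (by ring)
  obtain ⟨y, hy, hy'⟩ := hK' j (by omega)
  refine ⟨ι (T ^ j * (R.eval (algebraMap W₁ M₁ a))⁻¹) * (-(z * q)), ?_, ?_⟩
  · rw [map_mul, ← hy']
    refine lt_of_le_of_lt ?_ ((valuation_lt_one_iff_of_mem_iff ι W hWι y).mpr hy)
    refine mul_le_of_le_one_right' ?_
    exact (W.valuation_le_one_iff _).mpr (neg_mem (mul_mem hz q.2))
  · refine mul_left_cancel₀ (pow_ne_zero K₀ ((map_ne_zero_iff _ ι.injective).mpr hT0)) ?_
    rw [mul_add, mul_one, ← mul_assoc (ι (R.eval (algebraMap W₁ M₁ a))), ← map_mul,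
      mul_left_comm _ (T ^ j), mul_inv_cancel₀ hR, mul_one, map_pow]
    linear_combination hq'

end Valuation

section NoDefect

variable {B C L M : Type u} [CommRing B] [IsDomain B] [IsDiscreteValuationRing B]
  [CommRing C] [IsDomain C] [IsDiscreteValuationRing C] [Algebra B C] [IsLocalHom (algebraMap B C)]
  [Field L] [Field M] [Algebra B L] [IsFractionRing B L] [Algebra C M] [IsFractionRing C M]
  [Algebra L M] [Algebra B M] [IsScalarTower B L M] [IsScalarTower B C M]
  (p : ℕ) [Fact p.Prime] [CharP L p] [IsPurelyInseparable L M] (hdeg : Module.finrank L M = p)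

include hdeg in
/-- Without defect, `e f` is at least `p`. -/
theorem le_ramificationIdx_mul_finrank (hinj : Function.Injective (algebraMap B C))
    (hnd : ¬ ∀ x : C, ∀ k : ℕ, ∃ b, x - algebraMap B C b ∈ (maximalIdeal B).map (algebraMap B C) ^ k) :
    p ≤ Ideal.ramificationIdx' (maximalIdeal B) (maximalIdeal C) *
        Module.finrank (ResidueField B) (ResidueField C) := by
  have hp : p.Prime := Fact.out
  have : FiniteDimensional L M := FiniteDimensional.of_finrank_pos (hdeg ▸ hp.pos)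
  obtain ⟨hfin, -⟩ := Dvr24.finite_and_mul_le (A := B) (B := C) (K := L) (L := M) hinj
  obtain ⟨c, hc'⟩ := IsDiscreteValuationRing.exists_irreducible C
  have hc := (IsDiscreteValuationRing.irreducible_iff_uniformizer c).mp hc'
  obtain ⟨ϖ, hϖ'⟩ := IsDiscreteValuationRing.exists_irreducible B
  have hϖ := (IsDiscreteValuationRing.irreducible_iff_uniformizer ϖ).mp hϖ'
  obtain ⟨e, he0, he, hram⟩ := Dvr24.exists_map_maximalIdeal_eq hinj hc'
  rcases dichotomy (M := M) (L := L) p hdeg hϖ hinj hc with h | ⟨h, -⟩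
  swap
  · rw [h]; exact Nat.le_mul_of_pos_right p Module.finrank_pos
  refine le_trans ?_ (Nat.le_mul_of_pos_left _ (hram.symm ▸ he0))
  by_cases hsurj : Function.Surjective (algebraMap (ResidueField B) (ResidueField C))
  · have hC : maximalIdeal C = Ideal.span {algebraMap B C ϖ} := by
      rw [← h, hϖ, Ideal.map_span, Set.image_singleton]
    refine absurd (fun x k => ?_) hnd
    induction k with
    | zero => exact ⟨0, by simp⟩
    | succ k ih =>
      obtain ⟨b, hb⟩ := ih
      simp only [h, hC, Ideal.span_singleton_pow, Ideal.mem_span_singleton] at hb ⊢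
      obtain ⟨y, hy⟩ := hb
      obtain ⟨r, hr⟩ := hsurj (residue C y)
      obtain ⟨b', rfl⟩ := residue_surjective r
      have hmem : y - algebraMap B C b' ∈ maximalIdeal C := by
        rw [← residue_eq_zero_iff, map_sub, ← hr, sub_eq_zero]; rfl
      rw [hC, Ideal.mem_span_singleton] at hmem
      obtain ⟨s, hs⟩ := hmem
      refine ⟨b + ϖ ^ k * b', s, ?_⟩
      rw [map_add, map_mul, map_pow, pow_succ]
      linear_combination hy + (algebraMap B C ϖ ^ k) * hs
  · obtain ⟨y, hy⟩ := not_forall.mp hsurj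
    obtain ⟨x, rfl⟩ := residue_surjective y
    obtain ⟨b, hb⟩ := (mem_range_iff_pow (B := B) p hdeg (algebraMap C M x)).mp ⟨x, rfl⟩
    have hb' : algebraMap B C b = x ^ p :=
      IsFractionRing.injective C M (by rw [← IsScalarTower.algebraMap_apply, hb, map_pow])
    have : CharP B p := RingHom.charP (algebraMap B L) (IsFractionRing.injective B L) p
    have : CharP (ResidueField B) p := (CharP.charP_iff_prime_eq_zero hp).mpr (by
      rw [← map_natCast (residue B), CharP.cast_eq_zero, map_zero])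
    have : CharP (ResidueField C) p :=
      charP_of_injective_algebraMap (algebraMap (ResidueField B) (ResidueField C)).injective p
    have hxp : residue C x ^ p = algebraMap (ResidueField B) (ResidueField C) (residue B b) := by
      rw [← map_pow, ← hb']; rfl
    have hroot : ∀ r : ResidueField B, r ^ p ≠ residue B b := fun r hr => hy ⟨r, by
      refine frobenius_inj (ResidueField C) p ?_
      rw [frobenius_def, frobenius_def, ← map_pow, hr, hxp]⟩
    have hmin : minpoly (ResidueField B) (residue C x) = X ^ p - Polynomial.C (residue B b) :=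
      (minpoly.eq_of_irreducible_of_monic (X_pow_sub_C_irreducible_of_prime hp hroot)
        (by rw [map_sub, map_pow, aeval_X, aeval_C, hxp, sub_self]) (monic_X_pow_sub_C _ hp.ne_zero)).symm
    have := minpoly.natDegree_le (A := ResidueField B) (residue C x)
    rwa [hmin, natDegree_X_pow_sub_C] at this

end NoDefect

end Ram24
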