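import Groth.Agent.Ram24.PthRoot

/-!
# The local form of approximating a purely inseparable step by a separable one
-/

universe u

open IsLocalRing Polynomial

namespace Ram24

theorem eq_of_associated_pow {R : Type*} [CommRing R] [IsDomain R] {π : R} (hπ : Irreducible π)
    {a b : ℕ} (h : Associated (π ^ a) (π ^ b)) : a = b :=
  le_antisymm ((pow_dvd_pow_iff hπ.ne_zero hπ.not_isUnit).mp h.dvd)
    ((pow_dvd_pow_iff hπ.ne_zero hπ.not_isUnit).mp h.symm.dvd)

theorem mem_of_pow_mem {N : Type*} [Field N] (W : ValuationSubring N) {x : N} {n : ℕ} (hn : n ≠ 0)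
    (hx : x ^ n ∈ W) : x ∈ W := by
  rw [← W.valuation_le_one_iff, map_pow] at hx
  exact (W.valuation_le_one_iff x).mp ((pow_le_one_iff hn).mp hx)

/-- A root of `X ^ p + t X - a` with integral `t`, `a` is integral. -/
theorem mem_of_trinomial {N : Type*} [Field N] (W : ValuationSubring N) {p : ℕ} (hp : 2 ≤ p)
    {z t a : N} (ht : t ∈ W) (ha : a ∈ W) (hz : z ^ p + t * z = a) : z ∈ W := by
  by_contra hzW
  have h1 : 1 < W.valuation z := not_le.mp fun h => hzW ((W.valuation_le_one_iff z).mp h)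
  have h2 : W.valuation (t * z) < W.valuation (z ^ p) := by
    rw [map_mul, map_pow]
    refine lt_of_le_of_lt (mul_le_of_le_one_left' ((W.valuation_le_one_iff t).mpr ht)) ?_
    exact lt_self_pow₀ h1 hp
  have h3 := W.valuation.map_add_eq_of_lt_left h2
  rw [hz, map_pow] at h3
  exact absurd ((W.valuation_le_one_iff a).mpr ha) (not_le.mpr (h3 ▸ one_lt_pow₀ h1 (by omega)))

section Pair

variable (p : ℕ) [Fact p.Prime] {M₁ M₂ : Type u} [Field M₁] [Field M₂] [Algebra M₁ M₂] [CharP M₁ p]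
  (W₁ : ValuationSubring M₁) [IsDiscreteValuationRing W₁] (W₂ : ValuationSubring M₂)
  (h₂ : ∀ x : M₁, algebraMap M₁ M₂ x ∈ W₂ ↔ x ∈ W₁) (c : M₂) (a t : W₁)

include h₂ in
/-- The value at `z` of a polynomial follows its value at `c`. -/
theorem value_pair (ht : t ∈ maximalIdeal W₁) (ht0 : t ≠ 0)
    (hc : c ^ p = algebraMap M₁ M₂ a) (Q : M₁[X]) (hQ : aeval c Q ∈ W₂) (hQ0 : aeval c Q ≠ 0) :
    ∃ n₀, ∀ n ≥ n₀, ∀ (N : Type u) [Field N] [Algebra M₁ N] (z : N),
      z ^ p + algebraMap M₁ N (t : M₁) ^ n * z = algebraMap M₁ N (a : M₁) →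
      ∀ (W : ValuationSubring N) (hW : ∀ x : M₁, algebraMap M₁ N x ∈ W ↔ x ∈ W₁),
        ∃ (hz : aeval z Q ∈ W) (β : W₁),
          inclOf W₁ W₂ h₂ β = ⟨_, hQ⟩ ^ p ∧
          residue W ⟨_, hz⟩ ^ p = resMap W₁ W hW (residue W₁ β) ∧
          Associated ((⟨_, hz⟩ : W) ^ p) (inclOf W₁ W hW β) := by
  have hp : p.Prime := Fact.out
  have : CharP M₂ p := charP_of_injective_algebraMap (algebraMap M₁ M₂).injective p
  set R := Q.map (frobenius M₁ p)
  have hR : algebraMap M₁ M₂ (R.eval (a : M₁)) = aeval c Q ^ p := by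
    rw [aeval_pow_char, hc, eval₂_at_apply]
  have hR0 : R.eval (algebraMap W₁ M₁ a) ≠ 0 := fun h => by
    rw [show R.eval (a : M₁) = 0 from h, map_zero] at hR
    exact pow_ne_zero p hQ0 hR.symm
  obtain ⟨n₀, hn₀⟩ := exists_approx (W₁ := W₁) (M₁ := M₁) t a ht ht0 R hR0
  refine ⟨n₀, fun n hn N _ _ z hz W hW => ?_⟩
  have : CharP N p := charP_of_injective_algebraMap (algebraMap M₁ N).injective p
  have hWι : ∀ x : M₁, algebraMap M₁ N x ∈ W ↔ x ∈ Set.range (algebraMap W₁ M₁) := fun x =>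
    (hW x).trans ⟨fun h => ⟨⟨x, h⟩, rfl⟩, fun ⟨y, hy⟩ => hy ▸ y.2⟩
  have hzW : z ∈ W :=
    mem_of_trinomial W hp.two_le (pow_mem ((hW _).mpr t.2) n) ((hW _).mpr a.2) hz
  obtain ⟨ε, hε, heq⟩ := hn₀ n hn N (algebraMap M₁ N) W hWι z hzW
  have hβ : R.eval (a : M₁) ∈ W₁ := by
    rw [← h₂, hR]; exact pow_mem hQ p
  have hkey : aeval z Q ^ p = algebraMap M₁ N (R.eval (a : M₁)) * (1 + ε) := by
    rw [aeval_pow_char, eq_sub_of_add_eq hz]
    exact heq
  have hε1 : W.valuation (1 + ε) = 1 := by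
    rw [Valuation.map_add_eq_of_lt_left _ (by rwa [map_one]), map_one]
  have hu : 1 + ε ∈ W := (W.valuation_le_one_iff _).mp hε1.le
  have hεW : ε ∈ W := (W.valuation_le_one_iff _).mp hε.le
  have hQz : aeval z Q ∈ W := mem_of_pow_mem W hp.ne_zero
    (hkey ▸ mul_mem ((hW _).mpr hβ) hu)
  have heW : (⟨_, hQz⟩ : W) ^ p = inclOf W₁ W hW ⟨_, hβ⟩ * ⟨_, hu⟩ := Subtype.ext hkey
  refine ⟨hQz, ⟨_, hβ⟩, Subtype.ext hR, ?_, ?_⟩
  · rw [← map_pow, heW, map_mul, resMap_residue]
    have : residue W (⟨_, hu⟩ : W) = 1 := by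
      rw [← sub_eq_zero, ← map_one (residue W), ← map_sub, residue_eq_zero_iff]
      refine (ValuationSubring.valuation_lt_one_iff W _).mpr ?_
      show W.valuation ((1 + ε) - 1) < 1
      rwa [add_sub_cancel_left]
    rw [this, mul_one]
  · rw [heW]
    exact associated_mul_unit_left _ _ ((W.valuation_eq_one_iff ⟨_, hu⟩).mpr hε1)

end Pair

theorem aeval_map_hom {F M N K : Type*} [Field F] [Field M] [Field N] [Field K] [Algebra F M]
    [Algebra M N] [Algebra F K] (f : K →+* N)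
    (hf : ∀ x, f (algebraMap F K x) = algebraMap M N (algebraMap F M x)) (S : F[X]) (z : K) :
    aeval (f z) (S.map (algebraMap F M)) = f (aeval z S) := by
  rw [aeval_def, eval₂_map, aeval_def, hom_eval₂]
  congr 1
  exact RingHom.ext fun x => (hf x).symm

section Core

variable (p : ℕ) [Fact p.Prime] {F F₂ M₁ M₂ : Type u} [Field F] [Field F₂] [Field M₁] [Field M₂]
  [Algebra F F₂] [Algebra F M₁] [Algebra F₂ M₂] [Algebra M₁ M₂]
  (hsq : ∀ x : F, algebraMap F₂ M₂ (algebraMap F F₂ x) = algebraMap M₁ M₂ (algebraMap F M₁ x))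
  [CharP F p] [IsPurelyInseparable F F₂] [IsPurelyInseparable M₁ M₂]
  (hd₂ : Module.finrank F F₂ = p) (hd : Module.finrank M₁ M₂ = p)
  (V : ValuationSubring F) [IsDiscreteValuationRing V]
  (W₁ : ValuationSubring M₁) [IsDiscreteValuationRing W₁] (W₂ : ValuationSubring M₂)

include hsq hd₂ hd in
/-- If `V₂ → W₂` is weakly unramified with separable residue field extension, then so are the
extensions obtained by replacing the `p`-th root of `a` by a root of `X ^ p + t ^ n X - a`,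
for `n` large. -/
theorem exists_local_bound (hV : ∀ x : F, algebraMap F M₁ x ∈ W₁ ↔ x ∈ V)
    (h₂ : ∀ x : M₁, algebraMap M₁ M₂ x ∈ W₂ ↔ x ∈ W₁) (hfin : (inclOf W₁ W₂ h₂).Finite)
    (c : F₂) (hgen₂ : ∀ x : F₂, ∃ Q : F[X], aeval c Q = x)
    (hgen : ∀ x : M₂, ∃ Q : M₁[X], aeval (algebraMap F₂ M₂ c) Q = x)
    (hcM : ∀ y, algebraMap M₁ M₂ y ≠ algebraMap F₂ M₂ c)
    (a t : V) (ha : algebraMap F F₂ (a : F) = c ^ p) (ht : t ∈ maximalIdeal V) (ht0 : t ≠ 0)
    (hwu : letI : Algebra (W₂.comap (algebraMap F₂ M₂)) W₂ := (EtRam.inclOfComap W₂ _).toAlgebra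
      EtRam.IsWeaklyUnramified (W₂.comap (algebraMap F₂ M₂)) W₂)
    (hgr : @Algebra.IsGeometricallyReduced (ResidueField (W₂.comap (algebraMap F₂ M₂)))
      (ResidueField W₂) _ _ (ResidueField.map (EtRam.inclOfComap W₂ _)).toAlgebra) :
    ∃ n₀, ∀ n ≥ n₀, ∀ (N : Type u) [Field N] [Algebra M₁ N] [FiniteDimensional M₁ N],
      Module.finrank M₁ N ≤ p → ∀ (K₃ : Type u) [Field K₃] [Algebra F K₃] [FiniteDimensional F K₃],
      Module.finrank F K₃ ≤ p → ∀ f₃ : K₃ →+* N,
      (∀ x, f₃ (algebraMap F K₃ x) = algebraMap M₁ N (algebraMap F M₁ x)) →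
      ∀ z : K₃, z ^ p + algebraMap F K₃ (t : F) ^ n * z = algebraMap F K₃ (a : F) →
      ∀ W : ValuationSubring N, (∀ x : M₁, algebraMap M₁ N x ∈ W ↔ x ∈ W₁) →
        (letI : Algebra (W.comap f₃) W := (EtRam.inclOfComap W f₃).toAlgebra
         EtRam.IsWeaklyUnramified (W.comap f₃) W) ∧
        @Algebra.IsGeometricallyReduced (ResidueField (W.comap f₃)) (ResidueField W) _ _
          (ResidueField.map (EtRam.inclOfComap W f₃)).toAlgebra := by
  classical
  have hp : p.Prime := Fact.out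
  have : FiniteDimensional F F₂ := FiniteDimensional.of_finrank_pos (hd₂ ▸ hp.pos)
  have : FiniteDimensional M₁ M₂ := FiniteDimensional.of_finrank_pos (hd ▸ hp.pos)
  have : CharP M₁ p := charP_of_injective_algebraMap (algebraMap F M₁).injective p
  have : CharP M₂ p := charP_of_injective_algebraMap (algebraMap M₁ M₂).injective p
  have := dvr_of_hc W₁ W₂ h₂
  set V₂ := W₂.comap (algebraMap F₂ M₂) with hV₂
  have h' : ∀ x : F, algebraMap F F₂ x ∈ V₂ ↔ x ∈ V := fun x => by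
    show algebraMap F₂ M₂ _ ∈ W₂ ↔ _
    rw [hsq, h₂, hV]
  have := dvr_of_hc V V₂ h'
  let i₂ : V₂ →+* W₂ := EtRam.inclOfComap W₂ (algebraMap F₂ M₂)
  let jV : V →+* W₁ := inclOf V W₁ hV
  let i₁ := inclOf W₁ W₂ h₂
  have hsqW : ∀ v, i₂ (inclOf V V₂ h' v) = i₁ (jV v) := fun v => Subtype.ext (hsq v)
  -- uniformizers
  obtain ⟨π, hπ⟩ := IsDiscreteValuationRing.exists_irreducible V
  obtain ⟨π₁, hπ₁⟩ := IsDiscreteValuationRing.exists_irreducible W₁
  obtain ⟨π₂, hπ₂⟩ := IsDiscreteValuationRing.exists_irreducible V₂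
  have hϖ : Irreducible (i₂ π₂) := by
    rw [IsDiscreteValuationRing.irreducible_iff_uniformizer, ← hwu,
      (IsDiscreteValuationRing.irreducible_iff_uniformizer π₂).mp hπ₂, Ideal.map_span,
      Set.image_singleton]
    rfl
  obtain ⟨ε₁, hε₁0, hε₁⟩ := exists_assoc V W₁ hV hπ hπ₁
  obtain ⟨e', he'0, he'⟩ := exists_assoc W₁ W₂ h₂ hπ₁ hϖ
  obtain ⟨e₂, he₂0, he₂⟩ := exists_assoc V V₂ h' hπ hπ₂
  have he₂e : e₂ = ε₁ * e' := by
    refine eq_of_associated_pow hϖ ?_
    have h1 := he₂.map i₂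
    rw [map_pow, hsqW] at h1
    have h2 := hε₁.map i₁
    rw [map_pow] at h2
    refine h1.symm.trans (h2.trans ?_)
    rw [Nat.mul_comm, pow_mul]
    exact he'.pow_pow
  -- no defect
  have hcpow : algebraMap F₂ M₂ c ^ p = algebraMap M₁ M₂ (algebraMap F M₁ (a : F)) := by
    rw [← map_pow, ← ha, hsq]
  have hcW : algebraMap F₂ M₂ c ∈ W₂ :=
    mem_of_pow_mem W₂ hp.ne_zero (hcpow ▸ (h₂ _).mpr ((hV _).mpr a.2))
  have hnd : ¬ Approximable W₁ W₂ h₂ ⟨_, hcW⟩ :=
    not_approximable_of_finite W₁ W₂ h₂ hfin _ fun b hb => hcM _ (congrArg Subtype.val hb :)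
  have hndV : ¬ Approximable V V₂ h' ⟨c, hcW⟩ := fun hall => hnd fun k => by
    obtain ⟨b, hb⟩ := hall k
    refine ⟨jV b, ?_⟩
    have h1 := Ideal.mem_map_of_mem i₂ hb
    rw [Ideal.map_pow, Ideal.map_map,
      show i₂.comp (inclOf V V₂ h') = i₁.comp jV from RingHom.ext hsqW, ← Ideal.map_map, map_sub,
      hsqW] at h1
    exact Ideal.pow_right_mono (Ideal.map_mono (Ideal.map_le_iff_le_comap.mpr fun x hx =>
      Ideal.mem_comap.mpr (map_nonunit jV x hx))) k h1
  let _ : Algebra (ResidueField W₁) (ResidueField W₂) := (resMap W₁ W₂ h₂).toAlgebra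
  let _ : Algebra (ResidueField V) (ResidueField V₂) := (resMap V V₂ h').toAlgebra
  obtain ⟨hfin', -⟩ := finite_and_mul_finrank_le W₁ W₂ h₂ hπ₁ hϖ he'
  obtain ⟨hfin₂, -⟩ := finite_and_mul_finrank_le V V₂ h' hπ hπ₂ he₂
  have hef' := le_mul_finrank W₁ W₂ h₂ p hd ⟨_, hnd⟩ hπ₁ hϖ he'
  have hef₂ := le_mul_finrank V V₂ h' p hd₂ ⟨_, hndV⟩ hπ hπ₂ he₂
  let r := Module.finBasis (ResidueField W₁) (ResidueField W₂)
  let s := Module.finBasis (ResidueField V) (ResidueField V₂)
  choose R hR using fun m => residue_surjective (r m)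
  choose S hS using fun l => residue_surjective (s l)
  choose Q hQ using fun m => hgen (R m : M₂)
  choose P hP using fun l => hgen₂ (S l : F₂)
  obtain ⟨Pϖ, hPϖ⟩ := hgen₂ (π₂ : F₂)
  have hPM : ∀ G : F[X], aeval (algebraMap F₂ M₂ c) (G.map (algebraMap F M₁)) =
      algebraMap F₂ M₂ (aeval c G) := fun G => aeval_map_hom (algebraMap F₂ M₂) hsq G c
  -- the bounds
  let a₁ : W₁ := jV a
  let t₁ : W₁ := jV t
  have ht₁ : t₁ ∈ maximalIdeal W₁ := map_nonunit jV t ht
  have ht₁0 : t₁ ≠ 0 := (map_ne_zero_iff _ (inclOf_injective V W₁ hV)).mpr ht0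
  have pair := value_pair p W₁ W₂ h₂ (algebraMap F₂ M₂ c) a₁ t₁ ht₁ ht₁0 hcpow
  choose nQ hnQ using fun m => pair (Q m) (hQ m ▸ (R m).2) (by
    rw [hQ m]; intro h0
    exact r.ne_zero m (by rw [← hR m, show R m = 0 from Subtype.ext h0, map_zero]))
  choose nP hnP using fun l => pair ((P l).map (algebraMap F M₁)) (by
    rw [hPM, hP l]; exact (S l).2) (by
    rw [hPM, hP l]; intro h0
    exact s.ne_zero l (by
      rw [← hS l, show S l = 0 from Subtype.ext ((algebraMap F₂ M₂).injective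
        (h0.trans (map_zero _).symm)), map_zero]))
  obtain ⟨nϖ, hnϖ⟩ := pair (Pϖ.map (algebraMap F M₁)) (by rw [hPM, hPϖ]; exact π₂.2) (by
    rw [hPM, hPϖ]; exact fun h0 => hϖ.ne_zero (Subtype.ext h0))
  refine ⟨nϖ + ∑ m, nQ m + ∑ l, nP l, fun n hn N _ _ _ hN K₃ _ _ _ hK₃ f₃ hf₃ z hz W hW => ?_⟩
  have hnQle : ∀ m, nQ m ≤ n := fun m => by
    have := Finset.single_le_sum (f := nQ) (fun i _ => Nat.zero_le _) (Finset.mem_univ m)
    omega
  have hnPle : ∀ l, nP l ≤ n := fun l => by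
    have := Finset.single_le_sum (f := nP) (fun i _ => Nat.zero_le _) (Finset.mem_univ l)
    omega
  have : CharP N p := charP_of_injective_algebraMap (algebraMap M₁ N).injective p
  have hzN : f₃ z ^ p + algebraMap M₁ N (t₁ : M₁) ^ n * f₃ z = algebraMap M₁ N (a₁ : M₁) := by
    have h1 := congrArg f₃ hz
    rw [map_add, map_mul, map_pow, map_pow, hf₃, hf₃] at h1
    exact h1
  have := dvr_of_hc W₁ W hW
  set V₃ := W.comap f₃ with hV₃
  have h'' : ∀ x : F, algebraMap F K₃ x ∈ V₃ ↔ x ∈ V := fun x => by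
    show f₃ _ ∈ W ↔ _
    rw [hf₃, hW, hV]
  have := dvr_of_hc V V₃ h''
  let i₃ : V₃ →+* W := EtRam.inclOfComap W f₃
  let iN := inclOf W₁ W hW
  have hsqN : ∀ v, i₃ (inclOf V V₃ h'' v) = iN (jV v) := fun v => Subtype.ext (hf₃ v)
  have hPN : ∀ G : F[X], aeval (f₃ z) (G.map (algebraMap F M₁)) = f₃ (aeval z G) :=
    fun G => aeval_map_hom f₃ hf₃ G z
  obtain ⟨hωW, β, hβ, -, hβN⟩ := hnϖ n (by omega) N (f₃ z) hzN W hW
  let ω' : V₃ := ⟨aeval z Pϖ, show f₃ _ ∈ W from hPN Pϖ ▸ hωW⟩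
  have hω' : i₃ ω' = ⟨_, hωW⟩ := Subtype.ext (hPN Pϖ).symm
  have hβϖ : i₁ β = i₂ π₂ ^ p := by
    rw [hβ]
    exact congrArg (· ^ p) (Subtype.ext ((hPM Pϖ).trans (by rw [hPϖ]; rfl)))
  have hβ0 : β ≠ 0 := fun h => pow_ne_zero p hϖ.ne_zero (by rw [← hβϖ, h, map_zero])
  obtain ⟨j, hj⟩ := IsDiscreteValuationRing.associated_pow_irreducible hβ0 hπ₁
  have hpj : p = e' * j := by
    refine eq_of_associated_pow hϖ ?_
    rw [← hβϖ, pow_mul]
    refine (hj.map i₁).trans ?_
    rw [map_pow]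
    exact he'.pow_pow
  obtain ⟨ϖW, hϖW⟩ := IsDiscreteValuationRing.exists_irreducible W
  obtain ⟨E, hE0, hE⟩ := exists_assoc W₁ W hW hπ₁ hϖW
  have hω0 : (⟨_, hωW⟩ : W) ≠ 0 := fun h => by
    rw [h, zero_pow hp.ne_zero] at hβN
    exact hβ0 (inclOf_injective W₁ W hW
      (((associated_zero_iff_eq_zero _).mp hβN.symm).trans (map_zero _).symm))
  obtain ⟨m, hm⟩ := IsDiscreteValuationRing.associated_pow_irreducible hω0 hϖW
  have hmE : m * e' = E := by
    have h1 : m * p = E * j := by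
      refine eq_of_associated_pow hϖW ?_
      rw [pow_mul, pow_mul]
      refine (hm.pow_pow.symm.trans hβN).trans ((hj.map iN).trans ?_)
      rw [map_pow]
      exact hE.pow_pow
    rw [hpj, ← mul_assoc] at h1
    exact Nat.eq_of_mul_eq_mul_right (Nat.pos_of_ne_zero fun h => hp.ne_zero (by rw [hpj, h, mul_zero])) h1
  -- the map of residue fields
  have : CharP W p := (RingHom.charP_iff W.subtype Subtype.val_injective p).mpr inferInstance
  have : CharP (ResidueField W) p := (CharP.charP_iff_prime_eq_zero hp).mpr (by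
    rw [← map_natCast (residue W), CharP.cast_eq_zero, map_zero])
  let _ : Algebra (ResidueField W₁) (ResidueField W) := (resMap W₁ W hW).toAlgebra
  obtain ⟨hfinW, hEfW⟩ := finite_and_mul_finrank_le W₁ W hW hπ₁ hϖW hE
  have hpmem : ∀ x : ResidueField W₂, x ^ p ∈ (resMap W₁ W₂ h₂).range := by
    intro x
    obtain ⟨w, rfl⟩ := residue_surjective x
    obtain ⟨y, hy⟩ := pow_mem_range p hd (w : M₂)
    have hyW : y ∈ W₁ := (h₂ y).mp (hy ▸ pow_mem w.2 p)
    refine ⟨residue W₁ ⟨y, hyW⟩, ?_⟩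
    rw [resMap_residue, ← map_pow]
    exact congrArg _ (Subtype.ext hy)
  obtain ⟨θ, hθi, hθp⟩ := exists_lift_pth_root p (resMap W₁ W₂ h₂) (resMap W₁ W hW) hpmem r
    (fun x => ⟨fun m => r.repr x m, by
      conv_lhs => rw [← r.sum_repr x]
      exact Finset.sum_congr rfl fun m _ => Algebra.smul_def _ _⟩)
    (fun m b hb => by
      obtain ⟨hzm, β', hβ', hres, -⟩ := hnQ m n (hnQle m) N (f₃ z) hzN W hW
      refine ⟨residue W ⟨_, hzm⟩, ?_⟩
      rw [hres]
      congr 1
      refine (resMap W₁ W₂ h₂).injective ?_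
      rw [hb, resMap_residue, hβ', map_pow, ← hR m]
      exact congrArg (fun q => residue W₂ q ^ p) (Subtype.ext (hQ m)))
  let θl : ResidueField W₂ →ₐ[ResidueField W₁] ResidueField W := { θ with commutes' := hθi }
  have hf'le := θl.toLinearMap.finrank_le_finrank_of_injective θ.injective
  have hf'pos : 0 < Module.finrank (ResidueField W₁) (ResidueField W₂) := Module.finrank_pos
  have hkey : m = 1 ∧ Module.finrank (ResidueField W₁) (ResidueField W) =
      Module.finrank (ResidueField W₁) (ResidueField W₂) := by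
    set f' := Module.finrank (ResidueField W₁) (ResidueField W₂)
    set fW := Module.finrank (ResidueField W₁) (ResidueField W)
    have h1 : e' * (m * fW) ≤ e' * f' := by
      rw [← mul_assoc, Nat.mul_comm e' m, hmE]
      exact (hEfW.trans hN).trans hef'
    have h2 := Nat.le_of_mul_le_mul_left h1 he'0
    have hm0 : 0 < m := Nat.pos_of_ne_zero fun h => by rw [h, zero_mul] at hmE; omega
    have h3 : fW ≤ m * fW := Nat.le_mul_of_pos_left _ hm0
    refine ⟨?_, by omega⟩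
    have h4 : m * fW ≤ 1 * fW := by omega
    have := Nat.le_of_mul_le_mul_right h4 (by omega)
    omega
  obtain ⟨rfl, hfW⟩ := hkey
  rw [one_mul] at hmE
  have hω : Irreducible (i₃ ω') := hω' ▸ (Associated.irreducible_iff (pow_one ϖW ▸ hm)).mpr hϖW
  have hω'irr : Irreducible ω' := Irreducible.of_map hω
  -- the residue field of `V₃`
  let _ : Algebra (ResidueField V) (ResidueField V₃) := (resMap V V₃ h'').toAlgebra
  obtain ⟨e₃, he₃0, he₃⟩ := exists_assoc V V₃ h'' hπ hω'irr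
  have he₃e : e₃ = e₂ := by
    rw [he₂e, hmE]
    refine eq_of_associated_pow hω ?_
    have h1 := he₃.map i₃
    rw [map_pow, hsqN] at h1
    refine h1.symm.trans ((hε₁.map iN).trans ?_)
    rw [map_pow, Nat.mul_comm, pow_mul]
    refine (hE.trans (Associated.pow_pow ?_)).pow_pow
    rw [hω']
    exact (pow_one ϖW ▸ hm).symm
  obtain ⟨hfin₃, hef₃⟩ := finite_and_mul_finrank_le V V₃ h'' hπ hω'irr he₃
  let g₂ : ResidueField V₂ →+* ResidueField W := θ.comp (ResidueField.map i₂)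
  let g₃ : ResidueField V₃ →+* ResidueField W := ResidueField.map i₃
  have hbase : ∀ l, g₂ (algebraMap (ResidueField V) (ResidueField V₂) l) =
      g₃ (algebraMap (ResidueField V) (ResidueField V₃) l) := by
    intro l
    obtain ⟨v, rfl⟩ := residue_surjective l
    show θ (ResidueField.map i₂ (resMap V V₂ h' _)) = ResidueField.map i₃ (resMap V V₃ h'' _)
    rw [resMap_residue, resMap_residue, ResidueField.map_residue, ResidueField.map_residue, hsqW,
      hsqN, ← resMap_residue, hθi, resMap_residue]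
  have hmem : ∀ x, g₂ x ∈ g₃.range := by
    intro x
    rw [← s.sum_repr x, map_sum]
    refine sum_mem fun l _ => ?_
    rw [Algebra.smul_def, map_mul, hbase]
    refine mul_mem ⟨_, rfl⟩ ?_
    obtain ⟨hzl, β', hβ', hres, -⟩ := hnP l n (hnPle l) N (f₃ z) hzN W hW
    refine ⟨residue V₃ ⟨aeval z (P l), show f₃ _ ∈ W from hPN (P l) ▸ hzl⟩, ?_⟩
    refine (frobenius_inj (ResidueField W) p ?_).symm
    rw [frobenius_def, frobenius_def]
    show θ (ResidueField.map i₂ (s l)) ^ p = ResidueField.map i₃ _ ^ p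
    rw [hθp _ (residue W₁ β') ?_, ResidueField.map_residue, ← hres]
    · exact congrArg (fun q => residue W q ^ p) (Subtype.ext (hPN (P l)))
    · rw [resMap_residue, hβ', map_pow, ← hS l, ResidueField.map_residue]
      exact congrArg (fun q => residue W₂ q ^ p) (Subtype.ext ((hPM (P l)).trans (by rw [hP l]; rfl)))
  let e3 : ResidueField V₃ ≃+* g₃.range := RingEquiv.ofBijective g₃.rangeRestrict
    ⟨fun x y h => g₃.injective (congrArg Subtype.val h :), g₃.rangeRestrict_surjective⟩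
  let h₀ : ResidueField V₂ →+* ResidueField V₃ := e3.symm.toRingHom.comp (g₂.codRestrict g₃.range hmem)
  have hh₀ : ∀ x, g₃ (h₀ x) = g₂ x := fun x =>
    congrArg Subtype.val (e3.apply_symm_apply ⟨g₂ x, hmem x⟩)
  let h₀l : ResidueField V₂ →ₐ[ResidueField V] ResidueField V₃ :=
    { h₀ with commutes' := fun l => g₃.injective ((hh₀ _).trans (hbase l)) }
  have hf₂le := h₀l.toLinearMap.finrank_le_finrank_of_injective h₀.injective
  have hf₂eq : Module.finrank (ResidueField V) (ResidueField V₂) =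
      Module.finrank (ResidueField V) (ResidueField V₃) := by
    refine le_antisymm hf₂le (Nat.le_of_mul_le_mul_left ((hef₃.trans hK₃).trans ?_) he₃0)
    rw [he₃e]
    exact hef₂
  have hh₀bij : Function.Bijective h₀ := ⟨h₀.injective,
    (LinearMap.injective_iff_surjective_of_finrank_eq_finrank hf₂eq (f := h₀l.toLinearMap)).mp
      h₀.injective⟩
  have hθbij : Function.Bijective θ := ⟨θ.injective,
    (LinearMap.injective_iff_surjective_of_finrank_eq_finrank hfW.symm (f := θl.toLinearMap)).mp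
      θ.injective⟩
  refine ⟨?_, ?_⟩
  · show (maximalIdeal V₃).map i₃ = maximalIdeal W
    rw [(IsDiscreteValuationRing.irreducible_iff_uniformizer ω').mp hω'irr, Ideal.map_span,
      Set.image_singleton, ← (IsDiscreteValuationRing.irreducible_iff_uniformizer _).mp hω]
  · let _ : Algebra (ResidueField V₂) (ResidueField W₂) := (ResidueField.map i₂).toAlgebra
    let _ : Algebra (ResidueField V₃) (ResidueField W) := (ResidueField.map i₃).toAlgebra
    exact isGeometricallyReduced_of_equiv (RingEquiv.ofBijective h₀ hh₀bij)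
      (RingEquiv.ofBijective θ hθbij) (fun x => (hh₀ x).symm) hgr

end Core

end Ram24
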