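import Groth.Agent.Ram24.DegreeP

/-!
# Galois extensions by Artin–Schreier and Kummer roots
-/

universe u

open Polynomial IntermediateField

namespace Ram24

variable {K L : Type u} [Field K] [Field L] [Algebra K L]

theorem finrank_eq_one_of_mem {z : L} (hgen : IntermediateField.adjoin K {z} = ⊤)
    (hz : z ∈ Set.range (algebraMap K L)) : Module.finrank K L = 1 := by
  rw [← IntermediateField.finrank_top', ← hgen, IntermediateField.finrank_eq_one_iff,
    IntermediateField.adjoin_simple_eq_bot_iff, IntermediateField.mem_bot]
  exact hz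

theorem isGalois_of_finrank_one (h : Module.finrank K L = 1) : IsGalois K L := by
  have : FiniteDimensional K L := FiniteDimensional.of_finrank_pos (h ▸ Nat.one_pos)
  have hsurj : Function.Surjective (algebraMap K L) := fun x => by
    have hx : x ∈ (⊥ : Subalgebra K L) := by
      rw [Subalgebra.bot_eq_top_of_finrank_eq_one h]; trivial
    exact Algebra.mem_bot.mp hx
  exact IsGalois.of_algEquiv (AlgEquiv.ofBijective (Algebra.ofId K L) ⟨(algebraMap K L).injective, hsurj⟩)

/-- A Galois extension of degree dividing `p` given by an Artin–Schreier root. -/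
theorem artinSchreier_galois (p : ℕ) [Fact p.Prime] [CharP K p] {ξ : K} {z : L}
    (hz : z ^ p - z = algebraMap K L ξ) (hgen : IntermediateField.adjoin K {z} = ⊤) :
    IsGalois K L ∧ (Module.finrank K L = 1 ∨ Module.finrank K L = p) := by
  classical
  have hp : p.Prime := Fact.out
  have : CharP L p := charP_of_injective_algebraMap (algebraMap K L).injective p
  set f : K[X] := X ^ p + (-X - C ξ)
  have hlow : (-X - C ξ : K[X]).degree < (p : WithBot ℕ) := by
    refine lt_of_le_of_lt (degree_sub_le _ _) (max_lt ?_ ?_)
    · rw [degree_neg]; exact lt_of_le_of_lt degree_X_le (by exact_mod_cast hp.one_lt)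
    · exact lt_of_le_of_lt degree_C_le (by exact_mod_cast hp.pos)
  have hfm : f.Monic := monic_X_pow_add hlow
  have hfd : f.natDegree = p := by
    refine natDegree_eq_of_degree_eq_some ?_
    rw [degree_add_eq_left_of_degree_lt (by rwa [degree_X_pow]), degree_X_pow]
  have hfs : f.Separable := by
    rw [separable_def, derivative_add, derivative_X_pow, derivative_sub, derivative_neg,
      derivative_X, derivative_C, CharP.cast_eq_zero, map_zero, zero_mul, zero_add, sub_zero]
    exact ⟨0, -1, by ring⟩
  let i : ZMod p →+* L := ZMod.castHom dvd_rfl L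
  have hroot : ∀ c : ZMod p, aeval (z + i c) f = 0 := by
    intro c
    have hic : i c ^ p = i c := by rw [← map_pow, ZMod.pow_card]
    simp only [f, map_add, map_sub, map_neg, map_pow, aeval_X, aeval_C, add_pow_char, hic]
    linear_combination hz
  have hint : IsIntegral K z := ⟨f, hfm, by
    have := hroot 0; rwa [map_zero, add_zero] at this⟩
  have : FiniteDimensional K L := by
    have := IntermediateField.adjoin.finiteDimensional hint
    rw [hgen] at this
    exact IntermediateField.topEquiv.toLinearEquiv.finiteDimensional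
  have hinji : Function.Injective fun c : ZMod p => z + i c := fun a b h =>
    i.injective (add_left_cancel h)
  have hroots : (f.map (algebraMap K L)).roots.toFinset = Finset.univ.image fun c : ZMod p => z + i c := by
    refine (Finset.eq_of_subset_of_card_le ?_ ?_).symm
    · intro x hx
      obtain ⟨c, -, rfl⟩ := Finset.mem_image.mp hx
      rw [Multiset.mem_toFinset, mem_roots (hfm.map _).ne_zero, IsRoot, eval_map, ← aeval_def]
      exact hroot c
    · rw [Finset.card_image_of_injective _ hinji, Finset.card_univ, ZMod.card]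
      exact (Multiset.toFinset_card_le _).trans ((card_roots' _).trans (by rw [hfm.natDegree_map, hfd]))
  have hsplit : (f.map (algebraMap K L)).Splits := by
    rw [splits_iff_card_roots]
    refine le_antisymm (card_roots' _) ?_
    rw [hfm.natDegree_map, hfd]
    calc p = (f.map (algebraMap K L)).roots.toFinset.card := by
          rw [hroots, Finset.card_image_of_injective _ hinji, Finset.card_univ, ZMod.card]
      _ ≤ _ := Multiset.toFinset_card_le _
  have hadj : Algebra.adjoin K ({z} : Set L) = ⊤ := by
    rw [← IntermediateField.adjoin_simple_toSubalgebra_of_isAlgebraic hint.isAlgebraic, hgen,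
      IntermediateField.top_toSubalgebra]
  have : f.IsSplittingField K L := ⟨hsplit, by
    rw [eq_top_iff]
    intro x _
    have hx : x ∈ Algebra.adjoin K ({z} : Set L) := hadj ▸ trivial
    refine Algebra.adjoin_mono ?_ hx
    rw [Set.singleton_subset_iff, mem_rootSet]
    exact ⟨hfm.ne_zero, by simpa using hroot 0⟩⟩
  have hgal : IsGalois K L := IsGalois.of_separable_splitting_field hfs
  refine ⟨hgal, ?_⟩
  have hsigma : ∀ σ : L ≃ₐ[K] L, ∃ c : ZMod p, σ z = z + i c := by
    intro σ
    have h1 : σ z ∈ (f.map (algebraMap K L)).roots.toFinset := by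
      rw [Multiset.mem_toFinset, mem_roots (hfm.map _).ne_zero, IsRoot, eval_map, ← aeval_def,
        show σ z = σ.toAlgHom z from rfl, aeval_algHom_apply, show aeval z f = 0 by simpa using hroot 0, map_zero]
    rw [hroots] at h1
    obtain ⟨c, -, hc⟩ := Finset.mem_image.mp h1
    exact ⟨c, hc.symm⟩
  choose c hc using hsigma
  have hci : ∀ σ : L ≃ₐ[K] L, ∀ d : ZMod p, σ (i d) = i d := fun σ d => by
    obtain ⟨m, rfl⟩ := ZMod.natCast_zmod_surjective d
    rw [map_natCast, map_natCast]
  let φ : (L ≃ₐ[K] L) →* Multiplicative (ZMod p) :=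
    { toFun := fun σ => Multiplicative.ofAdd (c σ)
      map_one' := congrArg _ (i.injective (add_left_cancel (a := z) (by
        rw [← hc, map_zero, add_zero]; rfl)))
      map_mul' := fun σ τ => congrArg _ (i.injective (add_left_cancel (a := z) (by
        rw [← hc, map_add, AlgEquiv.mul_apply, hc τ, map_add, hc σ, hci, add_assoc]; rfl))) }
  have hφ : Function.Injective φ := fun σ τ h => by
    have h1 : c σ = c τ := h
    refine AlgEquiv.coe_algHom_injective (AlgHom.ext_of_adjoin_eq_top hadj ?_)
    intro x hx
    rw [Set.mem_singleton_iff.mp hx]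
    show σ z = τ z
    rw [hc, hc, h1]
  have hdvd := Subgroup.card_dvd_of_injective φ hφ
  rw [IsGalois.card_aut_eq_finrank, Nat.card_eq_fintype_card, Fintype.card_multiplicative, ZMod.card] at hdvd
  exact (Nat.dvd_prime hp).mp hdvd

/-- A Galois extension of degree dividing `p` given by a Kummer root. -/
theorem kummer_galois (p : ℕ) (hp : p.Prime) {ζ : K} (hζ : IsPrimitiveRoot ζ p) {u₀ : K} {y : L}
    (hy : y ^ p = algebraMap K L u₀) (hgen : IntermediateField.adjoin K {y} = ⊤) :
    IsGalois K L ∧ (Module.finrank K L = 1 ∨ Module.finrank K L = p) := by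
  classical
  by_cases hb : ∃ b : K, b ^ p = u₀
  · obtain ⟨b, rfl⟩ := hb
    have hmem : y ∈ Set.range (algebraMap K L) := by
      by_cases hb0 : b = 0
      · exact ⟨0, by
          rw [hb0, zero_pow hp.ne_zero, map_zero, pow_eq_zero_iff hp.ne_zero] at hy
          rw [hy, map_zero]⟩
      have : NeZero p := ⟨hp.ne_zero⟩
      have hb' : algebraMap K L b ≠ 0 := (map_ne_zero_iff _ (algebraMap K L).injective).mpr hb0
      obtain ⟨i, -, hi⟩ := (hζ.map_of_injective (algebraMap K L).injective).eq_pow_of_pow_eq_one
        (ξ := y / algebraMap K L b) (by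
          rw [div_pow, hy, map_pow, div_self (pow_ne_zero _ hb')])
      exact ⟨ζ ^ i * b, by rw [map_mul, map_pow, hi, div_mul_cancel₀ _ hb']⟩
    have h1 := finrank_eq_one_of_mem hgen hmem
    exact ⟨isGalois_of_finrank_one h1, Or.inl h1⟩
  · push Not at hb
    have hirr := X_pow_sub_C_irreducible_of_prime hp hb
    have hroot : aeval y (X ^ p - C u₀) = 0 := by rw [map_sub, map_pow, aeval_X, aeval_C, hy, sub_self]
    have hint : IsIntegral K y := ⟨_, monic_X_pow_sub_C u₀ hp.ne_zero, hroot⟩
    have hdeg : Module.finrank K L = p := by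
      rw [← IntermediateField.finrank_top', ← hgen, IntermediateField.adjoin.finrank hint,
        ← minpoly.eq_of_irreducible_of_monic hirr hroot (monic_X_pow_sub_C u₀ hp.ne_zero),
        natDegree_X_pow_sub_C]
    have : FiniteDimensional K L := FiniteDimensional.of_finrank_pos (hdeg ▸ hp.pos)
    have hprim : (primitiveRoots (Module.finrank K L) K).Nonempty :=
      ⟨ζ, by rw [hdeg, mem_primitiveRoots hp.pos]; exact hζ⟩
    have : IsSplittingField K L (X ^ Module.finrank K L - C u₀) :=
      isSplittingField_X_pow_sub_C_of_root_adjoin_eq_top hprim (α := y) (hdeg.symm ▸ hy) hgen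
    exact ⟨isGalois_of_isSplittingField_X_pow_sub_C hprim (hdeg.symm ▸ hirr) L, Or.inr hdeg⟩

end Ram24
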