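import Groth.Agent.Cohen12.CohenFS
import Mathlib.RingTheory.MvPowerSeries.NoZeroDivisors
import Groth.Agent.S4512
import Groth.Agent.S4513

/-!
# Formal smoothness of extensions of discrete valuation rings
-/

set_option autoImplicit false
set_option maxHeartbeats 800000

universe u

open IsLocalRing TensorProduct

namespace Ram24

/-- Flat, unramified in the weak sense and separable residue extension gives formal smoothness. -/
theorem isFormallySmoothAdic_of_flat {A B : Type u} [CommRing A] [IsLocalRing A] [CommRing B]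
    [IsLocalRing B] [Algebra A B] [IsLocalHom (algebraMap A B)] (hflat : Module.Flat A B)
    (hmax : (maximalIdeal A).map (algebraMap A B) = maximalIdeal B)
    (hsep : Algebra.IsGeometricallyReduced (ResidueField A) (ResidueField B)) :
    EGA41.IsFormallySmoothAdic A (maximalIdeal A) B (maximalIdeal B) := by
  refine (Groth.Agent.S4553.result (maximalIdeal A) (maximalIdeal B) ⟨1, by rw [pow_one]; exact hmax.le⟩ ?_).mpr ?_
  · intro n P Q _ _ _ _ hP hQ f hf v ⟨m, hv⟩
    let N := n + m + 1
    have hP' : ∀ a ∈ maximalIdeal A ^ N, ∀ y : P, a • y = 0 := fun a ha y =>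
      hP a (Ideal.pow_le_pow_right (by omega) ha) y
    have hQ' : ∀ a ∈ maximalIdeal A ^ N, ∀ y : Q, a • y = 0 := fun a ha y =>
      hQ a (Ideal.pow_le_pow_right (by omega) ha) y
    let A₀ := A ⧸ maximalIdeal A ^ N
    have : Nontrivial A₀ := Ideal.Quotient.nontrivial_iff.mpr fun h0 =>
      (maximalIdeal.isMaximal A).ne_top (top_le_iff.mp (h0.ge.trans (Ideal.pow_le_self (by omega))))
    have : IsLocalRing A₀ := IsLocalRing.of_surjective' (Ideal.Quotient.mk _) Ideal.Quotient.mk_surjective
    have hnil : IsNilpotent (maximalIdeal A₀) := ⟨N, by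
      refine eq_bot_iff.mpr ((Ideal.pow_right_mono ?_ N).trans
        (le_of_eq ((Ideal.map_pow _ _ _).symm.trans (Ideal.map_quotient_self (maximalIdeal A ^ N)))))
      intro z hz
      obtain ⟨a, rfl⟩ := Ideal.Quotient.mk_surjective z
      exact Ideal.mem_map_of_mem _ ((mem_maximalIdeal _).mpr fun hau => (mem_maximalIdeal _).mp hz (hau.map _))⟩
    let : Module A₀ P := Module.IsTorsionBySet.module (R := A) (M := P) (I := maximalIdeal A ^ N) fun y a => hP' a.1 a.2 y
    let : Module A₀ Q := Module.IsTorsionBySet.module (R := A) (M := Q) (I := maximalIdeal A ^ N) fun y a => hQ' a.1 a.2 y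
    have : IsScalarTower A A₀ P := Module.IsTorsionBySet.isScalarTower _
    have : IsScalarTower A A₀ Q := Module.IsTorsionBySet.isScalarTower _
    let f₀ : P →ₗ[A₀] Q := f.extendScalarsOfSurjective Ideal.Quotient.mk_surjective
    let v₀ : A₀ ⊗[A] B →ₗ[A₀] Q := v.liftBaseChange A₀
    have : Module.Free A₀ (A₀ ⊗[A] B) := Groth.Agent.Cohen12.free_of_flat_of_nilpotent hnil
    obtain ⟨w₀, hw₀⟩ := Module.projective_lifting_property f₀ v₀ hf
    refine ⟨(w₀.restrictScalars A) ∘ₗ TensorProduct.mk A A₀ B 1, ⟨N, fun x hx => ?_⟩, ?_⟩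
    · rw [← hmax, ← Ideal.map_pow] at hx
      have key : ((1 : A₀) ⊗ₜ[A] x) = 0 := by
        induction hx using Submodule.span_induction with
        | mem y hy =>
          obtain ⟨a, ha, rfl⟩ := hy
          rw [Algebra.algebraMap_eq_smul_one, TensorProduct.tmul_smul, TensorProduct.smul_tmul',
            Algebra.smul_def, mul_one]
          show Ideal.Quotient.mk _ a ⊗ₜ[A] _ = 0
          rw [Ideal.Quotient.eq_zero_iff_mem.mpr ha, TensorProduct.zero_tmul]
        | zero => exact TensorProduct.tmul_zero _ _
        | add y z _ _ h1 h2 => rw [TensorProduct.tmul_add, h1, h2, add_zero]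
        | smul b y _ h1 =>
          have := congrArg (LinearMap.lTensor A₀ (LinearMap.mulLeft A b)) h1
          rw [map_zero, LinearMap.lTensor_tmul] at this
          exact this
      show w₀ ((1 : A₀) ⊗ₜ[A] x) = 0
      rw [key, map_zero]
    · refine LinearMap.ext fun x => ?_
      refine (LinearMap.congr_fun hw₀ ((1 : A₀) ⊗ₜ[A] x)).trans ?_
      simp [v₀]
  · let : Algebra (A ⧸ maximalIdeal A) (B ⧸ (maximalIdeal A).map (algebraMap A B)) := inferInstance
    refine (Groth.Agent.FSAdic12.isAdicFormallySmooth_iff _).mp ?_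
    have e : (maximalIdeal B) = (maximalIdeal A).map (algebraMap A B) := hmax.symm
    have hFS : Algebra.FormallySmooth (ResidueField A) (ResidueField B) :=
      (Groth.Agent.Sep12.formallySmooth_iff_isGeometricallyReduced (k := ResidueField A) (K := ResidueField B)).mpr hsep
    let : Algebra (A ⧸ maximalIdeal A) (ResidueField B) :=
      inferInstanceAs (Algebra (ResidueField A) (ResidueField B))
    let f : ResidueField B ≃ₐ[A ⧸ maximalIdeal A] (B ⧸ (maximalIdeal A).map (algebraMap A B)) :=
      { Ideal.quotEquivOfEq e with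
        commutes' := fun r => by
          obtain ⟨a, rfl⟩ := Ideal.Quotient.mk_surjective r
          rfl }
    have : Algebra.FormallySmooth (A ⧸ maximalIdeal A) (ResidueField B) := hFS
    have : Algebra.FormallySmooth (A ⧸ maximalIdeal A) (B ⧸ (maximalIdeal A).map (algebraMap A B)) :=
      Algebra.FormallySmooth.of_equiv f
    exact Groth.Agent.Cohen12.isAdicFormallySmooth_of_formallySmooth _

theorem isAdicFormallySmooth_of_flat {A B : Type u} [CommRing A] [IsLocalRing A] [CommRing B]
    [IsLocalRing B] [Algebra A B] [IsLocalHom (algebraMap A B)] (hflat : Module.Flat A B)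
    (hmax : (maximalIdeal A).map (algebraMap A B) = maximalIdeal B)
    (hsep : Algebra.IsGeometricallyReduced (ResidueField A) (ResidueField B)) :
    CAlgX.IsAdicFormallySmooth A B (maximalIdeal B) := by
  intro C _ _ J hJ ψ ⟨k, hk⟩
  refine isFormallySmoothAdic_of_flat hflat hmax hsep C J ⟨2, hJ⟩ ⟨k * 2, ?_⟩ ψ ⟨k, hk⟩
  rw [pow_mul, Ideal.map_pow, eq_bot_iff, ← hJ]
  refine Ideal.pow_right_mono (Ideal.map_le_iff_le_comap.mpr fun a ha => ?_) 2
  rw [Ideal.mem_comap, ← Ideal.Quotient.eq_zero_iff_mem]
  show algebraMap A (C ⧸ J) a = 0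
  rw [← ψ.commutes]
  refine hk _ ?_
  rw [← hmax, ← Ideal.map_pow]
  exact Ideal.mem_map_of_mem _ ha

/-- Formal smoothness passes to the closed fibre, which is then a separable field extension. -/
theorem map_maximalIdeal_eq_of_isAdicFormallySmooth {A B : Type u} [CommRing A] [IsLocalRing A]
    [CommRing B] [IsLocalRing B] [IsNoetherianRing B] [Algebra A B] [IsLocalHom (algebraMap A B)]
    (hart : IsArtinianRing (B ⧸ (maximalIdeal A).map (algebraMap A B)))
    (h : CAlgX.IsAdicFormallySmooth A B (maximalIdeal B)) :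
    (maximalIdeal A).map (algebraMap A B) = maximalIdeal B ∧
      Algebra.IsGeometricallyReduced (ResidueField A) (ResidueField B) := by
  set I := (maximalIdeal A).map (algebraMap A B)
  have hI : I ≤ maximalIdeal B :=
    Ideal.map_le_iff_le_comap.mpr fun x hx => map_nonunit (algebraMap A B) x hx
  let T := B ⧸ I
  have : Nontrivial T := Ideal.Quotient.nontrivial_iff.mpr fun h0 =>
    (maximalIdeal.isMaximal B).ne_top (top_le_iff.mp (h0 ▸ hI))
  have hloc : IsLocalRing T := IsLocalRing.of_surjective' _ Ideal.Quotient.mk_surjective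
  let g : ResidueField A →+* T := Ideal.Quotient.lift _ ((Ideal.Quotient.mk I).comp (algebraMap A B))
    fun a ha => Ideal.Quotient.eq_zero_iff_mem.mpr (Ideal.mem_map_of_mem _ ha)
  let _ : Algebra (ResidueField A) T := g.toAlgebra
  have hT : CAlgX.IsAdicFormallySmooth (ResidueField A) T (maximalIdeal T) := by
    intro C _ _ J hJ ψ ⟨k, hk⟩
    let _ : Algebra A C := ((algebraMap (ResidueField A) C).comp (residue A)).toAlgebra
    let ψB : B →ₐ[A] C ⧸ J :=
      { ψ.toRingHom.comp (Ideal.Quotient.mk I) with
        commutes' := fun a => ψ.commutes (residue A a) }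
    have hm : (maximalIdeal B).map (Ideal.Quotient.mk I) ≤ maximalIdeal T := by
      refine IsLocalRing.le_maximalIdeal ?_
      intro htop
      have h1 := congrArg (Ideal.comap (Ideal.Quotient.mk I)) htop
      rw [Ideal.comap_map_of_surjective _ Ideal.Quotient.mk_surjective, ← RingHom.ker_eq_comap_bot,
        Ideal.mk_ker, sup_eq_left.mpr hI, Ideal.comap_top] at h1
      exact (maximalIdeal.isMaximal B).ne_top h1
    obtain ⟨χ, hχ⟩ := h C J hJ ψB ⟨k, fun x hx => hk _ (Ideal.pow_right_mono hm k
      (Ideal.map_pow (Ideal.Quotient.mk I) (maximalIdeal B) k ▸ Ideal.mem_map_of_mem _ hx))⟩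
    refine ⟨{ Ideal.Quotient.lift I χ.toRingHom (fun x hx => ?_) with commutes' := fun r => ?_ },
      AlgHom.ext fun y => ?_⟩
    · refine Submodule.span_induction (fun y hy => ?_) (map_zero _)
        (fun u v _ _ hu hv => by rw [map_add, hu, hv, add_zero])
        (fun r v _ hv => by rw [smul_eq_mul, map_mul, hv, mul_zero]) hx
      obtain ⟨a, ha, rfl⟩ := hy
      show χ (algebraMap A B a) = 0
      rw [χ.commutes]
      show algebraMap (ResidueField A) C (residue A a) = 0
      rw [(residue_eq_zero_iff a).mpr ha, map_zero]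
    · obtain ⟨a, rfl⟩ := residue_surjective r
      exact χ.commutes a
    · obtain ⟨b, rfl⟩ := Ideal.Quotient.mk_surjective y
      exact AlgHom.congr_fun hχ b
  obtain ⟨-, n, ⟨e⟩⟩ := Groth.Agent.S4512.result hT
  have hc : IsAdicComplete (maximalIdeal T) T := by
    obtain ⟨j, hj⟩ := IsArtinianRing.isNilpotent_jacobson_bot (R := T)
    rw [IsLocalRing.jacobson_eq_maximalIdeal ⊥ bot_ne_top] at hj
    refine { haus' := fun x hx => ?_, prec' := fun f hf => ⟨f j, fun n => ?_⟩ }
    · have h1 := hx j
      rwa [hj, Ideal.zero_eq_bot, Submodule.bot_smul, SModEq.bot] at h1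
    · rcases le_total n j with hn | hn
      · exact hf hn
      · have h1 := hf hn
        rw [hj, Ideal.zero_eq_bot, Submodule.bot_smul, SModEq.bot] at h1
        rw [h1]; exact SModEq.rfl
  let ι : T ≃+* AdicCompletion (maximalIdeal T) T :=
    (AdicCompletion.ofAlgEquiv (maximalIdeal T)).toRingEquiv
  have : IsDomain (MvPowerSeries (Fin n) (ResidueField T)) := NoZeroDivisors.to_isDomain _
  have hdom : IsDomain T :=
    MulEquiv.isDomain (MvPowerSeries (Fin n) (ResidueField T)) (ι.trans e).toMulEquiv
  have hfield : IsField T := (IsArtinianRing.isField_of_isDomain (R := T))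
  have hmax : I = maximalIdeal B :=
    IsLocalRing.eq_maximalIdeal (Ideal.Quotient.maximal_of_isField _ hfield)
  refine ⟨hmax, ?_⟩
  let _ : Field T := hfield.toField
  have hgeo : Algebra.IsGeometricallyReduced (ResidueField A) T :=
    Groth.Agent.S4513.result (K := T) hT
  let f : ResidueField B →ₐ[ResidueField A] T :=
    { (Ideal.quotEquivOfEq hmax.symm).toRingHom with
      commutes' := fun r => by
        obtain ⟨a, rfl⟩ := residue_surjective r
        rfl }
  exact Algebra.IsGeometricallyReduced.of_injective f (Ideal.quotEquivOfEq hmax.symm).injective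

end Ram24
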