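import Groth.Agent.Ram24.TotRam

/-!
# Totally ramified extensions with a nice uniformizer
-/

universe u

open IsLocalRing Polynomial

namespace Ram24

variable {A : Type u} [CommRing A] [IsDomain A] [IsDiscreteValuationRing A] {π : A}
  (hπ : maximalIdeal A = Ideal.span {π}) {q n : ℕ}

include hπ in
/-- In the ring of integers, `π` is `root ^ q` times the inverse of `1 - π ^ (n - 1) root`. -/
theorem exists_unit_tri (hq : 2 ≤ q) (hn : 1 ≤ n) :
    ∃ v : AdjoinRoot (tri π q n),
      (1 - algebraMap A _ π ^ (n - 1) * AdjoinRoot.root (tri π q n)) * v = 1 ∧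
      algebraMap A (AdjoinRoot (tri π q n)) π = AdjoinRoot.root (tri π q n) ^ q * v := by
  obtain ⟨_, _, hmax⟩ := tri_dvr hπ hq hn
  set D := AdjoinRoot (tri π q n)
  set r : D := AdjoinRoot.root _
  set P := algebraMap A D π
  have hu : IsUnit (1 - P ^ (n - 1) * r) :=
    isUnit_one_sub_self_of_mem_nonunits _
      ((mem_maximalIdeal _).mp (Ideal.mul_mem_left _ _ (hmax ▸ Ideal.mem_span_singleton_self r)))
  obtain ⟨v, hv⟩ := hu.exists_right_inv
  refine ⟨v, hv, ?_⟩
  have h : r ^ q + P ^ n * r - P = 0 := by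
    have := AdjoinRoot.eval₂_root (tri π q n)
    rw [← AdjoinRoot.algebraMap_eq, ← aeval_def, aeval_tri] at this
    exact this
  have h' : r ^ q = P * (1 - P ^ (n - 1) * r) := by
    have hn' : P ^ n = P * P ^ (n - 1) := by rw [← pow_succ', Nat.sub_add_cancel hn]
    linear_combination h - r * hn'
  rw [h', mul_assoc, hv, mul_one]

include hπ in
theorem exists_totallyRamified_nice (p : ℕ) (hp : p.Prime) (K : Type u) [Field K] [Algebra A K]
    [IsFractionRing A K] (hn : 1 < n) (k : ℕ) :
    ∃ (L : Type u) (_ : Field L) (_ : Algebra K L) (_ : Algebra A L) (_ : IsScalarTower A K L),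
      Module.finrank K L = p ^ k ∧ Algebra.IsSeparable K L ∧
      EtRam.IsTotallyRamified A (algebraMap A L) ∧
      ∃ πB b b' : L, πB ∈ integralClosure A L ∧ b ∈ integralClosure A L ∧ b' ∈ integralClosure A L ∧
        πB ^ (p ^ k) = algebraMap A L π + algebraMap A L π ^ n * b ∧
        πB ^ (p ^ k) = algebraMap A L π + πB ^ (n * p ^ k) * b' := by
  rcases k with _ | k
  · refine ⟨K, inferInstance, inferInstance, inferInstance, inferInstance, by simp,
      inferInstance, ?_, algebraMap A K π, 0, 0, Subalgebra.algebraMap_mem _ π, zero_mem _,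
      zero_mem _, by simp, by simp⟩
    have hfrac : ∀ y : K, ∃ a b : A, algebraMap A K b ≠ 0 ∧ y * algebraMap A K b = algebraMap A K a := by
      intro y
      obtain ⟨a, b, hb, rfl⟩ := IsFractionRing.div_surjective (A := A) y
      have hb0 : algebraMap A K b ≠ 0 :=
        (map_ne_zero_iff _ (IsFractionRing.injective A K)).mpr (nonZeroDivisors.ne_zero hb)
      exact ⟨a, b, hb0, div_mul_cancel₀ _ hb0⟩
    refine ⟨⟨rangeVS _ hfrac, fun a => ⟨a, rfl⟩, fun a ha => ?_⟩, fun V V' hV hV' => ?_, fun V h => ?_⟩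
    · have hmem : algebraMap A K a ∈ rangeVS _ hfrac := ⟨a, rfl⟩
      refine (ValuationSubring.valuation_lt_one_iff _ ⟨_, hmem⟩).mp ?_
      rw [mem_maximalIdeal]
      intro hu
      obtain ⟨⟨w, hw⟩, hwmul⟩ := hu.exists_right_inv
      obtain ⟨d, hd⟩ := hw
      have h1 : algebraMap A K a * w = 1 := congrArg Subtype.val hwmul
      rw [← hd, ← map_mul, ← map_one (algebraMap A K)] at h1
      exact (mem_maximalIdeal _).mp ha (IsUnit.of_mul_eq_one d (IsFractionRing.injective A K h1))
    · ext y
      rw [mem_iff_mem_range _ hfrac V hV.1 hV.2, mem_iff_mem_range _ hfrac V' hV'.1 hV'.2]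
    · intro y
      obtain ⟨y, rfl⟩ := residue_surjective (R := V) y
      obtain ⟨a, ha⟩ := (mem_iff_mem_range _ hfrac V h.1 h.2 y).mp y.2
      exact ⟨a, congrArg (residue V) (Subtype.ext ha)⟩
  have hq : 2 ≤ p ^ (k + 1) := hp.two_le.trans (Nat.le_self_pow (by omega) p)
  have hn1 : 1 ≤ n := hn.le
  set q := p ^ (k + 1) with hqdef
  set f := (tri π q n).map (algebraMap A K)
  have : Fact (Irreducible f) := ⟨irreducible_map hπ hq hn1 K⟩
  let L := AdjoinRoot f
  have hfin : Module.finrank K L = q := by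
    rw [(AdjoinRoot.powerBasis (irreducible_map hπ hq hn1 K).ne_zero).finrank,
      AdjoinRoot.powerBasis_dim, natDegree_map_eq_of_injective (IsFractionRing.injective A K),
      tri_natDegree π q n hq]
  have : IsScalarTower A K L := inferInstance
  refine ⟨L, inferInstance, inferInstance, inferInstance, inferInstance, hfin,
    isSeparable_adjoinRoot hπ hq hn1 K, IsScalarTower.algebraMap_eq A K L ▸ isTotallyRamified_adjoinRoot hπ hq hn1 K, ?_⟩
  set g : A →+* L := algebraMap A L with hg
  have hz : (tri π q n).eval₂ g (AdjoinRoot.root f) = 0 := by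
    rw [hg, IsScalarTower.algebraMap_eq A K L]; exact root_eval₂ K
  obtain ⟨_, _, -⟩ := tri_dvr hπ hq hn1
  let D := AdjoinRoot (tri π q n)
  have : Module.Finite A D := (tri_monic π q n hq).finite_adjoinRoot
  let ψ : D →+* L := rootMap g (AdjoinRoot.root f) hz
  let ψ' : D →ₐ[A] L := { ψ with commutes' := fun a => rootMap_of g _ hz a }
  have hint : ∀ d, ψ d ∈ integralClosure A L := fun d =>
    (Algebra.IsIntegral.isIntegral (R := A) d).map ψ'
  obtain ⟨v, hv, hpi⟩ := exists_unit_tri hπ hq hn1
  set r : D := AdjoinRoot.root _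
  have heq : r ^ q + algebraMap A D π ^ n * r - algebraMap A D π = 0 := by
    have := AdjoinRoot.eval₂_root (tri π q n)
    rw [← AdjoinRoot.algebraMap_eq, ← aeval_def, aeval_tri] at this
    exact this
  refine ⟨ψ r, ψ (-r), ψ (-(r * v ^ n)), hint _, hint _, hint _, ?_, ?_⟩
  · rw [← map_pow, ← rootMap_of g _ hz π, ← map_pow ψ, ← map_mul, ← map_add]
    congr 1
    linear_combination heq
  · rw [← map_pow, ← rootMap_of g _ hz π, ← map_pow ψ, ← map_mul, ← map_add]
    congr 1
    have hpn : algebraMap A D π ^ n = r ^ (n * q) * v ^ n := by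
      rw [hpi, mul_pow, ← pow_mul, Nat.mul_comm]
    linear_combination heq - r * hpn

end Ram24
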