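import Groth.Agent.Ram24.Incl

/-!
# Extending maps along purely inseparable extensions of exponent one
-/

universe u

open IsLocalRing Polynomial

namespace Ram24

/-- A field map extends to an extension of exponent one once the images of a spanning family have
`p`-th roots. -/
theorem exists_lift_pth_root {k A A' : Type u} [Field k] [Field A] [Field A'] (p : ℕ) [Fact p.Prime]
    [CharP A' p] (i : k →+* A) (j : k →+* A') (hA : ∀ x : A, x ^ p ∈ i.range) {ι : Type*} [Fintype ι]
    (r : ι → A) (hspan : ∀ x : A, ∃ l : ι → k, x = ∑ m, i (l m) * r m)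
    (hroot : ∀ m b, i b = r m ^ p → ∃ y, y ^ p = j b) :
    ∃ θ : A →+* A', (∀ b, θ (i b) = j b) ∧ ∀ x b, i b = x ^ p → θ x ^ p = j b := by
  have hp : p.Prime := Fact.out
  have : CharP k p := (RingHom.charP_iff j j.injective p).mpr inferInstance
  have : CharP A p := (RingHom.charP_iff i i.injective p).mp inferInstance
  have : ExpChar A' p := .prime hp
  have hex : ∀ x : A, ∃ y, ∀ b, i b = x ^ p → y ^ p = j b := by
    intro x
    obtain ⟨l, rfl⟩ := hspan x
    choose b hb using fun m => hA (r m)
    choose y hy using fun m => hroot m (b m) (hb m)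
    refine ⟨∑ m, j (l m) * y m, fun c hc => ?_⟩
    have h1 : (∑ m, i (l m) * r m) ^ p = i (∑ m, l m ^ p * b m) := by
      rw [sum_pow_char, map_sum]
      simp only [mul_pow, map_mul, map_pow, hb]
    rw [h1] at hc
    rw [i.injective hc, sum_pow_char, map_sum]
    simp only [mul_pow, map_mul, map_pow, hy]
  choose φ hφ using hex
  have heq : ∀ x y b, i b = x ^ p → y ^ p = j b → φ x = y := fun x y b hb hy =>
    frobenius_inj A' p (by rw [frobenius_def, frobenius_def, hφ x b hb, hy])
  refine ⟨{ toFun := φ, map_one' := ?_, map_mul' := ?_, map_zero' := ?_, map_add' := ?_ },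
    fun b => ?_, hφ⟩
  · exact heq 1 1 1 (by simp) (by simp)
  · intro x y
    obtain ⟨a, ha⟩ := hA x
    obtain ⟨b, hb⟩ := hA y
    exact heq _ _ (a * b) (by rw [map_mul, ha, hb, mul_pow])
      (by rw [mul_pow, hφ x a ha, hφ y b hb, map_mul])
  · exact heq 0 0 0 (by simp [hp.ne_zero]) (by simp [hp.ne_zero])
  · intro x y
    obtain ⟨a, ha⟩ := hA x
    obtain ⟨b, hb⟩ := hA y
    exact heq _ _ (a + b) (by rw [map_add, ha, hb, add_pow_char])
      (by rw [add_pow_char, hφ x a ha, hφ y b hb, map_add])
  · exact heq (i b) (j b) (b ^ p) (map_pow _ _ _) (map_pow _ _ _).symm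

end Ram24
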