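import Groth.Agent.Ram24.Nice
import Groth.Agent.Ram24.Nagata
import Groth.Agent.Dvr24.EF

/-!
# A purely inseparable step of degree `p` above a weakly unramified extension
-/

universe u

open IsLocalRing Polynomial TensorProduct

namespace Ram24

theorem pow_mem_range {L M : Type u} [Field L] [Field M] [Algebra L M] [IsPurelyInseparable L M]
    (p : ℕ) [Fact p.Prime] [CharP L p] (hdeg : Module.finrank L M = p) (x : M) :
    x ^ p ∈ Set.range (algebraMap L M) := by
  have hp : p.Prime := Fact.out
  have : ExpChar L p := ExpChar.prime hp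
  have : FiniteDimensional L M := FiniteDimensional.of_finrank_pos (hdeg ▸ hp.pos)
  obtain ⟨k, y, hy⟩ := (isPurelyInseparable_iff_minpoly_eq_X_pow_sub_C L p).mp inferInstance x
  have hdvd := minpoly.degree_dvd (K := L) (Algebra.IsIntegral.isIntegral x)
  rw [hy, natDegree_X_pow_sub_C, hdeg] at hdvd
  have h0 := minpoly.aeval L x
  rw [hy, map_sub, map_pow, aeval_X, aeval_C, sub_eq_zero] at h0
  rcases k with _ | _ | k
  · exact ⟨y ^ p, by rw [map_pow, ← h0, pow_zero, pow_one]⟩
  · exact ⟨y, by rw [← h0, pow_one]⟩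
  · have h2 : p ^ 2 ∣ p ^ 1 := by
      rw [pow_one]
      exact (pow_dvd_pow p (by omega)).trans hdvd
    have := (Nat.pow_dvd_pow_iff_le_right hp.one_lt).mp h2
    omega

section Integers

variable {B C L M : Type u} [CommRing B] [IsDomain B] [IsDiscreteValuationRing B]
  [CommRing C] [IsDomain C] [IsDiscreteValuationRing C] [Algebra B C] [IsLocalHom (algebraMap B C)]
  [Field L] [Field M] [Algebra B L] [IsFractionRing B L] [Algebra C M] [IsFractionRing C M]
  [Algebra L M] [Algebra B M] [IsScalarTower B L M] [IsScalarTower B C M]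
  (p : ℕ) [Fact p.Prime] [CharP L p] [IsPurelyInseparable L M] (hdeg : Module.finrank L M = p)

omit [Fact p.Prime] [CharP L p] [IsPurelyInseparable L M] in
/-- `C ∩ L = B`. -/
theorem mem_range_of_algebraMap_mem (l : L) (hl : algebraMap L M l ∈ Set.range (algebraMap C M)) :
    l ∈ Set.range (algebraMap B L) := by
  rcases ValuationRing.isInteger_or_isInteger B l with ⟨b, hb⟩ | ⟨b, hb⟩
  · exact ⟨b, hb⟩
  · by_cases hl0 : l = 0
    · exact ⟨0, by rw [map_zero, hl0]⟩
    obtain ⟨c, hc⟩ := hl
    have h1 : algebraMap C M (c * algebraMap B C b) = 1 := by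
      rw [map_mul, hc, ← IsScalarTower.algebraMap_apply B C M, IsScalarTower.algebraMap_apply B L M,
        hb, ← map_mul, mul_inv_cancel₀ hl0, map_one]
    have hu : IsUnit b :=
      (IsUnit.of_mul_eq_one_right _ (IsFractionRing.injective C M (h1.trans (map_one _).symm))).of_map
    refine ⟨(hu.unit⁻¹ : Bˣ), ?_⟩
    have h2 : algebraMap B L b * algebraMap B L (hu.unit⁻¹ : Bˣ) = 1 := by
      rw [← map_mul, IsUnit.mul_val_inv, map_one]
    rw [hb] at h2
    exact (inv_eq_of_mul_eq_one_right h2).symm.trans (inv_inv l)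

include hdeg in
theorem mem_range_iff_pow (x : M) :
    x ∈ Set.range (algebraMap C M) ↔ x ^ p ∈ Set.range (algebraMap B M) := by
  have hp : p.Prime := Fact.out
  constructor
  · rintro ⟨c, rfl⟩
    obtain ⟨l, hl⟩ := pow_mem_range p hdeg (algebraMap C M c)
    obtain ⟨b, rfl⟩ := mem_range_of_algebraMap_mem (B := B) (C := C) (M := M) l
      ⟨c ^ p, by rw [map_pow, hl]⟩
    exact ⟨b, by rw [IsScalarTower.algebraMap_apply B L M, hl]⟩
  · rintro ⟨b, hb⟩
    rcases ValuationRing.isInteger_or_isInteger C x with ⟨c, hc⟩ | ⟨c, hc⟩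
    · exact ⟨c, hc⟩
    · by_cases hx : x = 0
      · exact ⟨0, by rw [map_zero, hx]⟩
      have h1 : algebraMap C M (c ^ p * algebraMap B C b) = 1 := by
        rw [map_mul, map_pow, hc, ← IsScalarTower.algebraMap_apply, hb, inv_pow,
          inv_mul_cancel₀ (pow_ne_zero _ hx)]
      have hu : IsUnit c := (isUnit_pow_iff hp.ne_zero).mp
        (IsUnit.of_mul_eq_one _ (IsFractionRing.injective C M (h1.trans (map_one _).symm)))
      refine ⟨(hu.unit⁻¹ : Cˣ), ?_⟩
      have h2 : algebraMap C M c * algebraMap C M (hu.unit⁻¹ : Cˣ) = 1 := by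
        rw [← map_mul, IsUnit.mul_val_inv, map_one]
      rw [hc] at h2
      exact (inv_eq_of_mul_eq_one_right h2).symm.trans (inv_inv x)

include hdeg in
theorem isIntegral_C (c : C) : IsIntegral B (algebraMap C M c) := by
  obtain ⟨b, hb⟩ := (mem_range_iff_pow (B := B) p hdeg (algebraMap C M c)).mp ⟨c, rfl⟩
  exact IsIntegral.of_pow (Fact.out (p := p.Prime)).pos (hb ▸ isIntegral_algebraMap)

include hdeg in
theorem finite_C (hB : CAlg.IsNagata B) : Module.Finite B C := by
  have hp : p.Prime := Fact.out
  have : FiniteDimensional L M := FiniteDimensional.of_finrank_pos (hdeg ▸ hp.pos)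
  have := finite_integralClosure_of_isNagata B L M hB
  have : IsNoetherianRing B := hB.1
  let f : C →ₗ[B] integralClosure B M :=
    { toFun := fun c => ⟨algebraMap C M c, isIntegral_C p hdeg c⟩
      map_add' := fun _ _ => Subtype.ext (map_add _ _ _)
      map_smul' := fun b c => Subtype.ext (by
        show algebraMap C M (b • c) = b • algebraMap C M c
        rw [Algebra.smul_def, Algebra.smul_def, map_mul, ← IsScalarTower.algebraMap_apply]) }
  exact Module.Finite.of_injective f fun x y h =>
    IsFractionRing.injective C M (congrArg Subtype.val h :)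

include hdeg in
/-- The ramification is trivial or total. -/
theorem dichotomy {π : B} (hπ : maximalIdeal B = Ideal.span {π})
    (hinj : Function.Injective (algebraMap B C)) {c : C} (hc : maximalIdeal C = Ideal.span {c}) :
    (maximalIdeal B).map (algebraMap B C) = maximalIdeal C ∨
      (Ideal.ramificationIdx' (maximalIdeal B) (maximalIdeal C) = p ∧
        ∃ u : Bˣ, c ^ p = algebraMap B C (u * π)) := by
  have hp : p.Prime := Fact.out
  have hπi := (IsDiscreteValuationRing.irreducible_iff_uniformizer π).mpr hπ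
  have hci := (IsDiscreteValuationRing.irreducible_iff_uniformizer c).mpr hc
  obtain ⟨e, he0, he, hram⟩ := Dvr24.exists_map_maximalIdeal_eq hinj hci
  obtain ⟨b, hb⟩ := (mem_range_iff_pow (B := B) p hdeg (algebraMap C M c)).mp ⟨c, rfl⟩
  have hb' : algebraMap B C b = c ^ p :=
    IsFractionRing.injective C M (by rw [← IsScalarTower.algebraMap_apply, hb, map_pow])
  have hb0 : b ≠ 0 := fun h => pow_ne_zero p hci.ne_zero (by rw [← hb', h, map_zero])
  obtain ⟨j, u, rfl⟩ := IsDiscreteValuationRing.eq_unit_mul_pow_irreducible hb0 hπi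
  have he' := he
  rw [hπ, Ideal.map_span, Set.image_singleton] at he'
  obtain ⟨w, hw⟩ := (Ideal.span_singleton_eq_span_singleton.mp he').symm
  have hpj : p = e * j := by
    rw [map_mul, map_pow, ← hw, mul_pow, ← pow_mul] at hb'
    refine IsDiscreteValuationRing.unit_mul_pow_congr_pow hci hci 1
      (Units.map (algebraMap B C).toMonoidHom u * w ^ j) _ _ ?_
    rw [Units.val_one, one_mul, ← hb', Units.val_mul, Units.val_pow_eq_pow_val, Units.coe_map,
      RingHom.toMonoidHom_eq_coe, MonoidHom.coe_coe]
    ring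
  rcases (Nat.dvd_prime hp).mp (Dvd.intro j hpj.symm) with rfl | rfl
  · exact Or.inl (by rw [he, pow_one, ← hc])
  · have hj : j = 1 := by
      have := (Nat.mul_eq_left hp.ne_zero).mp hpj.symm
      exact this
    exact Or.inr ⟨hram, u, by rw [← hb', hj, pow_one]⟩

include hdeg in
/-- In the totally ramified case, a `p`-th root of the uniformizer generates. -/
theorem adjoin_eq_top (hB : CAlg.IsNagata B) {π : B} (hπ : maximalIdeal B = Ideal.span {π})
    (hinj : Function.Injective (algebraMap B C))
    (hram : Ideal.ramificationIdx' (maximalIdeal B) (maximalIdeal C) = p)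
    {c' : C} (hc' : c' ^ p = algebraMap B C π) :
    Algebra.adjoin B ({c'} : Set C) = ⊤ := by
  have hp : p.Prime := Fact.out
  have : FiniteDimensional L M := FiniteDimensional.of_finrank_pos (hdeg ▸ hp.pos)
  have := finite_C (C := C) p hdeg hB
  obtain ⟨hfin, hle⟩ := Dvr24.finite_and_mul_le (A := B) (B := C) (K := L) (L := M) hinj
  rw [hram, hdeg] at hle
  have hone : Module.finrank (ResidueField B) (ResidueField C) = 1 :=
    le_antisymm (Nat.le_of_mul_le_mul_left (by rwa [mul_one]) hp.pos) Module.finrank_pos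
  have hressurj : Function.Surjective (algebraMap (ResidueField B) (ResidueField C)) := by
    intro y
    have : y ∈ (⊥ : Subalgebra (ResidueField B) (ResidueField C)) := by
      rw [Subalgebra.bot_eq_top_of_finrank_eq_one hone]; trivial
    exact Algebra.mem_bot.mp this
  have hc : maximalIdeal C = Ideal.span {c'} := by
    obtain ⟨ϖ, hϖ⟩ := IsDiscreteValuationRing.exists_irreducible C
    obtain ⟨e, -, he, hr⟩ := Dvr24.exists_map_maximalIdeal_eq hinj hϖ
    rw [hram] at hr
    subst hr
    rw [hπ, Ideal.map_span, Set.image_singleton, ← hc', ← Ideal.span_singleton_pow,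
      ← Ideal.span_singleton_pow] at he
    have hne : c' ≠ 0 := fun h => by
      rw [h, zero_pow hp.ne_zero] at hc'
      exact ((IsDiscreteValuationRing.irreducible_iff_uniformizer π).mpr hπ).ne_zero
        (hinj (hc'.symm.trans (map_zero _).symm))
    obtain ⟨j, hj⟩ := IsDiscreteValuationRing.associated_pow_irreducible hne hϖ
    rw [Ideal.span_singleton_pow, Ideal.span_singleton_pow,
      Ideal.span_singleton_eq_span_singleton] at he
    have h1 := (hj.pow_pow (n := p)).symm.trans he
    rw [← pow_mul] at h1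
    obtain ⟨w, hw⟩ := h1
    have h2 : j * p = p := IsDiscreteValuationRing.unit_mul_pow_congr_pow hϖ hϖ w 1 _ _
      (by rw [mul_comm, hw, Units.val_one, one_mul])
    rw [(Nat.mul_eq_right hp.ne_zero).mp h2, pow_one] at hj
    rw [(IsDiscreteValuationRing.irreducible_iff_uniformizer ϖ).mp hϖ]
    exact Ideal.span_singleton_eq_span_singleton.mpr hj.symm
  set S := Algebra.adjoin B ({c'} : Set C) with hS
  have hcS : c' ∈ S := Algebra.self_mem_adjoin_singleton B c'
  have key : ∀ i : ℕ, ∀ x : C, ∃ s ∈ S, ∃ y, x = s + c' ^ i * y := by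
    intro i
    induction i with
    | zero => exact fun x => ⟨0, zero_mem S, x, by simp⟩
    | succ i ih =>
      intro x
      obtain ⟨s, hs, y, rfl⟩ := ih x
      obtain ⟨r, hr⟩ := hressurj (residue C y)
      obtain ⟨b, rfl⟩ := residue_surjective r
      have hy : y - algebraMap B C b ∈ maximalIdeal C := by
        rw [← residue_eq_zero_iff, map_sub, ← hr, sub_eq_zero]; rfl
      rw [hc, Ideal.mem_span_singleton] at hy
      obtain ⟨z, hz⟩ := hy
      exact ⟨s + c' ^ i * algebraMap B C b,
        add_mem hs (mul_mem (pow_mem hcS i) (S.algebraMap_mem b)), z,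
        by linear_combination (c' ^ i) * hz⟩
  refine Algebra.toSubmodule_eq_top.mp (top_le_iff.mp
    (Submodule.le_of_le_smul_of_le_jacobson_bot (Module.Finite.fg_top)
      (IsLocalRing.maximalIdeal_le_jacobson _) fun x _ => ?_))
  obtain ⟨s, hs, y, rfl⟩ := key p x
  refine Submodule.add_mem_sup hs ?_
  rw [hc', ← Algebra.smul_def]
  exact Submodule.smul_mem_smul (hπ ▸ Ideal.mem_span_singleton_self π) Submodule.mem_top

include hdeg in
/-- If `π` is not a `p`-th power, it cannot be approximated by `p`-th powers indefinitely. -/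
theorem exists_not_approx (hB : CAlg.IsNagata B) {π : B} (hπ : maximalIdeal B = Ideal.span {π})
    (hnp : ∀ y : M, y ^ p ≠ algebraMap B M π) :
    ∃ k, ¬ ∃ (y : M) (t : B), y ^ p = algebraMap B M (π - π ^ k * t) := by
  by_contra hcon
  push Not at hcon
  have hp : p.Prime := Fact.out
  have : FiniteDimensional L M := FiniteDimensional.of_finrank_pos (hdeg ▸ hp.pos)
  have hπi := (IsDiscreteValuationRing.irreducible_iff_uniformizer π).mpr hπ
  have hirr := X_pow_sub_C_irreducible_of_prime hp hnp
  have := Fact.mk hirr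
  let M' := AdjoinRoot (X ^ p - C (algebraMap B M π))
  have hne : (X ^ p - C (algebraMap B M π)) ≠ 0 := hirr.ne_zero
  have : Module.Finite M M' := (AdjoinRoot.powerBasis hne).finite
  have : FiniteDimensional L M' := Module.Finite.trans M M'
  have : IsScalarTower B L M' := .of_algebraMap_eq fun b => by
    rw [IsScalarTower.algebraMap_apply B M M', IsScalarTower.algebraMap_apply L M M']
    exact congrArg _ (IsScalarTower.algebraMap_apply B L M b)
  have : Module.Finite B (integralClosure B M') := finite_integralClosure_of_isNagata B L M' hB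
  have : CharP M p := charP_of_injective_algebraMap (algebraMap L M).injective p
  have : CharP M' p := charP_of_injective_algebraMap (algebraMap M M').injective p
  have : IsNoetherianRing B := hB.1
  let d : M' := AdjoinRoot.root _
  have hd : d ^ p = algebraMap B M' π := by
    have h := AdjoinRoot.eval₂_root (X ^ p - C (algebraMap B M π))
    rw [eval₂_sub, eval₂_X_pow, eval₂_C, sub_eq_zero] at h
    rw [IsScalarTower.algebraMap_apply B M M']
    exact h
  have hdint : IsIntegral B d := IsIntegral.of_pow hp.pos (hd ▸ isIntegral_algebraMap)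
  let S : Submodule B (integralClosure B M') :=
    { carrier := {e | (e : M') ∈ Set.range (algebraMap M M')}
      add_mem' := fun {a b} ⟨x, hx⟩ ⟨y, hy⟩ => ⟨x + y, by rw [map_add, hx, hy]; rfl⟩
      zero_mem' := ⟨0, map_zero _⟩
      smul_mem' := fun b e ⟨x, hx⟩ => ⟨b • x, by
        show _ = b • (e : M')
        rw [Algebra.smul_def, Algebra.smul_def, map_mul, hx, ← IsScalarTower.algebraMap_apply]⟩ }
  have hall : ∀ k : ℕ, (Submodule.Quotient.mk ⟨d, hdint⟩ : _ ⧸ S) ∈
      (maximalIdeal B) ^ k • (⊤ : Submodule B (_ ⧸ S)) := by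
    intro k
    obtain ⟨y, t, hyt⟩ := hcon (p * k)
    have hP : algebraMap B M' π ≠ 0 := by
      rw [IsScalarTower.algebraMap_apply B L M']
      exact fun h => hπi.ne_zero (IsFractionRing.injective B L
        ((algebraMap L M').injective (h.trans (map_zero _).symm) |>.trans (map_zero _).symm))
    let e : M' := (d - algebraMap M M' y) / algebraMap B M' π ^ k
    have he : e ^ p = algebraMap B M' t := by
      rw [div_pow, sub_pow_char, hd, ← map_pow, hyt, ← IsScalarTower.algebraMap_apply,
        div_eq_iff (pow_ne_zero _ (pow_ne_zero _ hP)), ← pow_mul, map_sub, map_mul, map_pow,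
        Nat.mul_comm k p]
      ring
    have heint : IsIntegral B e := IsIntegral.of_pow hp.pos (he ▸ isIntegral_algebraMap)
    have hyint : IsIntegral B (algebraMap M M' y) :=
      IsIntegral.of_pow hp.pos (by
        rw [← map_pow, hyt, ← IsScalarTower.algebraMap_apply]; exact isIntegral_algebraMap)
    have hde : (⟨d, hdint⟩ : integralClosure B M') = ⟨_, hyint⟩ + π ^ k • ⟨e, heint⟩ := by
      refine Subtype.ext ?_
      show d = algebraMap M M' y + π ^ k • e
      rw [Algebra.smul_def, map_pow, mul_div_cancel₀ _ (pow_ne_zero _ hP), add_sub_cancel]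
    rw [hde, Submodule.Quotient.mk_add,
      (Submodule.Quotient.mk_eq_zero S).mpr (show (⟨_, hyint⟩ : integralClosure B M') ∈ S from ⟨y, rfl⟩),
      zero_add, Submodule.Quotient.mk_smul]
    exact Submodule.smul_mem_smul
      (Ideal.pow_mem_pow (hπ ▸ Ideal.mem_span_singleton_self π) k) Submodule.mem_top
  have h0 := Ideal.iInf_pow_smul_eq_bot_of_isLocalRing (M := _ ⧸ S) (maximalIdeal B)
    (maximalIdeal.isMaximal B).ne_top
  have hmem : (Submodule.Quotient.mk ⟨d, hdint⟩ : _ ⧸ S) = 0 := by
    rw [← Submodule.mem_bot B, ← h0, Submodule.mem_iInf]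
    exact hall
  obtain ⟨y, hy⟩ := (Submodule.Quotient.mk_eq_zero S).mp hmem
  refine hnp y ((algebraMap M M').injective ?_)
  rw [map_pow, show algebraMap M M' y = d from hy, hd, ← IsScalarTower.algebraMap_apply]

end Integers

end Ram24
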