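import Groth.Agent.Ram24.SepStep
import Groth.Agent.Sep12.Basic

/-!
# A separable solution from any solution
-/

universe u

open IsLocalRing

namespace Ram24

variable {A B K L : Type u} [CommRing A] [IsDomain A] [IsDiscreteValuationRing A]
  [CommRing B] [IsDomain B] [IsDiscreteValuationRing B] [Algebra A B] [IsLocalHom (algebraMap A B)]
  [Field K] [Field L] [Algebra A K] [IsFractionRing A K] [Algebra B L] [IsFractionRing B L]
  [Algebra K L] [Algebra A L] [IsScalarTower A K L] [IsScalarTower A B L]
  [Algebra.IsGeometricallyReduced K L]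

variable (A) in
include A in
theorem exists_separable_solution_of_solution (hB : CAlg.IsNagata B) (E : Type u) [Field E]
    [Algebra K E] [FiniteDimensional K E] (hsol : EtRam.IsSolution B K L E) :
    ∃ (K₃ : Type u) (_ : Field K₃) (_ : Algebra K K₃) (_ : FiniteDimensional K K₃)
      (_ : Algebra.IsSeparable K K₃), EtRam.IsSolution B K L K₃ := by
  induction hn : Field.finInsepDegree K E using Nat.strong_induction_on generalizing E with
  | _ n ih =>
    by_cases hsep : Algebra.IsSeparable K E
    · exact ⟨E, inferInstance, inferInstance, inferInstance, hsep, hsol⟩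
    rcases CharP.exists' K with hK | ⟨p, hp, hpK⟩
    · exact absurd (inferInstance : Algebra.IsSeparable K E) hsep
    set S := separableClosure K E
    have hS : S ≠ ⊤ := fun h => hsep ((separableClosure.eq_top_iff (F := K) (E := E)).mp h)
    have : IsPurelyInseparable S E := separableClosure.isPurelyInseparable K E
    obtain ⟨K₁, hK₁, hmax⟩ := exists_maximal_proper (K := S) (E := E) (fun h => hS (by
      rw [eq_top_iff]
      intro x _
      obtain ⟨s, hs⟩ := IntermediateField.mem_bot.mp (h.symm ▸ IntermediateField.mem_top (x := x))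
      exact hs ▸ s.2))
    have : CharP S p := charP_of_injective_algebraMap (algebraMap K S).injective p
    have : CharP K₁ p := charP_of_injective_algebraMap (algebraMap S K₁).injective p
    have : ExpChar K₁ p := .prime hp.out
    have : IsPurelyInseparable K₁ E := IsPurelyInseparable.tower_top S K₁ E
    have : IsScalarTower K K₁ E := .of_algebraMap_eq fun _ => rfl
    have : FiniteDimensional K K₁ := Module.Finite.trans S K₁
    have hdeg : Module.finrank K₁ E = p := finrank_eq_prime_of_maximal p hK₁ hmax
    obtain ⟨K₃, _, _, _, _, hfin, hsep₃, hsol₃⟩ :=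
      exists_separable_solution (K₁ := K₁) p hdeg A hB hsol
    have : FiniteDimensional K K₃ := Module.Finite.trans K₁ K₃
    refine ih _ ?_ K₃ hsol₃ rfl
    rw [← hn, ← Field.finInsepDegree_mul_finInsepDegree_of_isAlgebraic K K₁ K₃,
      ← Field.finInsepDegree_mul_finInsepDegree_of_isAlgebraic K K₁ E,
      IsPurelyInseparable.finInsepDegree_eq K₁ E, hdeg, Algebra.IsSeparable.finInsepDegree_eq K₁ K₃,
      mul_one]
    exact lt_mul_of_one_lt_right Module.finrank_pos hp.out.one_lt
where
  exists_maximal_proper {K E : Type u} [Field K] [Field E] [Algebra K E] [FiniteDimensional K E]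
      (h : (⊥ : IntermediateField K E) ≠ ⊤) :
      ∃ F : IntermediateField K E, F ≠ ⊤ ∧ ∀ G, F < G → G = ⊤ := by
    have : WellFoundedGT (IntermediateField K E) :=
      StrictMono.wellFoundedGT (f := fun F : IntermediateField K E =>
        Subalgebra.toSubmodule F.toSubalgebra) fun F G h => h
    obtain ⟨F, hF, hmax⟩ := (wellFounded_gt (α := IntermediateField K E)).has_min
      {F | F ≠ ⊤} ⟨⊥, h⟩
    exact ⟨F, hF, fun G hG => not_not.mp fun hne => hmax G hne hG⟩
  finrank_eq_prime_of_maximal {K E : Type u} [Field K] [Field E] [Algebra K E]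
      (p : ℕ) [Fact p.Prime] {F : IntermediateField K E} [CharP F p] [IsPurelyInseparable F E]
      (hF : F ≠ ⊤) (hmax : ∀ G, F < G → G = ⊤) : Module.finrank F E = p := by
    have hp : p.Prime := Fact.out
    have : ExpChar F p := .prime hp
    obtain ⟨x, hx⟩ : ∃ x, x ∉ F := by
      by_contra hcon
      push Not at hcon
      exact hF (eq_top_iff.mpr fun x _ => hcon x)
    have hex : ∃ k, x ^ p ^ k ∈ F := by
      obtain ⟨k, y, hy⟩ := IsPurelyInseparable.pow_mem F p x
      exact ⟨k, hy ▸ y.2⟩
    classical
    obtain ⟨j, hj⟩ : ∃ j, Nat.find hex = j + 1 :=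
      ⟨Nat.find hex - 1, by
        have : Nat.find hex ≠ 0 := fun h0 => hx (by simpa [h0] using Nat.find_spec hex)
        omega⟩
    set c := x ^ p ^ j with hc
    have hcF : c ∉ F := Nat.find_min hex (by omega)
    have hcp : c ^ p ∈ F := by rw [hc, ← pow_mul, ← pow_succ, ← hj]; exact Nat.find_spec hex
    have htop : IntermediateField.adjoin F ({c} : Set E) = ⊤ := by
      have hlt : F < (IntermediateField.adjoin F ({c} : Set E)).restrictScalars K := by
        refine lt_of_le_of_ne (fun y hy =>
          (IntermediateField.adjoin F ({c} : Set E)).algebraMap_mem ⟨y, hy⟩) fun h => hcF ?_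
        rw [h]
        exact IntermediateField.mem_adjoin_simple_self F c
      exact IntermediateField.restrictScalars_eq_top_iff.mp (hmax _ hlt)
    have hirr : Irreducible (Polynomial.X ^ p - Polynomial.C (⟨c ^ p, hcp⟩ : F)) := by
      refine X_pow_sub_C_irreducible_of_prime hp fun y hy => hcF ?_
      have h1 : (y : E) ^ p = c ^ p := congrArg Subtype.val hy
      have : CharP E p := charP_of_injective_algebraMap (algebraMap F E).injective p
      rw [← frobenius_inj E p h1]
      exact y.2
    have hmin : minpoly F c = Polynomial.X ^ p - Polynomial.C (⟨c ^ p, hcp⟩ : F) :=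
      (minpoly.eq_of_irreducible_of_monic hirr (by simp)
        (Polynomial.monic_X_pow_sub_C _ hp.ne_zero)).symm
    have hint : IsIntegral F c := Algebra.IsIntegral.isIntegral c
    rw [← IntermediateField.finrank_top', ← htop, IntermediateField.adjoin.finrank hint, hmin,
      Polynomial.natDegree_X_pow_sub_C]

end Ram24
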