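import Groth.Agent.Ram24.ApproxCore
import Groth.Agent.Ram24.LocalFinite

/-!
# Globalising the approximation of a purely inseparable step
-/

universe u

open IsLocalRing Polynomial TensorProduct

namespace Ram24

theorem dominates_trans {A B F : Type u} [CommRing A] [IsLocalRing A] [CommRing B] [IsLocalRing B]
    [Algebra A B] [IsLocalHom (algebraMap A B)] [Field F] {g : B →+* F} {V : ValuationSubring F}
    (h : EtRam.Dominates B g V) : EtRam.Dominates A (g.comp (algebraMap A B)) V :=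
  ⟨fun a => h.1 _, fun a ha => h.2 _ (map_nonunit (algebraMap A B) a ha)⟩

theorem dominates_iff {A F G : Type u} [CommRing A] [IsLocalRing A] [Field F] [Field G] [Algebra F G]
    (g : A →+* F) (V : ValuationSubring F) (W : ValuationSubring G)
    (hc : ∀ x, algebraMap F G x ∈ W ↔ x ∈ V) :
    EtRam.Dominates A ((algebraMap F G).comp g) W ↔ EtRam.Dominates A g V := by
  have key : ∀ x : V, W.valuation (algebraMap F G x) < 1 ↔ V.valuation (x : F) < 1 := fun x => by
    rw [← ValuationSubring.valuation_lt_one_iff V x, mem_maximalIdeal, mem_nonunits_iff,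
      ← isUnit_map_iff (inclOf V W hc), ← mem_nonunits_iff, ← mem_maximalIdeal,
      ValuationSubring.valuation_lt_one_iff W]
    rfl
  refine ⟨fun h => ?_, fun h => ?_⟩
  · have hmem : ∀ a, g a ∈ V := fun a => (hc _).mp (h.1 a)
    exact ⟨hmem, fun a ha => (key ⟨_, hmem a⟩).mp (h.2 a ha)⟩
  · exact ⟨fun a => (hc _).mpr (h.1 a), fun a ha => (key ⟨_, h.1 a⟩).mpr (h.2 a ha)⟩

theorem exists_frobDown {M₁ M₂ : Type u} [Field M₁] [Field M₂] [Algebra M₁ M₂] (p : ℕ) [Fact p.Prime]
    [CharP M₂ p] (hpow : ∀ x : M₂, x ^ p ∈ Set.range (algebraMap M₁ M₂)) :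
    ∃ φ : M₂ →+* M₁, ∀ x, algebraMap M₁ M₂ (φ x) = x ^ p := by
  have hinj : Function.Injective (algebraMap M₁ M₂).rangeRestrict := fun x y h =>
    (algebraMap M₁ M₂).injective (by simpa using congrArg Subtype.val h)
  let e := RingEquiv.ofBijective (algebraMap M₁ M₂).rangeRestrict
    ⟨hinj, (algebraMap M₁ M₂).rangeRestrict_surjective⟩
  refine ⟨e.symm.toRingHom.comp ((frobenius M₂ p).codRestrict (algebraMap M₁ M₂).range
    fun x => hpow x), fun x => ?_⟩
  exact congrArg Subtype.val (e.apply_symm_apply ⟨frobenius M₂ p x, hpow x⟩)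

theorem finrank_adjoinRoot_le {F : Type u} [Field F] {f : F[X]} (hf : f ≠ 0) :
    FiniteDimensional F (AdjoinRoot f) ∧ Module.finrank F (AdjoinRoot f) = f.natDegree :=
  ⟨(AdjoinRoot.powerBasis hf).finite,
    (AdjoinRoot.powerBasis hf).finrank.trans (AdjoinRoot.powerBasis_dim hf)⟩

/-- A separable polynomial of positive degree gives a separable extension of smaller degree with a
root. -/
theorem exists_separable_root_field {F : Type u} [Field F] {f : F[X]} (hm : f.Monic)
    (hd : f.natDegree ≠ 0) (hs : f.Separable) :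
    ∃ (E : Type u) (_ : Field E) (_ : Algebra F E) (z : E), FiniteDimensional F E ∧
      Algebra.IsSeparable F E ∧ aeval z f = 0 ∧ Module.finrank F E ≤ f.natDegree ∧
      Algebra.adjoin F {z} = ⊤ := by
  have hu : ¬ IsUnit f := fun h => hd (natDegree_eq_zero_of_isUnit h)
  obtain ⟨g, hg, hgf⟩ := WfDvdMonoid.exists_irreducible_factor hu hm.ne_zero
  have := Fact.mk hg
  obtain ⟨hfin, hdim⟩ := finrank_adjoinRoot_le hg.ne_zero
  have hz : aeval (AdjoinRoot.root g) f = 0 := by
    obtain ⟨q, rfl⟩ := hgf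
    rw [map_mul, AdjoinRoot.aeval_eq, AdjoinRoot.mk_self, zero_mul]
  refine ⟨AdjoinRoot g, inferInstance, inferInstance, AdjoinRoot.root g, hfin, ⟨fun x => ?_⟩, hz,
    hdim.trans_le (natDegree_le_of_dvd hgf hm.ne_zero), AdjoinRoot.adjoinRoot_eq_top⟩
  rw [← mem_separableClosure_iff]
  have hx : x ∈ Algebra.adjoin F ({AdjoinRoot.root g} : Set (AdjoinRoot g)) := by
    rw [AdjoinRoot.adjoinRoot_eq_top]; trivial
  have hle : Algebra.adjoin F ({AdjoinRoot.root g} : Set (AdjoinRoot g)) ≤
      (separableClosure F (AdjoinRoot g)).toSubalgebra :=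
    Algebra.adjoin_le (Set.singleton_subset_iff.mpr
      (mem_separableClosure_iff.mpr (hs.of_dvd (minpoly.dvd F _ hz))))
  exact hle hx

/-- A field generated by one element annihilated by a polynomial of degree at most `p`. -/
theorem finrank_le_of_adjoin_eq_top {F E : Type u} [Field F] [Field E] [Algebra F E] {z : E}
    {f : F[X]} (hf : f ≠ 0) (hz : aeval z f = 0) (hgen : Algebra.adjoin F {z} = ⊤) :
    FiniteDimensional F E ∧ Module.finrank F E ≤ f.natDegree := by
  obtain ⟨hfin, hdim⟩ := finrank_adjoinRoot_le hf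
  let φ : AdjoinRoot f →ₐ[F] E := AdjoinRoot.liftAlgHom f (Algebra.ofId F E) z hz
  have hsurj : Function.Surjective φ := by
    rw [← AlgHom.range_eq_top, ← top_le_iff, ← hgen]
    refine Algebra.adjoin_le (Set.singleton_subset_iff.mpr ⟨AdjoinRoot.root f, ?_⟩)
    exact AdjoinRoot.lift_root hz
  exact ⟨Module.Finite.of_surjective φ.toLinearMap hsurj,
    hdim ▸ φ.toLinearMap.finrank_le_finrank_of_surjective hsurj⟩

variable {K L K₁ K₂ : Type u} [Field K] [Field L] [Field K₁] [Field K₂] [Algebra K L] [Algebra K K₁]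
  [Algebra K K₂] [Algebra K₁ K₂] [IsScalarTower K K₁ K₂] [Algebra.IsGeometricallyReduced K L]
  [FiniteDimensional K K₁] [FiniteDimensional K₁ K₂] (p : ℕ) [Fact p.Prime] [CharP K p]

/-- The generator of a purely inseparable step stays outside the `p`-th powers in every factor of
`L ⊗ K₁`. -/
theorem not_pth_power {c : K₂} {a : K₁} (ha : algebraMap K₁ K₂ a = c ^ p)
    (hc : ∀ y, algebraMap K₁ K₂ y ≠ c) (m : Ideal (L ⊗[K] K₁)) [m.IsMaximal] (y : L ⊗[K] K₁) :
    y ^ p - Algebra.TensorProduct.includeRight a ∉ m := by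
  have hp : p.Prime := Fact.out
  have : FiniteDimensional K K₂ := Module.Finite.trans K₁ K₂
  have hred₁ : IsReduced (L ⊗[K] K₁) :=
    isReduced_of_injective _ (Algebra.TensorProduct.comm K L K₁).injective
  have hred₂ : IsReduced (L ⊗[K] K₂) :=
    isReduced_of_injective _ (Algebra.TensorProduct.comm K L K₂).injective
  have : IsArtinianRing (L ⊗[K] K₁) := IsArtinianRing.of_finite L _
  intro hy
  classical
  let T := L ⊗[K] K₁
  let e := IsArtinianRing.equivPi T
  let m' : MaximalSpectrum T := ⟨m, inferInstance⟩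
  let x : T := e.symm (Pi.single m' 1)
  have hx : x ∉ m := by
    intro hxm
    have h1 : e x m' = 1 := by rw [AlgEquiv.apply_symm_apply, Pi.single_eq_same]
    rw [IsArtinianRing.equivPi_apply, show Ideal.Quotient.mk m'.asIdeal x = 0 from
      Ideal.Quotient.eq_zero_iff_mem.mpr hxm] at h1
    exact zero_ne_one h1
  have hxy : x * (y ^ p - Algebra.TensorProduct.includeRight a) = 0 := by
    refine e.injective (funext fun i => ?_)
    rw [map_mul, map_zero, Pi.mul_apply, AlgEquiv.apply_symm_apply, Pi.zero_apply]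
    by_cases hi : i = m'
    · rw [hi]
      rw [IsArtinianRing.equivPi_apply, show Ideal.Quotient.mk m'.asIdeal
        (y ^ p - Algebra.TensorProduct.includeRight a) = 0 from
        Ideal.Quotient.eq_zero_iff_mem.mpr hy, mul_zero]
    · rw [Pi.single_eq_of_ne hi, zero_mul]
  let j : T →ₐ[K] L ⊗[K] K₂ :=
    Algebra.TensorProduct.map (AlgHom.id K L) (IsScalarTower.toAlgHom K K₁ K₂)
  let C : L ⊗[K] K₂ := Algebra.TensorProduct.includeRight c
  have : CharP L p := charP_of_injective_algebraMap (algebraMap K L).injective p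
  have : Nontrivial (L ⊗[K] K₂) :=
    (Algebra.TensorProduct.includeRight_injective (A := L) (B := K₂) (algebraMap K L).injective).nontrivial
  have : CharP (L ⊗[K] K₂) p := charP_of_injective_algebraMap (algebraMap K _).injective p
  have hnil : (j x * (j y - C)) ^ p = 0 := by
    have hCp : C ^ p = j (Algebra.TensorProduct.includeRight a) := by
      rw [← map_pow, ← ha]
      rfl
    have h1 := congrArg j hxy
    rw [map_mul, map_sub, map_pow, map_zero, ← hCp] at h1
    obtain ⟨k, hk⟩ : ∃ k, p = k + 1 := ⟨p - 1, by have := hp.pos; omega⟩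
    rw [mul_pow, sub_pow_char, hk, pow_succ (j x), mul_assoc, ← hk, h1, mul_zero]
  have hzero : j x * (j y - C) = 0 := IsNilpotent.eq_zero ⟨p, hnil⟩
  obtain ⟨lam, hlam1, hlamc⟩ : ∃ lam : K₂ →ₗ[K₁] K₁, lam 1 = 0 ∧ lam c = 1 := by
    have hnot : c ∉ Submodule.span K₁ {(1 : K₂)} := fun h => by
      obtain ⟨r, hr⟩ := Submodule.mem_span_singleton.mp h
      exact hc r (by rw [← hr, Algebra.smul_def, mul_one])
    obtain ⟨f, hfc, hf1⟩ := Submodule.exists_le_ker_of_notMem hnot
    refine ⟨(f c)⁻¹ • f, ?_, ?_⟩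
    · rw [LinearMap.smul_apply, show f 1 = 0 from hf1 (Submodule.mem_span_singleton_self 1), smul_zero]
    · rw [LinearMap.smul_apply, smul_eq_mul, inv_mul_cancel₀ hfc]
  let Λ := LinearMap.lTensor L (lam.restrictScalars K)
  have hΛ : ∀ (w : T) (k : K₂), Λ (j w * Algebra.TensorProduct.includeRight k) =
      w * Algebra.TensorProduct.includeRight (lam k) := by
    intro w k
    induction w using TensorProduct.induction_on with
    | zero => rw [map_zero, zero_mul, map_zero, zero_mul]
    | tmul l k₁ =>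
      rw [Algebra.TensorProduct.map_tmul, Algebra.TensorProduct.includeRight_apply,
        Algebra.TensorProduct.tmul_mul_tmul, Algebra.TensorProduct.includeRight_apply,
        Algebra.TensorProduct.tmul_mul_tmul, LinearMap.lTensor_tmul]
      show (l * 1) ⊗ₜ[K] lam (algebraMap K₁ K₂ k₁ * k) = _
      rw [← Algebra.smul_def, map_smul, smul_eq_mul]
    | add u v hu hv => rw [map_add, add_mul, map_add, hu, hv, add_mul]
  have h1 := congrArg Λ hzero
  rw [mul_sub, ← map_mul, map_sub, map_zero, ← mul_one (j (x * y)),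
    ← map_one (Algebra.TensorProduct.includeRight (R := K) (A := L) (B := K₂)), hΛ, hΛ, hlam1,
    hlamc, map_zero, mul_zero, map_one, mul_one, zero_sub, neg_eq_zero] at h1
  exact hx (h1 ▸ m.zero_mem)

end Ram24

namespace Ram24

section Global

variable {B K L K₁ K₂ : Type u} [CommRing B] [IsDomain B] [IsDiscreteValuationRing B] [Field K]
  [Field L] [Field K₁] [Field K₂] [Algebra B L] [IsFractionRing B L] [Algebra K L] [Algebra K K₁]
  [Algebra K K₂] [Algebra K₁ K₂] [IsScalarTower K K₁ K₂] [Algebra.IsGeometricallyReduced K L]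
  [FiniteDimensional K K₁] [FiniteDimensional K₁ K₂] [IsPurelyInseparable K₁ K₂]
  (p : ℕ) [Fact p.Prime] [CharP K p] (hdeg : Module.finrank K₁ K₂ = p)
  {A : Type u} [CommRing A] [IsDomain A] [IsDiscreteValuationRing A] [Algebra A B]
  [IsLocalHom (algebraMap A B)] [Algebra A K] [IsFractionRing A K] [Algebra A L]
  [IsScalarTower A K L] [IsScalarTower A B L] (hB : CAlg.IsNagata B)

/-- The conclusion for one factor and one valuation ring of that factor. -/
def LocalBound (p : ℕ) (B : Type u) [CommRing B] [IsLocalRing B] (K₁ : Type u) [Field K₁]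
    (M₁ : Type u) [Field M₁] (ι₁ : K₁ →+* M₁) (W₁ : ValuationSubring M₁) (a t : K₁) : Prop :=
  ∃ n₀, ∀ n ≥ n₀, ∀ (N : Type u) [Field N] [Algebra M₁ N] [FiniteDimensional M₁ N],
    Module.finrank M₁ N ≤ p → ∀ (K₃ : Type u) [Field K₃] [Algebra K₁ K₃] [FiniteDimensional K₁ K₃],
    Module.finrank K₁ K₃ ≤ p → ∀ f₃ : K₃ →+* N,
    (∀ x, f₃ (algebraMap K₁ K₃ x) = algebraMap M₁ N (ι₁ x)) →
    ∀ z : K₃, z ^ p + algebraMap K₁ K₃ t ^ n * z = algebraMap K₁ K₃ a →
    ∀ W : ValuationSubring N, (∀ x : M₁, algebraMap M₁ N x ∈ W ↔ x ∈ W₁) →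
      (letI : Algebra (W.comap f₃) W := (EtRam.inclOfComap W f₃).toAlgebra
       EtRam.IsWeaklyUnramified (W.comap f₃) W) ∧
      @Algebra.IsGeometricallyReduced (ResidueField (W.comap f₃)) (ResidueField W) _ _
        (ResidueField.map (EtRam.inclOfComap W f₃)).toAlgebra

include hdeg in
theorem exists_algHom_X_pow_sub_C [CharP K₁ p] {c : K₂} {a : K₁} (ha : algebraMap K₁ K₂ a = c ^ p)
    (hc : ∀ y, algebraMap K₁ K₂ y ≠ c) :
    (∀ x : K₂, ∃ Q : K₁[X], aeval c Q = x) ∧ ∀ (E : Type u) [Field E] [Algebra K₁ E] (d : E),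
      d ^ p = algebraMap K₁ E a → ∃ g : K₂ →ₐ[K₁] E, g c = d := by
  have hp : p.Prime := Fact.out
  have : CharP K₂ p := charP_of_injective_algebraMap (algebraMap K₁ K₂).injective p
  have hirr : Irreducible (X ^ p - C a) := X_pow_sub_C_irreducible_of_prime hp fun y hy => hc y
    (frobenius_inj K₂ p (by rw [frobenius_def, frobenius_def, ← map_pow, hy, ha]))
  have := Fact.mk hirr
  obtain ⟨hfin, hdim⟩ := finrank_adjoinRoot_le hirr.ne_zero
  have hz : aeval c (X ^ p - C a) = 0 := by rw [map_sub, map_pow, aeval_X, aeval_C, ha, sub_self]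
  let φ : AdjoinRoot (X ^ p - C a) →ₐ[K₁] K₂ := AdjoinRoot.liftAlgHom _ (Algebra.ofId K₁ K₂) c hz
  have hφ : Function.Bijective φ := ⟨φ.toRingHom.injective,
    (LinearMap.injective_iff_surjective_of_finrank_eq_finrank (f := φ.toLinearMap)
      (by rw [hdim, natDegree_X_pow_sub_C, hdeg])).mp φ.toRingHom.injective⟩
  let e := AlgEquiv.ofBijective φ hφ
  have hroot : φ (AdjoinRoot.root _) = c := AdjoinRoot.lift_root hz
  refine ⟨fun x => ?_, fun E _ _ d hd => ?_⟩
  · obtain ⟨q, hq⟩ := AdjoinRoot.mk_surjective (e.symm x)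
    refine ⟨q, ?_⟩
    rw [← hroot, aeval_algHom_apply, AdjoinRoot.aeval_eq, hq]
    exact e.apply_symm_apply x
  · have hz' : aeval d (X ^ p - C a) = 0 := by
      rw [map_sub, map_pow, aeval_X, aeval_C, hd, sub_self]
    refine ⟨(AdjoinRoot.liftAlgHom _ (Algebra.ofId K₁ E) d hz').comp e.symm.toAlgHom, ?_⟩
    show AdjoinRoot.liftAlgHom _ (Algebra.ofId K₁ E) d hz' (e.symm c) = d
    rw [show e.symm c = AdjoinRoot.root _ from e.injective ((e.apply_symm_apply c).trans hroot.symm)]
    exact AdjoinRoot.lift_root hz'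

include hdeg hB in
theorem localBound (hsol : EtRam.IsSolution B K L K₂) (m : Ideal (L ⊗[K] K₁)) [hm : m.IsMaximal]
    {c : K₂} {a : K₁} (ha : algebraMap K₁ K₂ a = c ^ p) (hc : ∀ y, algebraMap K₁ K₂ y ≠ c)
    (t : A) (ht : t ∈ maximalIdeal A) (ht0 : t ≠ 0) (M₁ : Type u) [Field M₁] [Algebra L M₁]
    [FiniteDimensional L M₁] (q : L ⊗[K] K₁ →ₐ[L] M₁) (hq : Function.Surjective q)
    (hker : RingHom.ker q = m)
    (W₁ : ValuationSubring M₁)
    (hW₁ : EtRam.Dominates B ((algebraMap L M₁).comp (algebraMap B L)) W₁)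
    (haW : q (Algebra.TensorProduct.includeRight a) ∈ W₁) :
    LocalBound p B K₁ M₁ (q.toRingHom.comp (Algebra.TensorProduct.includeRight).toRingHom) W₁ a
      (algebraMap K K₁ (algebraMap A K t)) := by
  classical
  have hp : p.Prime := Fact.out
  have := dvr_of_dominates (B := B) (L := L) W₁ hW₁
  let ι₁ : K₁ →+* M₁ := q.toRingHom.comp (Algebra.TensorProduct.includeRight).toRingHom
  let _ : Algebra K₁ M₁ := ι₁.toAlgebra
  let _ : Algebra K M₁ := ((algebraMap L M₁).comp (algebraMap K L)).toAlgebra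
  have hK : ∀ x, ι₁ (algebraMap K K₁ x) = algebraMap L M₁ (algebraMap K L x) := fun x => by
    show q (Algebra.TensorProduct.includeRight (algebraMap K K₁ x)) = _
    rw [AlgHom.commutes, IsScalarTower.algebraMap_apply K L (L ⊗[K] K₁), AlgHom.commutes]
  have : IsScalarTower K L M₁ := .of_algebraMap_eq fun _ => rfl
  have : IsScalarTower K K₁ M₁ := .of_algebraMap_eq fun x => (hK x).symm
  have : CharP K₁ p := charP_of_injective_algebraMap (algebraMap K K₁).injective p
  have : CharP M₁ p := charP_of_injective_algebraMap (algebraMap K M₁).injective p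
  set a₁ : M₁ := ι₁ a
  have hnp : ∀ y : M₁, y ^ p ≠ a₁ := by
    intro y hy
    obtain ⟨Y, rfl⟩ := hq y
    refine not_pth_power p ha hc m Y ?_
    rw [← hker, RingHom.mem_ker, map_sub, map_pow, hy, sub_eq_zero]
    rfl
  have hirr := X_pow_sub_C_irreducible_of_prime hp hnp
  have := Fact.mk hirr
  let M₂ := AdjoinRoot (X ^ p - C a₁)
  obtain ⟨hfin₂, hdim₂⟩ := finrank_adjoinRoot_le hirr.ne_zero
  rw [natDegree_X_pow_sub_C] at hdim₂
  have : CharP M₂ p := charP_of_injective_algebraMap (algebraMap M₁ M₂).injective p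
  let r : M₂ := AdjoinRoot.root _
  have hr : r ^ p = algebraMap M₁ M₂ a₁ := by
    have h := AdjoinRoot.eval₂_root (X ^ p - C a₁)
    rw [eval₂_sub, eval₂_X_pow, eval₂_C, sub_eq_zero] at h
    exact h
  have hgen : ∀ x : M₂, ∃ Q : M₁[X], aeval r Q = x := fun x => by
    obtain ⟨Q, rfl⟩ := AdjoinRoot.mk_surjective x
    exact ⟨Q, AdjoinRoot.aeval_eq Q⟩
  have hpow : ∀ x : M₂, x ^ p ∈ Set.range (algebraMap M₁ M₂) := fun x => by
    obtain ⟨Q, rfl⟩ := hgen x
    exact ⟨(Q.map (frobenius M₁ p)).eval a₁, by rw [aeval_pow_char, hr, eval₂_at_apply]⟩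
  have : ExpChar M₁ p := .prime hp
  have : IsPurelyInseparable M₁ M₂ := (isPurelyInseparable_iff_pow_mem M₁ p).mpr fun x =>
    ⟨1, by rw [pow_one]; exact hpow x⟩
  obtain ⟨hgen₂, hlift⟩ := exists_algHom_X_pow_sub_C p hdeg ha hc
  have : IsScalarTower K₁ M₁ M₂ := inferInstance
  obtain ⟨g, hg⟩ := hlift M₂ r hr
  let _ : Algebra K₂ M₂ := g.toRingHom.toAlgebra
  have : IsScalarTower K L M₂ := .of_algebraMap_eq fun x => by
    rw [IsScalarTower.algebraMap_apply K M₁ M₂, IsScalarTower.algebraMap_apply L M₁ M₂]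
    rfl
  have : IsScalarTower K K₂ M₂ := .of_algebraMap_eq fun x => by
    show algebraMap K M₂ x = g (algebraMap K K₂ x)
    rw [IsScalarTower.algebraMap_apply K K₁ K₂, g.commutes, IsScalarTower.algebraMap_apply K M₁ M₂,
      IsScalarTower.algebraMap_apply K₁ M₁ M₂]
    exact congrArg _ (hK x).symm
  have hsq : ∀ x : K₁, algebraMap K₂ M₂ (algebraMap K₁ K₂ x) = algebraMap M₁ M₂ (algebraMap K₁ M₁ x) :=
    fun x => (g.commutes x).trans (IsScalarTower.algebraMap_apply K₁ M₁ M₂ x)
  have hadj : Algebra.adjoin L (Set.range (algebraMap K₂ M₂)) = ⊤ := by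
    set S := Algebra.adjoin L (Set.range (algebraMap K₂ M₂))
    have hS₁ : ∀ y : M₁, algebraMap M₁ M₂ y ∈ S := by
      intro y
      obtain ⟨w, rfl⟩ := hq y
      induction w using TensorProduct.induction_on with
      | zero => rw [map_zero, map_zero]; exact zero_mem S
      | tmul l k =>
        rw [show l ⊗ₜ[K] k = algebraMap L (L ⊗[K] K₁) l * Algebra.TensorProduct.includeRight k by
          rw [Algebra.TensorProduct.algebraMap_apply, Algebra.TensorProduct.includeRight_apply,
            Algebra.TensorProduct.tmul_mul_tmul, mul_one, one_mul]; rfl, map_mul, map_mul, AlgHom.commutes,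
          ← IsScalarTower.algebraMap_apply L M₁ M₂]
        exact mul_mem (S.algebraMap_mem l)
          (Algebra.subset_adjoin (Set.mem_range.mpr ⟨algebraMap K₁ K₂ k, hsq k⟩))
      | add u v hu hv => rw [map_add, map_add]; exact add_mem hu hv
    refine eq_top_iff.mpr fun x _ => ?_
    obtain ⟨Q, rfl⟩ := hgen x
    rw [aeval_eq_sum_range]
    refine sum_mem fun i _ => ?_
    rw [Algebra.smul_def]
    exact mul_mem (hS₁ _) (pow_mem (Algebra.subset_adjoin (R := L) (Set.mem_range.mpr ⟨c, hg⟩)) i)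
  -- the valuation rings
  obtain ⟨φ, hφ⟩ := exists_frobDown p hpow
  set W₂ := W₁.comap φ
  have h₂ : ∀ x : M₁, algebraMap M₁ M₂ x ∈ W₂ ↔ x ∈ W₁ := fun x => by
    show φ (algebraMap M₁ M₂ x) ∈ W₁ ↔ _
    rw [show φ (algebraMap M₁ M₂ x) = x ^ p from
      (algebraMap M₁ M₂).injective ((hφ _).trans (map_pow _ _ _).symm)]
    exact ⟨mem_of_pow_mem W₁ hp.ne_zero, fun h => pow_mem h p⟩
  set V := W₁.comap (algebraMap K₁ M₁)
  have hV : ∀ x : K₁, algebraMap K₁ M₁ x ∈ W₁ ↔ x ∈ V := fun _ => Iff.rfl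
  have hAK : (algebraMap K₁ M₁).comp ((algebraMap K K₁).comp (algebraMap A K)) =
      ((algebraMap L M₁).comp (algebraMap B L)).comp (algebraMap A B) := RingHom.ext fun x => by
    show ι₁ (algebraMap K K₁ (algebraMap A K x)) = algebraMap L M₁ (algebraMap B L (algebraMap A B x))
    rw [hK, ← IsScalarTower.algebraMap_apply A K L, ← IsScalarTower.algebraMap_apply A B L]
  have hdomV : EtRam.Dominates A ((algebraMap K K₁).comp (algebraMap A K)) V :=
    (dominates_iff _ V W₁ hV).mp (hAK ▸ dominates_trans hW₁)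
  have := dvr_of_dominates (B := A) (L := K) V hdomV
  let _ : Algebra B M₁ := ((algebraMap L M₁).comp (algebraMap B L)).toAlgebra
  have : IsScalarTower B L M₁ := .of_algebraMap_eq fun _ => rfl
  have : IsScalarTower B M₁ M₂ := inferInstance
  have : IsScalarTower B L M₂ := .of_algebraMap_eq fun x => by
    rw [IsScalarTower.algebraMap_apply B M₁ M₂, IsScalarTower.algebraMap_apply L M₁ M₂]; rfl
  have : FiniteDimensional L M₂ := Module.Finite.trans M₁ M₂
  have := finite_integralClosure_of_isNagata B L M₁ hB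
  have := finite_integralClosure_of_isNagata B L M₂ hB
  have hfin := finite_inclOf (B := B) (L := L) W₁ W₂ hW₁ h₂ p hp.ne_zero hpow
  have hdom₂ : EtRam.Dominates B ((algebraMap L M₂).comp (algebraMap B L)) W₂ := by
    have h := (dominates_iff _ W₁ W₂ h₂).mpr hW₁
    rwa [← RingHom.comp_assoc, ← IsScalarTower.algebraMap_eq L M₁ M₂] at h
  obtain ⟨hwu, hgr⟩ := hsol M₂ hadj W₂ hdom₂
  have htV : algebraMap K K₁ (algebraMap A K t) ∈ V := hdomV.1 t
  refine exists_local_bound (F := K₁) p hsq hdeg hdim₂ V W₁ W₂ hV h₂ hfin c hgen₂ ?_ ?_ ⟨a, haW⟩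
    ⟨_, htV⟩ ha ?_ ?_ hwu hgr
  · exact fun x => by rw [show algebraMap K₂ M₂ c = r from hg]; exact hgen x
  · intro y hy
    rw [show algebraMap K₂ M₂ c = r from hg] at hy
    refine hnp y ((algebraMap M₁ M₂).injective ?_)
    rw [map_pow, hy, hr]
  · exact (ValuationSubring.valuation_lt_one_iff V ⟨_, htV⟩).mpr (hdomV.2 t ht)
  · intro h
    exact ht0 (IsFractionRing.injective A K ((algebraMap K K₁).injective
      ((congrArg Subtype.val h).trans (by simp))))

variable (A) in
include A hdeg hB in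
theorem exists_separable_solution (hsol : EtRam.IsSolution B K L K₂) :
    ∃ (K₃ : Type u) (_ : Field K₃) (_ : Algebra K K₃) (_ : Algebra K₁ K₃)
      (_ : IsScalarTower K K₁ K₃),
      FiniteDimensional K₁ K₃ ∧ Algebra.IsSeparable K₁ K₃ ∧ EtRam.IsSolution B K L K₃ := by
  classical
  have hp : p.Prime := Fact.out
  have : CharP K₁ p := charP_of_injective_algebraMap (algebraMap K K₁).injective p
  obtain ⟨c₀, hc₀⟩ : ∃ c₀ : K₂, ∀ y, algebraMap K₁ K₂ y ≠ c₀ := by
    by_contra hcon
    push Not at hcon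
    have hb : Function.Surjective (Algebra.linearMap K₁ K₂) := hcon
    have h1 := (Algebra.linearMap K₁ K₂).finrank_le_finrank_of_surjective hb
    rw [hdeg, Module.finrank_self] at h1
    exact absurd h1 (not_le.mpr hp.one_lt)
  obtain ⟨a₀, ha₀⟩ := pow_mem_range p hdeg c₀
  obtain ⟨t, ht⟩ := IsDiscreteValuationRing.exists_irreducible A
  set τ : K₁ := algebraMap K K₁ (algebraMap A K t)
  have hτ : τ ≠ 0 := fun h => ht.ne_zero (IsFractionRing.injective A K
    ((algebraMap K K₁).injective (h.trans (map_zero _).symm) |>.trans (map_zero _).symm))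
  let T := L ⊗[K] K₁
  have : IsArtinianRing T := IsArtinianRing.of_finite L _
  let _ : ∀ m : MaximalSpectrum T, Field (T ⧸ m.asIdeal) := fun m => Ideal.Quotient.field _
  have hfinI : ∀ m : MaximalSpectrum T, Finite {W₁ : ValuationSubring (T ⧸ m.asIdeal) //
      EtRam.Dominates B ((algebraMap L (T ⧸ m.asIdeal)).comp (algebraMap B L)) W₁} := by
    intro m
    have : IsScalarTower B L (T ⧸ m.asIdeal) := inferInstance
    have := finite_integralClosure_of_isNagata B L (T ⧸ m.asIdeal) hB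
    exact (finite_dominating (B := B) (L := L) (M := T ⧸ m.asIdeal)).to_subtype
  let I := Σ m : MaximalSpectrum T, {W₁ : ValuationSubring (T ⧸ m.asIdeal) //
      EtRam.Dominates B ((algebraMap L (T ⧸ m.asIdeal)).comp (algebraMap B L)) W₁}
  let _ : Fintype I := Fintype.ofFinite I
  let q : ∀ m : MaximalSpectrum T, T →ₐ[L] T ⧸ m.asIdeal := fun m => Ideal.Quotient.mkₐ L _
  have hscale : ∀ i : I, ∃ k₀, ∀ j ≥ k₀,
      q i.1 (Algebra.TensorProduct.includeRight (τ ^ j * a₀)) ∈ i.2.1 := by
    rintro ⟨m, W₁, hW₁⟩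
    have := dvr_of_dominates (B := B) (L := L) W₁ hW₁
    have hτB : q m (Algebra.TensorProduct.includeRight τ) =
        algebraMap L (T ⧸ m.asIdeal) (algebraMap B L (algebraMap A B t)) := by
      rw [AlgHom.commutes, IsScalarTower.algebraMap_apply K L T, AlgHom.commutes,
        ← IsScalarTower.algebraMap_apply A K L, ← IsScalarTower.algebraMap_apply A B L]
    have htB := map_nonunit (algebraMap A B) t ((mem_maximalIdeal _).mpr ht.not_isUnit)
    let tW : W₁ := ⟨_, hW₁.1 (algebraMap A B t)⟩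
    have htW : tW ∈ maximalIdeal W₁ :=
      (ValuationSubring.valuation_lt_one_iff W₁ tW).mpr (hW₁.2 _ htB)
    obtain ⟨k₀, hk₀⟩ := exists_pow_mul_mem (W₁ := W₁) tW htW
      (q m (Algebra.TensorProduct.includeRight a₀))
    refine ⟨k₀, fun j hj => ?_⟩
    obtain ⟨y, -, hy⟩ := hk₀ j hj
    rw [map_mul, map_mul, map_pow, map_pow, hτB]
    exact hy ▸ y.2
  choose k₀ hk₀ using hscale
  set k := ∑ i, k₀ i
  set c : K₂ := algebraMap K₁ K₂ τ ^ k * c₀
  set a : K₁ := τ ^ (k * p) * a₀
  have ha : algebraMap K₁ K₂ a = c ^ p := by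
    rw [map_mul, map_pow, ha₀, mul_pow, ← pow_mul]
  have hc : ∀ y, algebraMap K₁ K₂ y ≠ c := fun y hy => hc₀ (y / τ ^ k) (by
    rw [map_div₀, map_pow, hy, mul_div_cancel_left₀]
    exact pow_ne_zero _ ((map_ne_zero_iff _ (algebraMap K₁ K₂).injective).mpr hτ))
  have haW : ∀ i : I, q i.1 (Algebra.TensorProduct.includeRight a) ∈ i.2.1 := fun i => hk₀ i _ (by
    have h1 := Finset.single_le_sum (f := k₀) (fun i _ => Nat.zero_le _) (Finset.mem_univ i)
    exact h1.trans (Nat.le_mul_of_pos_right _ hp.pos))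
  choose n₀ hn₀ using fun i : I => localBound (A := A) (L := L) p hdeg hB hsol i.1.asIdeal
    (hm := i.1.isMaximal) ha hc t ((mem_maximalIdeal _).mpr ht.not_isUnit) ht.ne_zero _ (q i.1)
    Ideal.Quotient.mk_surjective (Ideal.mk_ker) i.2.1 i.2.2 (haW i)
  set n := ∑ i, n₀ i
  set f : K₁[X] := X ^ p + (C (τ ^ n) * X - C a)
  have hlow : (C (τ ^ n) * X - C a).natDegree < p := by
    refine lt_of_le_of_lt ((natDegree_sub_le _ _).trans (max_le ?_ ?_)) hp.one_lt
    · exact (natDegree_C_mul_le _ _).trans natDegree_X_le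
    · simp
  have hdlow : (C (τ ^ n) * X - C a).degree < (p : WithBot ℕ) :=
    degree_le_natDegree.trans_lt (by exact_mod_cast hlow)
  have hfm : f.Monic := monic_X_pow_add hdlow
  have hfd : f.natDegree = p := by
    rw [natDegree_add_eq_left_of_natDegree_lt (by rwa [natDegree_X_pow]), natDegree_X_pow]
  have hfs : f.Separable := by
    rw [separable_def, show derivative f = C (τ ^ n) by
      rw [derivative_add, derivative_X_pow, derivative_sub, derivative_C_mul, derivative_X,
        derivative_C, mul_one, sub_zero, CharP.cast_eq_zero, map_zero, zero_mul, zero_add]]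
    exact ⟨0, C (τ ^ n)⁻¹, by
      rw [zero_mul, zero_add, ← C_mul, inv_mul_cancel₀ (pow_ne_zero _ hτ), C_1]⟩
  obtain ⟨K₃, _, _, z, hfin₃, hsep₃, hzf, hdim₃, hgen₃⟩ :=
    exists_separable_root_field hfm (by rw [hfd]; exact hp.ne_zero) hfs
  let _ : Algebra K K₃ := ((algebraMap K₁ K₃).comp (algebraMap K K₁)).toAlgebra
  have : IsScalarTower K K₁ K₃ := .of_algebraMap_eq fun _ => rfl
  refine ⟨K₃, inferInstance, inferInstance, inferInstance, inferInstance, hfin₃, hsep₃, ?_⟩
  intro M _ _ _ _ _ _ hadj W hW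
  let _ : Algebra K₁ M := ((algebraMap K₃ M).comp (algebraMap K₁ K₃)).toAlgebra
  have : IsScalarTower K₁ K₃ M := .of_algebraMap_eq fun _ => rfl
  have : IsScalarTower K K₁ M := .of_algebraMap_eq fun x => by
    rw [IsScalarTower.algebraMap_apply K K₃ M]; rfl
  let φ : T →ₐ[L] M := Algebra.TensorProduct.lift (Algebra.ofId L M)
    (IsScalarTower.toAlgHom K K₁ M) fun _ _ => Commute.all _ _
  have hm : (RingHom.ker φ).IsMaximal := by
    have := RingHom.ker_isPrime φ
    infer_instance
  let m : MaximalSpectrum T := ⟨RingHom.ker φ, hm⟩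
  let _ : Algebra (T ⧸ m.asIdeal) M := (RingHom.kerLift φ.toRingHom).toAlgebra
  have : IsScalarTower L (T ⧸ m.asIdeal) M := .of_algebraMap_eq fun x => (φ.commutes x).symm
  have hι : ∀ x : K₁, algebraMap K₃ M (algebraMap K₁ K₃ x) =
      algebraMap (T ⧸ m.asIdeal) M (q m (Algebra.TensorProduct.includeRight x)) := fun x => by
    show _ = φ (Algebra.TensorProduct.includeRight x)
    rw [Algebra.TensorProduct.includeRight_apply, Algebra.TensorProduct.lift_tmul, map_one, one_mul]
    rfl
  set W₁ := W.comap (algebraMap (T ⧸ m.asIdeal) M)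
  have hW₁ : EtRam.Dominates B ((algebraMap L (T ⧸ m.asIdeal)).comp (algebraMap B L)) W₁ := by
    rw [← dominates_iff _ W₁ W fun _ => Iff.rfl, ← RingHom.comp_assoc,
      ← IsScalarTower.algebraMap_eq L (T ⧸ m.asIdeal) M]
    exact hW
  let i : I := ⟨m, W₁, hW₁⟩
  let fM : (T ⧸ m.asIdeal)[X] := f.map ((q m).toRingHom.comp Algebra.TensorProduct.includeRight.toRingHom)
  have hzM : aeval (algebraMap K₃ M z) fM = 0 := by
    rw [aeval_def, eval₂_map, show (algebraMap (T ⧸ m.asIdeal) M).comp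
      ((q m).toRingHom.comp Algebra.TensorProduct.includeRight.toRingHom) =
      (algebraMap K₃ M).comp (algebraMap K₁ K₃) from RingHom.ext fun x => (hι x).symm,
      ← hom_eval₂, ← aeval_def, hzf, map_zero]
  have hgenM : Algebra.adjoin (T ⧸ m.asIdeal) {algebraMap K₃ M z} = ⊤ := by
    set S := Algebra.adjoin (T ⧸ m.asIdeal) {algebraMap K₃ M z}
    have hS₃ : ∀ x : K₃, algebraMap K₃ M x ∈ S := by
      intro x
      have hx : x ∈ Algebra.adjoin K₁ ({z} : Set K₃) := hgen₃ ▸ trivial
      induction hx using Algebra.adjoin_induction with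
      | mem y hy => rw [Set.mem_singleton_iff.mp hy]; exact Algebra.self_mem_adjoin_singleton _ _
      | algebraMap r => rw [hι]; exact S.algebraMap_mem _
      | add u v _ _ hu hv => rw [map_add]; exact add_mem hu hv
      | mul u v _ _ hu hv => rw [map_mul]; exact mul_mem hu hv
    refine eq_top_iff.mpr fun x hxt => ?_
    have hx : x ∈ Algebra.adjoin L (Set.range (algebraMap K₃ M)) := hadj ▸ trivial
    clear hxt
    induction hx using Algebra.adjoin_induction with
    | mem y hy => obtain ⟨w, rfl⟩ := hy; exact hS₃ w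
    | algebraMap l =>
      rw [IsScalarTower.algebraMap_apply L (T ⧸ m.asIdeal) M]
      exact S.algebraMap_mem _
    | add u v _ _ hu hv => exact add_mem hu hv
    | mul u v _ _ hu hv => exact mul_mem hu hv
  have hfM : fM.natDegree = p := (hfm.natDegree_map _).trans hfd
  obtain ⟨hfinN, hdimN⟩ := finrank_le_of_adjoin_eq_top (hfm.map _).ne_zero hzM hgenM
  refine hn₀ i n (Finset.single_le_sum (f := n₀) (fun i _ => Nat.zero_le _) (Finset.mem_univ i)) M
    (hdimN.trans hfM.le) K₃ (hdim₃.trans hfd.le) (algebraMap K₃ M) hι z ?_ W fun _ => Iff.rfl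
  have h := hzf
  simp only [f, map_add, map_sub, map_mul, map_pow, aeval_X, aeval_C] at h
  linear_combination h

end Global

end Ram24
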