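import Groth.Agent.Ram24.Trinomial

/-!
# The trinomial extension is totally ramified and is a weak solution for weakly unramified extensions
-/

universe u

open IsLocalRing Polynomial TensorProduct

namespace Ram24

section Field

variable {A : Type u} [CommRing A] [IsDomain A] [IsDiscreteValuationRing A] {π : A}
  (hπ : maximalIdeal A = Ideal.span {π}) {q n : ℕ} (hq : 2 ≤ q) (hn : 1 ≤ n)
  {K₁ : Type u} [Field K₁] (g : A →+* K₁) (hg : Function.Injective g) (z : K₁)
  (hz : (tri π q n).eval₂ g z = 0)

/-- The map of the ring of integers into a field containing a root. -/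
noncomputable def rootMap : AdjoinRoot (tri π q n) →+* K₁ := AdjoinRoot.lift g z hz

@[simp] theorem rootMap_of (a : A) : rootMap g z hz (algebraMap A _ a) = g a := AdjoinRoot.lift_of hz

@[simp] theorem rootMap_root : rootMap g z hz (AdjoinRoot.root _) = z := AdjoinRoot.lift_root hz

include hπ hq hn hg in
theorem rootMap_injective : Function.Injective (rootMap g z hz) := by
  obtain ⟨_, _, -⟩ := tri_dvr hπ hq hn
  have : Module.Finite A (AdjoinRoot (tri π q n)) := (tri_monic π q n hq).finite_adjoinRoot
  rw [RingHom.injective_iff_ker_eq_bot]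
  refine Ideal.eq_bot_of_comap_eq_bot (R := A) ?_
  rw [RingHom.comap_ker, show (rootMap g z hz).comp (algebraMap A _) = g from RingHom.ext (rootMap_of g z hz),
    (RingHom.injective_iff_ker_eq_bot g).mp hg]

include hπ hq hn hg in
theorem isTotallyRamified
    (hgen : ∀ y : K₁, ∃ a b : AdjoinRoot (tri π q n),
      rootMap g z hz b ≠ 0 ∧ y * rootMap g z hz b = rootMap g z hz a) :
    EtRam.IsTotallyRamified A g := by
  obtain ⟨_, _, hmax⟩ := tri_dvr hπ hq hn
  set D := AdjoinRoot (tri π q n)
  have : Module.Finite A D := (tri_monic π q n hq).finite_adjoinRoot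
  set ψ : D →+* K₁ := rootMap g z hz
  have hψinj := rootMap_injective hπ hq hn g hg z hz
  have hψA : ∀ a, ψ (algebraMap A D a) = g a := rootMap_of g z hz
  have hπD : algebraMap A D π ≠ 0 := fun h => by
    have := congrArg ψ h
    rw [hψA, map_zero, map_eq_zero_iff _ hg] at this
    exact ((IsDiscreteValuationRing.irreducible_iff_uniformizer _).mpr hπ).ne_zero this
  have hmap : ∀ a ∈ maximalIdeal A, algebraMap A D a ∈ maximalIdeal D := fun a ha =>
    map_maximalIdeal_le_of_isMaximal (tri_monic π q n hq) _ (Ideal.mem_map_of_mem _ ha)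
  have hle : ∀ V : ValuationSubring K₁, EtRam.Dominates A g V → ∀ d, ψ d ∈ V :=
    fun V hV => mem_of_isIntegral ψ V fun a => (hψA a).symm ▸ hV.1 a
  have hlt : ∀ V : ValuationSubring K₁, EtRam.Dominates A g V → ∀ d ∈ maximalIdeal D,
      V.valuation (ψ d) < 1 := fun V hV =>
    valuation_lt_one_of_mem_maximalIdeal ψ V (hle V hV)
      ⟨_, hπD, (hψA π).symm ▸ hV.2 π (hπ ▸ Ideal.mem_span_singleton_self π)⟩
  refine ⟨⟨rangeVS ψ hgen, fun a => ⟨algebraMap A D a, hψA a⟩, fun a ha => ?_⟩, fun V V' hV hV' => ?_,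
    fun V h => ?_⟩
  · have hmem : g a ∈ rangeVS ψ hgen := ⟨algebraMap A D a, hψA a⟩
    refine (ValuationSubring.valuation_lt_one_iff _ ⟨g a, hmem⟩).mp ?_
    rw [mem_maximalIdeal]
    intro hu
    obtain ⟨⟨w, hw⟩, hwmul⟩ := hu.exists_right_inv
    obtain ⟨d, hd⟩ := hw
    have h1 : g a * w = 1 := congrArg Subtype.val hwmul
    rw [← hψA, ← hd, ← map_mul, ← map_one ψ] at h1
    exact (mem_maximalIdeal _).mp (hmap a ha) (IsUnit.of_mul_eq_one d (hψinj h1))
  · ext y
    rw [mem_iff_mem_range ψ hgen V (hle V hV) (hlt V hV),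
      mem_iff_mem_range ψ hgen V' (hle V' hV') (hlt V' hV')]
  · intro y
    obtain ⟨y, rfl⟩ := residue_surjective (R := V) y
    obtain ⟨d, hd⟩ := (mem_iff_mem_range ψ hgen V (hle V h) (hlt V h) y).mp y.2
    obtain ⟨a, ha⟩ := residue_surjective_of_eisenstein (tri_monic π q n hq)
      (by rw [tri_natDegree π q n hq]; omega) (tri_low hπ hq hn) (tri_zero hπ hq) d
    refine ⟨a, ?_⟩
    rw [← hmax] at ha
    have h1 := hlt V h _ ha
    rw [map_sub, hψA, hd] at h1
    have h2 : (y - RingHom.codRestrict g V h.1 a : V) ∈ maximalIdeal V :=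
      (ValuationSubring.valuation_lt_one_iff _ _).mpr h1
    rw [← residue_eq_zero_iff, map_sub, sub_eq_zero] at h2
    exact h2.symm

end Field

section Extension

variable {A : Type u} [CommRing A] [IsDomain A] [IsDiscreteValuationRing A] {π : A}
  (hπ : maximalIdeal A = Ideal.span {π}) {q n : ℕ} (hq : 2 ≤ q) (hn : 1 ≤ n)
  (K : Type u) [Field K] [Algebra A K] [IsFractionRing A K]

theorem root_eval₂ {f : A[X]} :
    f.eval₂ ((algebraMap K (AdjoinRoot (f.map (algebraMap A K)))).comp (algebraMap A K))
      (AdjoinRoot.root (f.map (algebraMap A K))) = 0 := by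
  rw [← eval₂_map, AdjoinRoot.algebraMap_eq, AdjoinRoot.eval₂_root]

include hπ hq hn in
theorem irreducible_map : Irreducible ((tri π q n).map (algebraMap A K)) := by
  rw [tri_map]; exact tri_irreducible hπ hq hn K

include hπ hq hn in
theorem isSeparable_adjoinRoot [Fact (Irreducible ((tri π q n).map (algebraMap A K)))] :
    Algebra.IsSeparable K (AdjoinRoot ((tri π q n).map (algebraMap A K))) := by
  set f := (tri π q n).map (algebraMap A K)
  have hsep : IsSeparable K (AdjoinRoot.root f) := by
    have h : f.Separable := by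
      rw [show f = tri _ q n from tri_map π q n (algebraMap A K)]
      exact tri_separable hπ hq hn K
    refine h.of_dvd (minpoly.dvd K _ ?_)
    rw [AdjoinRoot.aeval_eq, AdjoinRoot.mk_self]
  refine ⟨fun x => ?_⟩
  rw [← mem_separableClosure_iff]
  have hx : x ∈ Algebra.adjoin K ({AdjoinRoot.root f} : Set (AdjoinRoot f)) := by
    rw [AdjoinRoot.adjoinRoot_eq_top]; trivial
  have hle : Algebra.adjoin K ({AdjoinRoot.root f} : Set (AdjoinRoot f)) ≤
      (separableClosure K (AdjoinRoot f)).toSubalgebra :=
    Algebra.adjoin_le (Set.singleton_subset_iff.mpr (mem_separableClosure_iff.mpr hsep))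
  exact hle hx

include hπ hq hn in
theorem isTotallyRamified_adjoinRoot [Fact (Irreducible ((tri π q n).map (algebraMap A K)))] :
    EtRam.IsTotallyRamified A ((algebraMap K (AdjoinRoot ((tri π q n).map (algebraMap A K)))).comp
      (algebraMap A K)) := by
  set f := (tri π q n).map (algebraMap A K)
  set g := (algebraMap K (AdjoinRoot f)).comp (algebraMap A K)
  obtain ⟨_, _, -⟩ := tri_dvr hπ hq hn
  have hg : Function.Injective g := (algebraMap K _).injective.comp (IsFractionRing.injective A K)
  have hz : (tri π q n).eval₂ g (AdjoinRoot.root f) = 0 := root_eval₂ K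
  refine isTotallyRamified hπ hq hn g hg _ hz ?_
  set ψ := rootMap g (AdjoinRoot.root f) hz
  refine exists_frac_of_closure ψ (rootMap_injective hπ hq hn g hg _ hz)
    (Set.range g ∪ {AdjoinRoot.root f}) ?_ ?_
  · rintro y (⟨a, rfl⟩ | rfl)
    · exact ⟨algebraMap A _ a, 1, by simp, by rw [map_one, mul_one, rootMap_of]⟩
    · exact ⟨AdjoinRoot.root _, 1, by simp, by simp [ψ]⟩
  · rw [eq_top_iff]
    rintro x -
    refine map_adjoinRoot_mem (RingHom.id _) _ (fun k => ?_)
      (Subfield.subset_closure (Or.inr rfl)) x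
    obtain ⟨a, b, hb, rfl⟩ := IsFractionRing.div_surjective (A := A) k
    rw [RingHom.id_apply, map_div₀]
    exact div_mem (Subfield.subset_closure (Or.inl ⟨a, rfl⟩)) (Subfield.subset_closure (Or.inl ⟨b, rfl⟩))

variable (B L : Type u) [CommRing B] [IsDomain B] [IsDiscreteValuationRing B] [Algebra A B]
  [Field L] [Algebra B L] [IsFractionRing B L] [Algebra K L] [Algebra A L]
  [IsScalarTower A K L] [IsScalarTower A B L] (hw : EtRam.IsWeaklyUnramified A B)

include hπ hw in
theorem maximalIdeal_eq_span : maximalIdeal B = Ideal.span {algebraMap A B π} := by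
  rw [← hw, hπ, Ideal.map_span, Set.image_singleton]

include hπ hq hn hw in
theorem isField_tensor : IsField (L ⊗[K] AdjoinRoot ((tri π q n).map (algebraMap A K))) := by
  refine isField_tensor_adjoinRoot (irreducible_map hπ hq hn K) ?_
  rw [Polynomial.map_map, ← IsScalarTower.algebraMap_eq, IsScalarTower.algebraMap_eq A B L, tri_map,
    RingHom.comp_apply]
  exact tri_irreducible (maximalIdeal_eq_span hπ B hw) hq hn L

include hπ hq hn hw in
theorem isWeakSolution_adjoinRoot [Fact (Irreducible ((tri π q n).map (algebraMap A K)))] :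
    EtRam.IsWeakSolution B K L (AdjoinRoot ((tri π q n).map (algebraMap A K))) := by
  set f := (tri π q n).map (algebraMap A K)
  intro N _ _ _ _ _ _ hgen W hW
  have hB := maximalIdeal_eq_span hπ B hw
  let β : B →+* N := (algebraMap L N).comp (algebraMap B L)
  have hβ : Function.Injective β := (algebraMap L N).injective.comp (IsFractionRing.injective B L)
  let zN : N := algebraMap (AdjoinRoot f) N (AdjoinRoot.root f)
  have hcomm : ∀ a : A, algebraMap (AdjoinRoot f) N (algebraMap K (AdjoinRoot f) (algebraMap A K a))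
      = β (algebraMap A B a) := by
    intro a
    show _ = algebraMap L N (algebraMap B L (algebraMap A B a))
    rw [← IsScalarTower.algebraMap_apply A B L, IsScalarTower.algebraMap_apply A K L,
      ← IsScalarTower.algebraMap_apply K L N, ← IsScalarTower.algebraMap_apply K (AdjoinRoot f) N]
  have hz : (tri (algebraMap A B π) q n).eval₂ β zN = 0 := by
    rw [← tri_map π q n (algebraMap A B), eval₂_map]
    have h1 := congrArg (algebraMap (AdjoinRoot f) N) (root_eval₂ K (f := tri π q n))
    rw [hom_eval₂, map_zero] at h1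
    convert! h1 using 2
    exact RingHom.ext fun a => (hcomm a).symm
  obtain ⟨_, _, hmax⟩ := tri_dvr hB hq hn
  set D := AdjoinRoot (tri (algebraMap A B π) q n)
  have : Module.Finite B D := (tri_monic _ q n hq).finite_adjoinRoot
  let ψ : D →+* N := rootMap β zN hz
  have hψB : ∀ b, ψ (algebraMap B D b) = β b := rootMap_of β zN hz
  have hψinj : Function.Injective ψ := rootMap_injective hB hq hn β hβ zN hz
  refine isWeaklyUnramified_inclOfComap ψ (algebraMap (AdjoinRoot f) N) W
    (exists_frac_of_closure ψ hψinj (Set.range (algebraMap L N) ∪ {zN}) ?_ ?_)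
    (mem_of_isIntegral ψ W fun b => (hψB b).symm ▸ hW.1 b)
    ⟨algebraMap B D (algebraMap A B π), ?_, ?_⟩
    (AdjoinRoot.root _) hmax (AdjoinRoot.root f) (rootMap_root β zN hz).symm
  · rintro y (⟨l, rfl⟩ | rfl)
    · obtain ⟨a, b, hb, rfl⟩ := IsFractionRing.div_surjective (A := B) l
      have hb0 : β b ≠ 0 := (map_ne_zero_iff _ hβ).mpr (nonZeroDivisors.ne_zero hb)
      refine ⟨algebraMap B D a, algebraMap B D b, by rwa [hψB], ?_⟩
      rw [hψB, hψB, map_div₀]
      exact div_mul_cancel₀ _ hb0
    · exact ⟨AdjoinRoot.root _, 1, by simp, by simp [ψ, D]⟩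
  · refine subfield_eq_top (K := K) hgen _ (fun l => Subfield.subset_closure (Or.inl ⟨l, rfl⟩)) fun x => ?_
    refine map_adjoinRoot_mem (algebraMap (AdjoinRoot f) N) _
      (fun k => Subfield.subset_closure (Or.inl ⟨algebraMap K L k, ?_⟩))
      (Subfield.subset_closure (Or.inr rfl)) x
    rw [show AdjoinRoot.of f k = algebraMap K (AdjoinRoot f) k from rfl,
      ← IsScalarTower.algebraMap_apply K (AdjoinRoot f) N,
      ← IsScalarTower.algebraMap_apply K L N]
  · intro h
    have := congrArg ψ h
    rw [hψB, map_zero, map_eq_zero_iff _ hβ] at this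
    exact ((IsDiscreteValuationRing.irreducible_iff_uniformizer _).mpr hB).ne_zero this
  · rw [hψB]
    exact hW.2 _ (hB ▸ Ideal.mem_span_singleton_self _)

end Extension

end Ram24
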