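import Groth.Agent.Ram24.PureStep

/-!
# The trichotomy for a purely inseparable step of degree `p`
-/

universe u

open IsLocalRing Polynomial TensorProduct

namespace Ram24

section Step

variable {A B C K L M : Type u} [CommRing A] [IsDomain A] [IsDiscreteValuationRing A]
  [CommRing B] [IsDomain B] [IsDiscreteValuationRing B] [CommRing C] [IsDomain C]
  [IsDiscreteValuationRing C] [Algebra A B] [Algebra B C] [IsLocalHom (algebraMap B C)]
  [Field K] [Field L] [Field M] [Algebra A K] [IsFractionRing A K] [Algebra B L] [IsFractionRing B L]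
  [Algebra C M] [IsFractionRing C M] [Algebra K L] [Algebra L M] [Algebra K M] [IsScalarTower K L M]
  [Algebra A L] [IsScalarTower A K L] [IsScalarTower A B L] [Algebra B M] [IsScalarTower B L M]
  [IsScalarTower B C M]

theorem isWeakSolution_pureStep {π : A} (hπ : maximalIdeal A = Ideal.span {π}) {p n : ℕ}
    [Fact p.Prime] (hn : 1 ≤ n) (hw : EtRam.IsWeaklyUnramified A B) [CharP L p]
    [IsPurelyInseparable L M] (hdeg : Module.finrank L M = p)
    [Fact (Irreducible ((tri π p n).map (algebraMap A K)))]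
    (x : M) (hx : x ∉ Set.range (algebraMap L M))
    (τ : AdjoinRoot (tri (algebraMap A B π) p n)) (s : B)
    (hτ : τ - algebraMap B _ s ∈ Ideal.span {AdjoinRoot.root (tri (algebraMap A B π) p n)})
    (hs : ∀ b : B, s - b ^ p ∉ maximalIdeal B)
    (hS : ∀ (N : Type u) [Field N] [CharP N p] (ι : M →+* N) (zN : N)
      (hz : (tri (algebraMap A B π) p n).eval₂ (ι.comp (algebraMap B M)) zN = 0),
      ∃ S : N, S ^ p = rootMap (ι.comp (algebraMap B M)) zN hz τ ∧
        ∀ T : Subfield N, zN ∈ T → S ∈ T → ι x ∈ T) :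
    IsField (M ⊗[K] AdjoinRoot ((tri π p n).map (algebraMap A K))) ∧
      EtRam.IsWeakSolution C K M (AdjoinRoot ((tri π p n).map (algebraMap A K))) := by
  have hp : p.Prime := Fact.out
  have hq : 2 ≤ p := hp.two_le
  have hB := maximalIdeal_eq_span hπ B hw
  have hBi := (IsDiscreteValuationRing.irreducible_iff_uniformizer _).mpr hB
  set f := (tri π p n).map (algebraMap A K) with hf
  refine ⟨isField_tensor_adjoinRoot (irreducible_map hπ hq hn K) ?_, ?_⟩
  · have hL : f.map (algebraMap K L) = tri (algebraMap B L (algebraMap A B π)) p n := by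
      rw [hf, Polynomial.map_map, ← IsScalarTower.algebraMap_eq, IsScalarTower.algebraMap_eq A B L,
        tri_map, RingHom.comp_apply]
    rw [IsScalarTower.algebraMap_eq K L M, ← Polynomial.map_map, hL]
    exact (tri_separable hB hq hn L).map_irreducible_of_isPurelyInseparable M
      (tri_irreducible hB hq hn L)
  intro N _ _ _ _ _ _ hgen W hW
  let ι : M →+* N := algebraMap M N
  have : CharP M p := charP_of_injective_algebraMap (algebraMap L M).injective p
  have : CharP N p := charP_of_injective_algebraMap ι.injective p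
  let β : B →+* N := ι.comp (algebraMap B M)
  have hβ : Function.Injective β := ι.injective.comp (by
    rw [IsScalarTower.algebraMap_eq B L M]
    exact (algebraMap L M).injective.comp (IsFractionRing.injective B L))
  let zN : N := algebraMap (AdjoinRoot f) N (AdjoinRoot.root f)
  have hcomm : ∀ a : A, algebraMap (AdjoinRoot f) N (algebraMap K (AdjoinRoot f) (algebraMap A K a))
      = β (algebraMap A B a) := by
    intro a
    show _ = algebraMap M N (algebraMap B M (algebraMap A B a))
    rw [IsScalarTower.algebraMap_apply B L M, ← IsScalarTower.algebraMap_apply A B L,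
      IsScalarTower.algebraMap_apply A K L, ← IsScalarTower.algebraMap_apply K L M,
      ← IsScalarTower.algebraMap_apply K M N, ← IsScalarTower.algebraMap_apply K (AdjoinRoot f) N]
  have hz : (tri (algebraMap A B π) p n).eval₂ β zN = 0 := by
    rw [← tri_map π p n (algebraMap A B), eval₂_map]
    have h1 := congrArg (algebraMap (AdjoinRoot f) N) (root_eval₂ K (f := tri π p n))
    rw [hom_eval₂, map_zero] at h1
    convert! h1 using 2
    exact RingHom.ext fun a => (hcomm a).symm
  obtain ⟨_, _, hmax⟩ := tri_dvr hB hq hn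
  let D := AdjoinRoot (tri (algebraMap A B π) p n)
  have : Module.Finite B D := (tri_monic _ p n hq).finite_adjoinRoot
  let ψ : D →+* N := rootMap β zN hz
  have hψB : ∀ b, ψ (algebraMap B D b) = β b := rootMap_of β zN hz
  have hψinj : Function.Injective ψ := rootMap_injective hB hq hn β hβ zN hz
  obtain ⟨S, hSp, hxT⟩ := hS N ι zN hz
  -- the second step
  have hres : ∀ y : ResidueField D, y ^ p ≠ residue D τ := by
    intro y hy
    obtain ⟨d, rfl⟩ := residue_surjective y
    obtain ⟨b, hb⟩ := residue_surjective_of_eisenstein (tri_monic _ p n hq)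
      (by rw [tri_natDegree _ p n hq]; omega) (tri_low hB hq hn) (tri_zero hB hq) d
    rw [← hmax, ← residue_eq_zero_iff, map_sub, sub_eq_zero] at hb
    have hτ' : residue D τ = residue D (algebraMap B D s) := by
      rw [← sub_eq_zero, ← map_sub, residue_eq_zero_iff, hmax]; exact hτ
    rw [hτ', hb, ← map_pow, ← map_pow, eq_comm, ← sub_eq_zero, ← map_sub, ← map_sub,
      residue_eq_zero_iff] at hy
    refine hs b ?_
    by_contra hu
    exact (mem_maximalIdeal _).mp hy ((notMem_maximalIdeal.mp hu).map (algebraMap B D))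
  have hmon : (X ^ p - Polynomial.C τ : D[X]).Monic := monic_X_pow_sub_C τ hp.ne_zero
  have hirr2 : Irreducible ((X ^ p - Polynomial.C τ : D[X]).map (residue D)) := by
    rw [Polynomial.map_sub, Polynomial.map_pow, map_X, map_C]
    exact X_pow_sub_C_irreducible_of_prime hp hres
  obtain ⟨-, _, _, hmax2⟩ := dvr_of_irreducible_residue hmon hirr2 hmax
  set D₂ := AdjoinRoot (X ^ p - Polynomial.C τ : D[X])
  have : Module.Finite D D₂ := hmon.finite_adjoinRoot
  have hS2 : (X ^ p - Polynomial.C τ : D[X]).eval₂ ψ S = 0 := by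
    rw [eval₂_sub, eval₂_X_pow, eval₂_C, hSp, sub_self]
  let ψ₂ : D₂ →+* N := AdjoinRoot.lift ψ S hS2
  have hψ₂D : ∀ d, ψ₂ (algebraMap D D₂ d) = ψ d := fun d => AdjoinRoot.lift_of hS2
  have hψ₂root : ψ₂ (AdjoinRoot.root _) = S := AdjoinRoot.lift_root hS2
  have hψ₂inj : Function.Injective ψ₂ := by
    rw [RingHom.injective_iff_ker_eq_bot]
    refine Ideal.eq_bot_of_comap_eq_bot (R := D) ?_
    rw [RingHom.comap_ker, show ψ₂.comp (algebraMap D D₂) = ψ from RingHom.ext hψ₂D,
      (RingHom.injective_iff_ker_eq_bot ψ).mp hψinj]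
  have hWB : ∀ b, β b ∈ W := fun b => by
    have := hW.1 (algebraMap B C b)
    rwa [RingHom.comp_apply, ← IsScalarTower.algebraMap_apply B C M] at this
  refine isWeaklyUnramified_inclOfComap ψ₂ (algebraMap (AdjoinRoot f) N) W
    (exists_frac_of_closure ψ₂ hψ₂inj ((ι ∘ algebraMap L M) '' Set.univ ∪ {zN, S}) ?_ ?_)
    (mem_of_isIntegral ψ₂ W fun d => (hψ₂D d).symm ▸
      mem_of_isIntegral ψ W (fun b => (hψB b).symm ▸ hWB b) d)
    ⟨algebraMap D D₂ (algebraMap B D (algebraMap A B π)), ?_, ?_⟩
    (algebraMap D D₂ (AdjoinRoot.root _)) hmax2 (AdjoinRoot.root f)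
    (by rw [hψ₂D]; exact (rootMap_root β zN hz).symm)
  · rintro y (⟨l, -, rfl⟩ | rfl | rfl)
    · obtain ⟨a, b, hb, rfl⟩ := IsFractionRing.div_surjective (A := B) l
      have hb0 : β b ≠ 0 := (map_ne_zero_iff _ hβ).mpr (nonZeroDivisors.ne_zero hb)
      refine ⟨algebraMap D D₂ (algebraMap B D a), algebraMap D D₂ (algebraMap B D b),
        by rwa [hψ₂D, hψB], ?_⟩
      rw [hψ₂D, hψB, hψ₂D, hψB, Function.comp_apply, map_div₀, map_div₀,
        ← IsScalarTower.algebraMap_apply B L M, ← IsScalarTower.algebraMap_apply B L M]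
      exact div_mul_cancel₀ _ hb0
    · exact ⟨algebraMap D D₂ (AdjoinRoot.root _), 1, by simp, by
        rw [map_one, mul_one, hψ₂D]; exact (rootMap_root β zN hz).symm⟩
    · exact ⟨AdjoinRoot.root _, 1, by simp, by rw [map_one, mul_one, hψ₂root]⟩
  · set T := Subfield.closure ((ι ∘ algebraMap L M) '' Set.univ ∪ {zN, S})
    have hTz : zN ∈ T := Subfield.subset_closure (Or.inr (Or.inl rfl))
    have hTS : S ∈ T := Subfield.subset_closure (Or.inr (Or.inr rfl))
    have hM : ∀ m : M, ι m ∈ T := by
      let F : IntermediateField L M := (T.comap ι).toIntermediateField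
        fun l => Subfield.subset_closure (Or.inl ⟨l, trivial, rfl⟩)
      have : IsSimpleOrder (IntermediateField L M) :=
        IntermediateField.isSimpleOrder_of_finrank_prime L M (hdeg ▸ hp)
      rcases IsSimpleOrder.eq_bot_or_eq_top F with h | h
      · exact absurd (IntermediateField.mem_bot.mp (h ▸ (hxT T hTz hTS : x ∈ F))) hx
      · exact fun m => (h ▸ IntermediateField.mem_top : m ∈ F)
    refine subfield_eq_top (K := K) hgen T hM fun y => ?_
    refine map_adjoinRoot_mem (algebraMap (AdjoinRoot f) N) T (fun k => ?_) hTz y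
    rw [show AdjoinRoot.of f k = algebraMap K (AdjoinRoot f) k from rfl,
      ← IsScalarTower.algebraMap_apply K (AdjoinRoot f) N, IsScalarTower.algebraMap_apply K M N]
    exact hM _
  · intro h
    have := congrArg ψ₂ h
    rw [hψ₂D, hψB, map_zero, map_eq_zero_iff _ hβ] at this
    exact hBi.ne_zero this
  · rw [hψ₂D, hψB]
    have := hW.2 (algebraMap B C (algebraMap A B π))
      ((mem_maximalIdeal _).mpr (map_nonunit (algebraMap B C) _
        ((mem_maximalIdeal _).mp (hB ▸ Ideal.mem_span_singleton_self _))))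
    rwa [RingHom.comp_apply, ← IsScalarTower.algebraMap_apply B C M] at this

theorem trichotomy [Algebra A C] [IsScalarTower A B C] (p : ℕ) (hp : p.Prime) (π : A)
    (hπ : maximalIdeal A = Ideal.span {π}) (hB : CAlg.IsNagata B)
    (hinj : Function.Injective (algebraMap B C))
    (hw : EtRam.IsWeaklyUnramified A B) [IsPurelyInseparable L M] (hdeg : Module.finrank L M = p) :
    EtRam.IsWeaklyUnramified A C ∨
      (∃ c : C, c ^ p = algebraMap A C π ∧ Algebra.adjoin B {c} = ⊤) ∨
      ∃ (K₁ : Type u) (_ : Field K₁) (_ : Algebra K K₁),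
        Module.finrank K K₁ = p ∧ Algebra.IsSeparable K K₁ ∧
          EtRam.IsTotallyRamified A ((algebraMap K K₁).comp (algebraMap A K)) ∧
          IsField (L ⊗[K] K₁) ∧ IsField (M ⊗[K] K₁) ∧
          EtRam.IsWeakSolution B K L K₁ ∧ EtRam.IsWeakSolution C K M K₁ := by
  have : Fact p.Prime := ⟨hp⟩
  obtain ⟨q, hq⟩ := ExpChar.exists L
  have : CharP L p := by
    have : FiniteDimensional L M := FiniteDimensional.of_finrank_pos (hdeg ▸ hp.pos)
    obtain ⟨k, hk⟩ := IsPurelyInseparable.finrank_eq_pow L M q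
    rw [hdeg] at hk
    cases hq with
    | zero => rw [one_pow] at hk; exact absurd hk hp.ne_one
    | prime hqp =>
      have : q = p := by
        have h1 : p ∣ q ^ k := hk ▸ dvd_rfl
        exact ((Nat.prime_dvd_prime_iff_eq hp hqp).mp (hp.dvd_of_dvd_pow h1)).symm
      subst this
      assumption
  set πB : B := algebraMap A B π with hπBdef
  have hBm := maximalIdeal_eq_span hπ B hw
  have hBi := (IsDiscreteValuationRing.irreducible_iff_uniformizer _).mpr hBm
  obtain ⟨c, hc'⟩ := IsDiscreteValuationRing.exists_irreducible C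
  have hcm := (IsDiscreteValuationRing.irreducible_iff_uniformizer _).mp hc'
  have hinjM : Function.Injective (algebraMap B M) := by
    rw [IsScalarTower.algebraMap_eq B L M]
    exact (algebraMap L M).injective.comp (IsFractionRing.injective B L)
  rcases dichotomy (M := M) (L := L) p hdeg hBm hinj hcm with he | ⟨hram, u, hu⟩
  · left
    rw [EtRam.IsWeaklyUnramified, IsScalarTower.algebraMap_eq A B C, ← Ideal.map_map, hw, he]
  by_cases hroot : ∃ y : M, y ^ p = algebraMap B M πB
  · right; left
    obtain ⟨y, hy⟩ := hroot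
    obtain ⟨c', rfl⟩ := (mem_range_iff_pow (B := B) (C := C) p hdeg y).mpr ⟨πB, hy.symm⟩
    have hc'' : c' ^ p = algebraMap B C πB :=
      IsFractionRing.injective C M (by rw [map_pow, hy, ← IsScalarTower.algebraMap_apply B C M])
    exact ⟨c', by rw [hc'', ← IsScalarTower.algebraMap_apply A B C],
      adjoin_eq_top p hdeg hB hBm hinj hram hc''⟩
  right; right
  push Not at hroot
  classical
  have hex := exists_not_approx (M := M) (L := L) p hdeg hB hBm hroot
  -- the best approximation
  let k := Nat.find hex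
  have hk : ¬ ∃ (y : M) (t : B), y ^ p = algebraMap B M (πB - πB ^ k * t) := Nat.find_spec hex
  have hk2 : 2 ≤ k := by
    by_contra hlt
    rcases (show k = 0 ∨ k = 1 by omega) with h | h
    · exact hk ⟨0, πB, by rw [h, zero_pow hp.ne_zero]; simp⟩
    · exact hk ⟨0, 1, by rw [h, zero_pow hp.ne_zero]; simp⟩
  set m := k - 1 with hm
  have hkm : k = m + 1 := by omega
  obtain ⟨x₀, t₀, hx₀⟩ : ∃ (y : M) (t : B), y ^ p = algebraMap B M (πB - πB ^ m * t) := by
    by_contra h
    exact Nat.find_min hex (show m < k by omega) h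
  have hmemB : ∀ b : B, b ∈ maximalIdeal B → ∃ t, b = πB * t := fun b hb => by
    rw [hBm, Ideal.mem_span_singleton] at hb; exact hb
  have hcu : (algebraMap C M c) ^ p = algebraMap B M (u * πB) := by
    rw [← map_pow, hu, ← IsScalarTower.algebraMap_apply]
  have notmemL : ∀ (x : M) (w : Bˣ), x ^ p = algebraMap B M (w * πB) → x ∉ Set.range (algebraMap L M) := by
    rintro x w hxw ⟨l, rfl⟩
    obtain ⟨cc, hcc⟩ := (mem_range_iff_pow (B := B) (C := C) p hdeg (algebraMap L M l)).mpr
      ⟨(w : B) * πB, hxw.symm⟩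
    obtain ⟨b, rfl⟩ := mem_range_of_algebraMap_mem (B := B) (C := C) (M := M) l ⟨cc, hcc⟩
    rw [← IsScalarTower.algebraMap_apply, ← map_pow] at hxw
    have h1 : b ^ p = w * πB := hinjM hxw
    obtain ⟨r, hr⟩ := hBm ▸ (show b ∈ maximalIdeal B from
      (maximalIdeal.isMaximal B).isPrime.mem_of_pow_mem p (h1 ▸ (hBm ▸ Ideal.mul_mem_left _ _
        (Ideal.mem_span_singleton_self πB)))) |> Ideal.mem_span_singleton.mp
    have h2 : (πB ^ p) * r ^ p = (w : B) * πB := by rw [← h1, hr, mul_pow]
    have h3 : πB ^ p ∣ πB ^ 1 := by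
      rw [pow_one]
      exact (Units.dvd_mul_left (u := w)).mp ⟨r ^ p, h2.symm⟩
    have := (pow_dvd_pow_iff hBi.ne_zero hBi.not_isUnit).mp h3
    exact absurd this (by have := hp.two_le; omega)
  clear_value m
  have hn : 1 ≤ m := by omega
  have hp2 : 2 ≤ p := hp.two_le
  have : Fact (Irreducible ((tri π p m).map (algebraMap A K))) := ⟨irreducible_map hπ hp2 hn K⟩
  obtain ⟨v, hv, hπv⟩ := exists_unit_tri (q := p) hBm hp2 hn
  let D := AdjoinRoot (tri πB p m)
  let r : D := AdjoinRoot.root _
  obtain ⟨_, _, hmax⟩ := tri_dvr hBm hp2 hn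
  have hv1 : v - 1 ∈ Ideal.span {r} :=
    Ideal.mem_span_singleton.mpr ⟨algebraMap B D πB ^ (m - 1) * v, by linear_combination hv⟩
  suffices h : IsField (M ⊗[K] AdjoinRoot ((tri π p m).map (algebraMap A K))) ∧
      EtRam.IsWeakSolution C K M (AdjoinRoot ((tri π p m).map (algebraMap A K))) by
    refine ⟨AdjoinRoot ((tri π p m).map (algebraMap A K)), inferInstance, inferInstance, ?_,
      isSeparable_adjoinRoot hπ hp2 hn K, isTotallyRamified_adjoinRoot hπ hp2 hn K,
      isField_tensor hπ hp2 hn K B L hw, h.1, isWeakSolution_adjoinRoot hπ hp2 hn K B L hw, h.2⟩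
    rw [(AdjoinRoot.powerBasis (irreducible_map hπ hp2 hn K).ne_zero).finrank,
      AdjoinRoot.powerBasis_dim, natDegree_map_eq_of_injective (IsFractionRing.injective A K),
      tri_natDegree π p m hp2]
  rcases (show m = 1 ∨ 2 ≤ m by omega) with hm1 | hm2
  · -- the unit is not a `p`-th power in the residue field
    refine isWeakSolution_pureStep (n := m) hπ hn hw hdeg (algebraMap C M c) (notmemL _ u hcu)
      (algebraMap B D u * v) u ?_ ?_ ?_
    · rw [show algebraMap B D u * v - algebraMap B D u = algebraMap B D u * (v - 1) by ring]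
      exact Ideal.mul_mem_left _ _ hv1
    · intro b hb
      have hbu : IsUnit b := by
        by_contra hbn
        have hbm : b ^ p ∈ maximalIdeal B :=
          Ideal.pow_mem_of_mem _ ((mem_maximalIdeal b).mpr hbn) p hp.pos
        have := add_mem hb hbm
        rw [sub_add_cancel] at this
        exact (mem_maximalIdeal _).mp this u.isUnit
      obtain ⟨t', ht'⟩ := hmemB _ hb
      obtain ⟨b', rfl⟩ := hbu
      refine hk ⟨algebraMap C M c * algebraMap B M (b'⁻¹ : Bˣ), -(t' * ((b'⁻¹ : Bˣ) : B) ^ p), ?_⟩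
      rw [mul_pow, hcu, ← map_pow, ← map_mul]
      congr 1
      have hone : (b' : B) ^ p * ((b'⁻¹ : Bˣ) : B) ^ p = 1 := by
        rw [← mul_pow, Units.mul_inv, one_pow]
      rw [hkm, hm1]
      linear_combination (πB * ((b'⁻¹ : Bˣ) : B) ^ p) * ht' + πB * hone
    · intro N _ _ ι zN hz
      set ψ : D →+* N := rootMap (ι.comp (algebraMap B M)) zN hz
      have hβπ : ψ (algebraMap B D πB) = ι (algebraMap B M πB) := rootMap_of _ _ hz πB
      have hzero : zN ≠ 0 := fun h => by
        have := congrArg ψ hπv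
        rw [map_mul, map_pow, rootMap_root, h, zero_pow hp.ne_zero, zero_mul, hβπ,
          map_eq_zero_iff _ ι.injective, map_eq_zero_iff _ hinjM] at this
        exact hBi.ne_zero this
      refine ⟨ι (algebraMap C M c) / zN, ?_, fun T hz' hS' => ?_⟩
      · rw [div_pow, ← map_pow, hcu, div_eq_iff (pow_ne_zero _ hzero), map_mul, map_mul,
          ← hβπ, hπv, map_mul, map_pow, rootMap_root, map_mul, rootMap_of]
        rw [RingHom.comp_apply]
        ring
      · have := T.mul_mem hS' hz'
        rwa [div_mul_cancel₀ _ hzero] at this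
  · -- the error term is not a `p`-th power in the residue field
    have hunit : IsUnit (1 - πB ^ (m - 1) * t₀) :=
      isUnit_one_sub_self_of_mem_nonunits _ ((mem_maximalIdeal _).mp
        (Ideal.mul_mem_right _ _ (Ideal.pow_mem_of_mem _
          (hBm ▸ Ideal.mem_span_singleton_self πB) _ (by omega))))
    have hfac : πB - πB ^ m * t₀ = (1 - πB ^ (m - 1) * t₀) * πB := by
      have : πB ^ m = πB ^ (m - 1) * πB := by rw [← pow_succ, Nat.sub_add_cancel hn]
      rw [this]; ring
    have hnot : ∀ b : B, t₀ - b ^ p ∉ maximalIdeal B := by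
      intro b hb
      have hpm : ∀ a : B, (1 - πB ^ (m - 1) * t₀) ^ m * a - a ∈ maximalIdeal B := by
        intro a
        rw [← residue_eq_zero_iff, map_sub, map_mul, map_pow, map_sub, map_mul, map_pow, map_one,
          (residue_eq_zero_iff _).mpr (hBm ▸ Ideal.mem_span_singleton_self πB),
          zero_pow (by omega), zero_mul, sub_zero, one_pow, one_mul, sub_self]
      obtain ⟨t', ht'⟩ := hmemB _ (sub_mem hb (hpm (b ^ p)))
      refine hk ⟨x₀ + x₀ ^ m * algebraMap B M b, t', ?_⟩
      have : CharP M p := charP_of_injective_algebraMap (algebraMap L M).injective p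
      rw [add_pow_char, mul_pow, ← pow_mul, mul_comm m p, pow_mul, hx₀,
        ← map_pow (algebraMap B M), ← map_pow (algebraMap B M), ← map_mul, ← map_add]
      congr 1
      rw [hfac, hkm, mul_pow]
      have hsplit : πB ^ m = πB ^ (m - 1) * πB := by rw [← pow_succ, Nat.sub_add_cancel hn]
      linear_combination (t₀ * hsplit) - πB ^ m * ht'
    have hx₀' : x₀ ^ p = algebraMap B M (hunit.unit * πB) := by
      rw [hx₀, hfac, IsUnit.unit_spec]
    refine isWeakSolution_pureStep (n := m) hπ hn hw hdeg x₀ (notmemL _ hunit.unit hx₀')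
      (v ^ m * (r - algebraMap B D t₀)) (-t₀) ?_ ?_ ?_
    · have h1 : v ^ m - 1 ∈ Ideal.span {r} := by
        rw [Ideal.mem_span_singleton] at hv1 ⊢
        exact hv1.trans (sub_one_dvd_pow_sub_one v m)
      rw [map_neg, show v ^ m * (r - algebraMap B D t₀) - -algebraMap B D t₀ =
        r * v ^ m - algebraMap B D t₀ * (v ^ m - 1) by ring]
      exact sub_mem (Ideal.mul_mem_right _ _ (Ideal.mem_span_singleton_self r))
        (Ideal.mul_mem_left _ _ h1)
    · intro b hb
      have : CharP B p := RingHom.charP (algebraMap B L) (IsFractionRing.injective B L) p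
      refine hnot (-b) ?_
      have hneg : (-b) ^ p = -(b ^ p) := by
        have := sub_pow_char (p := p) (0 : B) b
        simpa [zero_pow hp.ne_zero] using this
      rw [hneg, show t₀ - -(b ^ p) = -(-t₀ - b ^ p) by ring]
      exact neg_mem hb
    · intro N _ _ ι zN hz
      set ψ : D →+* N := rootMap (ι.comp (algebraMap B M)) zN hz
      set β := ι.comp (algebraMap B M)
      have hβπ : ψ (algebraMap B D πB) = β πB := rootMap_of _ _ hz πB
      have hψr : ψ r = zN := rootMap_root _ _ hz
      have hv' := congrArg ψ hv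
      rw [map_mul, map_sub, map_mul, map_pow, hβπ, hψr, map_one] at hv'
      have hπ' := congrArg ψ hπv
      rw [hβπ, map_mul, map_pow, hψr] at hπ'
      have hzero : zN ≠ 0 := fun h => by
        rw [h, zero_pow hp.ne_zero, zero_mul] at hπ'
        exact hBi.ne_zero (hinjM (ι.injective (hπ'.trans (map_zero _).symm) |>.trans
          (map_zero _).symm))
      refine ⟨(ι x₀ / zN - 1) / zN ^ (m - 1), ?_, fun T hz' hS' => ?_⟩
      · have hx' : ι x₀ ^ p = β (1 - πB ^ (m - 1) * t₀) * β πB := by
          rw [← map_mul, ← hfac, ← map_pow, hx₀]; rfl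
        have hβt : ψ (algebraMap B D t₀) = β t₀ := rootMap_of _ _ hz t₀
        rw [div_pow, sub_pow_char, div_pow, one_pow, hx', map_sub β, map_mul β, map_pow β, map_one β,
          div_eq_iff (pow_ne_zero _ (pow_ne_zero _ hzero)), map_mul, map_pow, map_sub, hψr, hβt,
          ← pow_mul zN (m - 1) p, Nat.mul_comm (m - 1) p, pow_mul zN p (m - 1)]
        rw [div_sub_one (pow_ne_zero _ hzero), div_eq_iff (pow_ne_zero _ hzero)]
        obtain ⟨j, hj⟩ : ∃ j, m = j + 1 := ⟨m - 1, by omega⟩
        subst hj
        rw [Nat.add_sub_cancel] at *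
        rw [hπ'] at hv' ⊢
        linear_combination (zN ^ p) * hv'
      · have h1 := T.mul_mem (T.add_mem (T.mul_mem hS' (T.pow_mem hz' (m - 1))) T.one_mem) hz'
        rwa [div_mul_cancel₀ _ (pow_ne_zero _ hzero), sub_add_cancel, div_mul_cancel₀ _ hzero] at h1

end Step

end Ram24
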