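import Groth.Agent.Ram24.Overring
import Groth.Agent.Ram24.AdjoinDVR

/-!
# The totally ramified extensions given by `X ^ q + π ^ n X - π`
-/

universe u

open IsLocalRing Polynomial TensorProduct

namespace Ram24

/-- The polynomial `X ^ q + π ^ n X - π`. -/
noncomputable def tri {R : Type u} [CommRing R] (π : R) (q n : ℕ) : R[X] :=
  X ^ q + C (π ^ n) * X - C π

section Basic

variable {R : Type u} [CommRing R] (π : R) (q n : ℕ)

theorem tri_map {S : Type u} [CommRing S] (g : R →+* S) : (tri π q n).map g = tri (g π) q n := by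
  simp [tri]

theorem tri_monic [Nontrivial R] (hq : 2 ≤ q) : (tri π q n).Monic := by
  rw [tri, add_sub_assoc]
  refine monic_X_pow_add ((degree_sub_le _ _).trans_lt (max_lt ?_ ?_))
  · exact lt_of_le_of_lt (degree_C_mul_X_le _) (by exact_mod_cast hq)
  · exact lt_of_le_of_lt degree_C_le (by exact_mod_cast (by omega : 0 < q))

theorem tri_natDegree [Nontrivial R] (hq : 2 ≤ q) : (tri π q n).natDegree = q := by
  have h : (C (π ^ n) * X - C π).degree < (q : WithBot ℕ) := (degree_sub_le _ _).trans_lt (max_lt
    (lt_of_le_of_lt (degree_C_mul_X_le _) (by exact_mod_cast hq))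
    (lt_of_le_of_lt degree_C_le (by exact_mod_cast (by omega : 0 < q))))
  rw [tri, add_sub_assoc]
  refine natDegree_eq_of_degree_eq_some ?_
  rw [degree_add_eq_left_of_degree_lt (by rwa [degree_X_pow]), degree_X_pow]

theorem tri_coeff (hq : 2 ≤ q) (i : ℕ) :
    (tri π q n).coeff i = if i = q then 1 else if i = 1 then π ^ n else if i = 0 then -π else 0 := by
  simp only [tri, coeff_sub, coeff_add, coeff_X_pow, coeff_C_mul, coeff_X, coeff_C]
  split_ifs <;> first | omega | simp

theorem aeval_tri {S : Type u} [CommRing S] [Algebra R S] (x : S) :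
    aeval x (tri π q n) = x ^ q + algebraMap R S π ^ n * x - algebraMap R S π := by
  simp [tri]

end Basic

section DVR

variable {A : Type u} [CommRing A] [IsDomain A] [IsDiscreteValuationRing A] {π : A}
  (hπ : maximalIdeal A = Ideal.span {π}) {q n : ℕ} (hq : 2 ≤ q) (hn : 1 ≤ n)

include hπ hq hn

theorem tri_low : ∀ i < (tri π q n).natDegree, (tri π q n).coeff i ∈ maximalIdeal A := by
  intro i hi
  rw [tri_natDegree π q n hq] at hi
  rw [tri_coeff π q n hq, if_neg hi.ne, hπ]
  split_ifs
  · exact Ideal.mem_span_singleton.mpr (dvd_pow_self π (by omega))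
  · exact neg_mem (Ideal.mem_span_singleton_self π)
  · exact zero_mem _

omit hn in
theorem tri_zero : maximalIdeal A = Ideal.span {(tri π q n).coeff 0} := by
  rw [tri_coeff π q n hq, if_neg (by omega), if_neg (by omega), if_pos rfl, hπ,
    Ideal.span_singleton_neg]

theorem tri_dvr :
    ∃ (_ : IsDomain (AdjoinRoot (tri π q n))) (_ : IsDiscreteValuationRing (AdjoinRoot (tri π q n))),
      maximalIdeal (AdjoinRoot (tri π q n)) = Ideal.span {AdjoinRoot.root (tri π q n)} :=
  dvr_of_eisenstein (tri_monic π q n hq) (by rw [tri_natDegree π q n hq]; omega)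
    (tri_low hπ hq hn) (tri_zero hπ hq)

theorem tri_irreducible (K : Type u) [Field K] [Algebra A K] [IsFractionRing A K] :
    Irreducible (tri (algebraMap A K π) q n) := by
  rw [← tri_map]
  exact ((tri_monic π q n hq).irreducible_iff_irreducible_map_fraction_map).mp
    (irreducible_of_eisenstein (tri_monic π q n hq) (by rw [tri_natDegree π q n hq]; omega)
      (tri_low hπ hq hn) (tri_zero hπ hq))

theorem tri_separable (K : Type u) [Field K] [Algebra A K] [IsFractionRing A K] :
    (tri (algebraMap A K π) q n).Separable := by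
  rw [separable_iff_derivative_ne_zero (tri_irreducible hπ hq hn K)]
  intro h
  have h1 := congrArg (fun f => coeff f 0) h
  simp only [coeff_derivative, zero_add, tri_coeff _ q n hq, if_neg (show 1 ≠ q by omega),
    coeff_zero] at h1
  have hπ0 : algebraMap A K π ≠ 0 := (map_ne_zero_iff _ (IsFractionRing.injective A K)).mpr
    ((IsDiscreteValuationRing.irreducible_iff_uniformizer _).mpr hπ).ne_zero
  simp [hπ0] at h1

end DVR

/-- The tensor product with an adjoined root is a field when the polynomial stays irreducible. -/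
theorem isField_tensor_adjoinRoot {K L : Type u} [Field K] [Field L] [Algebra K L] {f : K[X]}
    (hf : Irreducible f) (hfL : Irreducible (f.map (algebraMap K L))) :
    IsField (L ⊗[K] AdjoinRoot f) := by
  have := Fact.mk hf
  have := Fact.mk hfL
  let F := AdjoinRoot (f.map (algebraMap K L))
  let ι : AdjoinRoot f →ₐ[K] F :=
    AdjoinRoot.liftAlgHom f (Algebra.ofId K F) (AdjoinRoot.root _) (by
      have h := AdjoinRoot.eval₂_root (f.map (algebraMap K L))
      rw [eval₂_map] at h
      exact h)
  let Φ : L ⊗[K] AdjoinRoot f →ₐ[L] F :=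
    Algebra.TensorProduct.lift (Algebra.ofId L F) ι fun _ _ => Commute.all _ _
  have hsurj : Function.Surjective Φ := by
    rw [← AlgHom.range_eq_top, eq_top_iff, ← AdjoinRoot.adjoinRoot_eq_top, Algebra.adjoin_le_iff,
      Set.singleton_subset_iff]
    exact ⟨1 ⊗ₜ AdjoinRoot.root f, by
      simp only [AlgHom.toRingHom_eq_coe, RingHom.coe_coe, Φ, Algebra.TensorProduct.lift_tmul, map_one, one_mul, ι]
      exact AdjoinRoot.lift_root (by
        have h := AdjoinRoot.eval₂_root (f.map (algebraMap K L))
        rw [eval₂_map] at h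
        exact h)⟩
  have hfin1 : Module.Finite K (AdjoinRoot f) := (AdjoinRoot.powerBasis hf.ne_zero).finite
  have hfin2 : Module.Finite L F := (AdjoinRoot.powerBasis hfL.ne_zero).finite
  have hdim : Module.finrank L (L ⊗[K] AdjoinRoot f) = Module.finrank L F := by
    rw [Module.finrank_baseChange, (AdjoinRoot.powerBasis hf.ne_zero).finrank,
      (AdjoinRoot.powerBasis hfL.ne_zero).finrank, AdjoinRoot.powerBasis_dim,
      AdjoinRoot.powerBasis_dim, natDegree_map]
  exact MulEquiv.isField (Field.toIsField F) (AlgEquiv.ofBijective Φ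
    ⟨(LinearMap.injective_iff_surjective_of_finrank_eq_finrank hdim).mpr hsurj, hsurj⟩).toMulEquiv

/-- The image in `N` of `AdjoinRoot f` lies in any subfield containing the image of `K` and of
the root. -/
theorem map_adjoinRoot_mem {K N : Type u} [Field K] [Field N] {f : K[X]} [Fact (Irreducible f)]
    (g : AdjoinRoot f →+* N) (S : Subfield N) (hK : ∀ k : K, g (AdjoinRoot.of f k) ∈ S)
    (hr : g (AdjoinRoot.root f) ∈ S) (x : AdjoinRoot f) : g x ∈ S := by
  have hx : x ∈ Algebra.adjoin K ({AdjoinRoot.root f} : Set (AdjoinRoot f)) := by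
    rw [AdjoinRoot.adjoinRoot_eq_top]; trivial
  induction hx using Algebra.adjoin_induction with
  | mem y hy => rw [Set.mem_singleton_iff.mp hy]; exact hr
  | algebraMap k => exact hK k
  | add a b _ _ ha hb => rw [map_add]; exact add_mem ha hb
  | mul a b _ _ ha hb => rw [map_mul]; exact mul_mem ha hb

/-- A subfield containing the two generating fields is everything. -/
theorem subfield_eq_top {K L K₁ N : Type u} [Field K] [Field L] [Field K₁] [Field N] [Algebra K L]
    [Algebra K K₁] [Algebra L N] [Algebra K₁ N]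
    (hgen : Algebra.adjoin L (Set.range (algebraMap K₁ N)) = ⊤) (S : Subfield N)
    (hL : ∀ l : L, algebraMap L N l ∈ S) (hK₁ : ∀ x : K₁, algebraMap K₁ N x ∈ S) : S = ⊤ := by
  rw [eq_top_iff]
  rintro y -
  have hy : y ∈ Algebra.adjoin L (Set.range (algebraMap K₁ N)) := hgen ▸ Algebra.mem_top
  induction hy using Algebra.adjoin_induction with
  | mem z hz => obtain ⟨x, rfl⟩ := hz; exact hK₁ x
  | algebraMap l => exact hL l
  | add a b _ _ ha hb => exact add_mem ha hb
  | mul a b _ _ ha hb => exact mul_mem ha hb

end Ram24
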